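import Mathlib
import Cfsg.Agent.Lib.Grp.DisconnectedGraph

/-!
# Automorphism groups of an elementary group of order eight without normal 2-subgroups (for S3249)
-/

set_option autoImplicit false
set_option linter.style.haveILetI false

namespace Cfsg.Agent.Fus.LenSeven

open Subgroup

universe u

variable {U : Type u} [Group U] [Finite U]

/-- The fixed points of an automorphism. -/
def fixed (f : MulAut U) : Subgroup U where
  carrier := {x | f x = x}
  one_mem' := map_one f
  mul_mem' := fun {x y} hx hy => by simp only [Set.mem_setOf_eq, map_mul] at *; rw [hx, hy]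
  inv_mem' := fun {x} hx => by simp only [Set.mem_setOf_eq, map_inv] at *; rw [hx]

omit [Finite U] in
theorem mem_fixed {f : MulAut U} {x : U} : x ∈ fixed f ↔ f x = x := Iff.rfl

/-- The four elements of a four group. -/
theorem four_eq {W : Subgroup U} (hW : Nat.card W = 4) {a b : U} (ha : a ∈ W) (hb : b ∈ W) (ha1 : a ≠ 1)
    (hb1 : b ≠ 1) (hab : a ≠ b) (h1 : a * b ≠ 1) {x : U} (hx : x ∈ W) : x = 1 ∨ x = a ∨ x = b ∨ x = a * b := by
  classical
  haveI : Fintype W := Fintype.ofFinite _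
  let s : Finset W := {1, ⟨a, ha⟩, ⟨b, hb⟩, ⟨a * b, mul_mem ha hb⟩}
  have hs : s.card = 4 := by
    simp only [s]
    rw [Finset.card_insert_of_notMem, Finset.card_insert_of_notMem, Finset.card_insert_of_notMem,
      Finset.card_singleton]
    · simp only [Finset.mem_singleton, Subtype.ext_iff]
      exact fun e => ha1 (right_eq_mul.1 e)
    · simp only [Finset.mem_insert, Finset.mem_singleton, Subtype.ext_iff, not_or]
      exact ⟨hab, fun e => hb1 (left_eq_mul.1 e)⟩
    · simp only [Finset.mem_insert, Finset.mem_singleton, Subtype.ext_iff, OneMemClass.coe_one, not_or]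
      exact ⟨ha1.symm, hb1.symm, h1.symm⟩
  have hu : s = Finset.univ :=
    Finset.eq_univ_of_card s (by rw [hs, ← Nat.card_eq_fintype_card, hW])
  have := hu ▸ Finset.mem_univ (⟨x, hx⟩ : W)
  simpa [s, Subtype.ext_iff] using this

section

variable (h8 : Nat.card U = 8) (hsq : ∀ x : U, x * x = 1)
include hsq

omit [Finite U] in
theorem elem_comm (x y : U) : x * y = y * x := by
  have := hsq (x * y)
  calc x * y = x * (x * y * (x * y)) * y := by rw [this, mul_one]
    _ = x * x * (y * x) * (y * y) := by group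
    _ = y * x := by rw [hsq, hsq, one_mul, mul_one]

omit [Finite U] in
theorem eq_of_mul_eq_one {x y : U} (h : x * y = 1) : y = x :=
  (inv_eq_of_mul_eq_one_right h).symm.trans (inv_eq_of_mul_eq_one_right (hsq x))

include h8

theorem card_fixed (f : MulAut U) : ∃ i ≤ 3, Nat.card (fixed f) = 2 ^ i :=
  (Nat.dvd_prime_pow Nat.prime_two).1 (by
    have := card_subgroup_dvd_card (fixed f)
    rw [h8] at this
    exact this)

theorem fixed_small {f : MulAut U} {p : ℕ} (hp : p.Prime) (hp2 : p ≠ 2) (hf : f ^ p = 1) (hf1 : f ≠ 1) :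
    (p = 3 ∧ Nat.card (fixed f) = 2) ∨ (p = 7 ∧ Nat.card (fixed f) = 1) := by
  classical
  haveI : Fact p.Prime := ⟨hp⟩
  haveI : Fintype U := Fintype.ofFinite U
  obtain ⟨σ, hσ⟩ : ∃ σ : Function.End U, σ = (f : U → U) := ⟨(f : U → U), rfl⟩
  have h1 : Fintype.card U ≡ Fintype.card (Function.fixedPoints σ) [MOD p] := by
    refine Equiv.Perm.card_fixedPoints_modEq (f := σ) (n := 1) ?_
    rw [pow_one]
    have h : ∀ n : ℕ, ∀ y : U, (σ ^ n) y = (f ^ n) y := by
      intro n
      induction n with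
      | zero => intro y; rfl
      | succ n ih =>
        intro y
        rw [pow_succ', pow_succ']
        show σ ((σ ^ n) y) = f ((f ^ n) y)
        rw [ih, hσ]
    funext x
    rw [h, hf]; rfl
  have h2 : Fintype.card (Function.fixedPoints σ) = Nat.card (fixed f) := by
    rw [← Nat.card_eq_fintype_card]
    exact Nat.card_congr (Equiv.subtypeEquivRight fun x => by subst hσ; exact Iff.rfl)
  rw [← Nat.card_eq_fintype_card, h8, h2] at h1
  obtain ⟨i, hi3, hi⟩ := card_fixed h8 hsq f
  have hsmall : i ≤ 1 := by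
    by_contra hlt
    have hff : ∀ x, f (f x) = x := by
      intro x
      by_cases hx : x ∈ fixed f
      · rw [mem_fixed.1 hx, mem_fixed.1 hx]
      have hfx : f x ∉ fixed f := fun e => hx (f.injective (mem_fixed.1 e))
      have hidx2 : (fixed f).index = 2 := by
        have h1 : (fixed f).index ≠ 1 := fun e => hx (index_eq_one.1 e ▸ mem_top x)
        have h2 : (fixed f).index ≠ 0 := index_ne_zero_of_finite
        have h3 := (fixed f).card_mul_index
        rw [hi, h8] at h3
        have h4 : 4 ≤ 2 ^ i := (show 4 = 2 ^ 2 by norm_num) ▸ Nat.pow_le_pow_right two_pos (show 2 ≤ i by omega)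
        have : (fixed f).index ≤ 2 := by nlinarith
        omega
      have := mem_fixed.1 ((mul_mem_iff_of_index_two hidx2).2 (iff_of_false hx hfx))
      rw [map_mul, elem_comm hsq (f x)] at this
      exact mul_right_cancel this
    refine hf1 ?_
    obtain ⟨m, hm⟩ := hp.odd_of_ne_two hp2
    have hf2 : f ^ 2 = 1 := MulEquiv.ext fun x => by rw [sq]; exact hff x
    rwa [hm, pow_succ, pow_mul, hf2, one_pow, one_mul] at hf
  rw [hi] at h1 ⊢
  interval_cases i
  · right
    refine ⟨?_, by norm_num⟩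
    have : p ∣ 7 := (Nat.modEq_iff_dvd' (by norm_num)).1 h1.symm
    exact (Nat.prime_dvd_prime_iff_eq hp (by norm_num)).1 this
  · left
    refine ⟨?_, by norm_num⟩
    have h6 : p ∣ 2 * 3 := (Nat.modEq_iff_dvd' (by norm_num)).1 h1.symm
    rcases (hp.dvd_mul).1 h6 with h | h
    · exact absurd ((Nat.prime_dvd_prime_iff_eq hp Nat.prime_two).1 h) hp2
    · exact (Nat.prime_dvd_prime_iff_eq hp Nat.prime_three).1 h

/-- An automorphism of order seven fixes only the identity. -/
theorem seven_free {δ : MulAut U} (hδ : δ ^ 7 = 1) {x : U} (hx : x ≠ 1) (hδx : δ x = x) : δ = 1 := by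
  by_contra hne
  rcases fixed_small h8 hsq (by norm_num) (by norm_num) hδ hne with ⟨h, -⟩ | ⟨-, h⟩
  · omega
  · exact hx (mem_bot.1 ((card_eq_one.1 h).le (mem_fixed.2 hδx)))

/-- An automorphism of order three fixes at most two elements. -/
theorem three_free {δ : MulAut U} (hδ : δ ^ 3 = 1) {c x : U} (hc : c ≠ 1) (hδc : δ c = c) (hx : x ≠ 1)
    (hxc : x ≠ c) (hδx : δ x = x) : δ = 1 := by
  by_contra hne
  rcases fixed_small h8 hsq (by norm_num) (by norm_num) hδ hne with ⟨-, h⟩ | ⟨h, -⟩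
  · obtain ⟨o, ho⟩ := (Nat.card_eq_two_iff' (1 : fixed δ)).1 h
    exact hxc (congrArg Subtype.val ((ho.2 ⟨x, hδx⟩ fun e => hx (congrArg Subtype.val e)).trans
      (ho.2 ⟨c, hδc⟩ fun e => hc (congrArg Subtype.val e)).symm))
  · omega

theorem fixed_invol {β : MulAut U} (hβ : β * β = 1) (hβ1 : β ≠ 1) :
    Nat.card (fixed β) = 4 ∧ ∃ w, w ≠ 1 ∧ β w = w ∧ ∀ x, x * β x = 1 ∨ x * β x = w := by
  classical
  have hββ : ∀ x, β (β x) = x := fun x => by rw [← MulAut.mul_apply, hβ, MulAut.one_apply]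
  let d : U →* U :=
    { toFun := fun x => x * β x
      map_one' := by simp
      map_mul' := fun x y => by
        rw [map_mul, mul_assoc, ← mul_assoc y, elem_comm hsq y (β x)]; group }
  have hker : d.ker = fixed β := by
    ext x
    exact ⟨fun h => eq_of_mul_eq_one hsq h, fun h => show x * β x = 1 by rw [mem_fixed.1 h, hsq]⟩
  have hran : d.range ≤ fixed β := by
    rintro _ ⟨x, rfl⟩
    show β (x * β x) = x * β x
    rw [map_mul, hββ, elem_comm hsq]
  have h1 := (fixed β).card_mul_index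
  have h2 : (fixed β).index = Nat.card d.range := by rw [← hker, index_ker]
  have h3 := card_le_of_le hran
  obtain ⟨i, hi3, hi⟩ := card_fixed h8 hsq β
  have hne : i ≠ 3 := fun e => hβ1 (by
    ext x
    exact mem_fixed.1 ((eq_top_of_card_eq (fixed β) (by rw [hi, e, h8]; norm_num)).ge (mem_top x)))
  rw [hi, h8, h2] at h1
  rw [hi] at h3
  have hi2 : i = 2 := by interval_cases i <;> norm_num at h1 h3 ⊢ <;> omega
  subst hi2
  refine ⟨hi, ?_⟩
  have hr : Nat.card d.range = 2 := by omega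
  obtain ⟨o, ho⟩ := (Nat.card_eq_two_iff' (1 : d.range)).1 hr
  refine ⟨o, fun e => ho.1 (Subtype.ext e), mem_fixed.1 (hran o.2), fun x => ?_⟩
  by_cases e : x * β x = 1
  · exact Or.inl e
  · exact Or.inr (congrArg Subtype.val (ho.2 ⟨_, x, rfl⟩ fun e' => e (congrArg Subtype.val e')))

/-- The structure of such an automorphism group. -/
theorem aut_eight (A : Subgroup (MulAut U)) [Group.IsSolvable A]
    (hcore : ∀ R : Subgroup A, R.Normal → IsPGroup 2 R → R = ⊥) {β : MulAut U} (hβA : β ∈ A)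
    (hβ : β * β = 1) (hβ1 : β ≠ 1) :
    ∃ c w v : U, c ≠ 1 ∧ w ≠ 1 ∧ w ≠ c ∧ β c = c ∧ β w = w ∧ v ∉ fixed β ∧ β v = v * w ∧
      Nat.card (fixed β) = 4 ∧ ∀ α ∈ A, α c = c ∧ ∀ x ∈ ({1, w, v, v * w} : Set U),
        α x ∈ ({1, w, v, v * w} : Set U) := by
  classical
  obtain ⟨hF4, w, hw1, hβw, hdw⟩ := fixed_invol h8 hsq hβ hβ1
  haveI : Nontrivial A := ⟨⟨⟨β, hβA⟩, 1, fun e => hβ1 (congrArg Subtype.val e)⟩⟩
  obtain ⟨p, P, hp, hPn, hPp, hP1⟩ := Grp.Graph.exists_normal_pGroup (G := A)
  haveI : Fact p.Prime := ⟨hp⟩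
  haveI := hPn
  have hp2 : p ≠ 2 := fun e => hP1 (hcore P hPn (e ▸ hPp))
  haveI : Nontrivial P := (nontrivial_iff_ne_bot P).2 hP1
  haveI := hPp.center_nontrivial
  obtain ⟨⟨⟨f0, hf0P⟩, hf0Z⟩, hf0o⟩ := exists_prime_orderOf_dvd_card' (G := center P) p (by
    obtain ⟨n, hn⟩ := IsPGroup.iff_card.1 (hPp.to_subgroup (center P))
    rw [hn]
    refine dvd_pow_self p fun e => ?_
    have := Finite.one_lt_card (α := center P)
    rw [hn, e] at this; simp at this)
  obtain ⟨f, hfd⟩ : ∃ f, f = (f0 : MulAut U) := ⟨_, rfl⟩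
  have hfA : f ∈ A := hfd ▸ f0.2
  have hfo : orderOf f = p := by
    rw [hfd, Subgroup.orderOf_coe]
    rw [← Subgroup.orderOf_coe, ← Subgroup.orderOf_coe] at hf0o
    exact hf0o
  have hfp : f ^ p = 1 := hfo ▸ pow_orderOf_eq_one f
  have hf1 : f ≠ 1 := fun e => by rw [e, orderOf_one] at hfo; exact hp.ne_one hfo.symm
  -- conjugates commute with `f`
  have hcomm : ∀ α ∈ A, Commute f (α * f * α⁻¹) ∧ (α * f * α⁻¹) ^ p = 1 ∧ α * f * α⁻¹ ∈ A := by
    intro α hα
    refine ⟨?_, by rw [conj_pow, hfp, mul_one, mul_inv_cancel], mul_mem (mul_mem hα hfA) (inv_mem hα)⟩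
    have := congrArg (fun t : P => ((t : A) : MulAut U))
      (mem_center_iff.1 hf0Z ⟨⟨α, hα⟩ * f0 * ⟨α, hα⟩⁻¹, hPn.conj_mem f0 hf0P _⟩)
    simp only [coe_mul, coe_inv, ← hfd] at this
    exact this.symm
  have hone : ∀ (δ : MulAut U) {x : U}, x ≠ 1 → δ x ≠ 1 := fun δ x hx e => hx (δ.injective (by rw [e, map_one]))
  rcases fixed_small h8 hsq hp hp2 hfp hf1 with ⟨hp3, hc2⟩ | ⟨hp7, -⟩
  swap
  · -- an element of order seven is inverted by no transvection
    exfalso
    subst hp7
    have hinj : ∀ h : U, h ≠ 1 → ∀ y, y ≠ 1 → ∃ i : ℕ, (f ^ i) h = y := by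
      intro h hh y hy
      let F : Fin 7 → {y : U // y ≠ 1} := fun i => ⟨(f ^ (i : ℕ)) h, hone _ hh⟩
      have hF : Function.Injective F := by
        intro i j e
        have e' : (f ^ (i : ℕ)) h = (f ^ (j : ℕ)) h := congrArg Subtype.val e
        have key : ∀ a b : ℕ, a ≤ b → b < 7 → (f ^ a) h = (f ^ b) h → a = b := by
          intro a b hab hb e
          obtain ⟨m, rfl⟩ := Nat.exists_eq_add_of_le hab
          rw [pow_add, MulAut.mul_apply] at e
          have h0 : f ^ m = 1 := seven_free h8 hsq (by rw [← pow_mul, mul_comm, pow_mul, hfp, one_pow]) hh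
            ((f ^ a).injective e).symm
          have := orderOf_dvd_of_pow_eq_one h0
          rw [hfo] at this
          omega
        rcases le_total (i : ℕ) j with hle | hle
        · exact Fin.ext (key _ _ hle j.isLt e')
        · exact Fin.ext (key _ _ hle i.isLt e'.symm).symm
      haveI : Fintype U := Fintype.ofFinite U
      have hs := ((Fintype.bijective_iff_injective_and_card F).2
        ⟨hF, by rw [Fintype.card_fin, Fintype.card_subtype_compl, Fintype.card_subtype_eq, ← Nat.card_eq_fintype_card,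
          h8]⟩).2
      obtain ⟨i, hi⟩ := hs ⟨y, hy⟩
      exact ⟨i, congrArg Subtype.val hi⟩
    obtain ⟨hgc, hgp, -⟩ := hcomm β hβA
    obtain ⟨j, hj⟩ := hinj w hw1 ((β * f * β⁻¹) w) (hone _ hw1)
    have hgj : β * f * β⁻¹ = f ^ j := by
      have h2 : ((f ^ j)⁻¹ * (β * f * β⁻¹)) ^ 7 = 1 := by
        rw [((hgc.pow_left j).inv_left).mul_pow, hgp, inv_pow, ← pow_mul, mul_comm, pow_mul, hfp, one_pow, inv_one,
          one_mul]
      have h1 := seven_free h8 hsq h2 hw1 (by
        rw [MulAut.mul_apply, ← hj, ← MulAut.mul_apply, inv_mul_cancel, MulAut.one_apply])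
      exact (inv_mul_eq_one.1 h1).symm
    obtain ⟨w2, hw2, hw21, hw2w⟩ : ∃ w2 ∈ fixed β, w2 ≠ 1 ∧ w2 ≠ w := by
      by_contra! hall
      have hle : Nat.card (fixed β) ≤ Nat.card Bool := Nat.card_le_card_of_injective
        (fun x : fixed β => decide ((x : U) = 1)) (fun a b e => Subtype.ext (by
          simp only [decide_eq_decide] at e
          by_cases ha : (a : U) = 1
          · rw [ha, e.1 ha]
          · rw [hall a a.2 ha, hall b b.2 fun hb => ha (e.2 hb)]))
      rw [hF4] at hle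
      simp at hle
    obtain ⟨i, hi⟩ := hinj w hw1 w2 hw21
    have hβi : (β⁻¹ : MulAut U) = β := inv_eq_of_mul_eq_one_right hβ
    have h3 : (f ^ (j * i)) w = w2 := by
      rw [pow_mul, ← hgj, conj_pow, MulAut.mul_apply, MulAut.mul_apply, hβi, hβw, hi, mem_fixed.1 hw2]
    have h4 : f ^ (j * i) = f ^ i := by
      refine (inv_mul_eq_one.1 (seven_free h8 hsq (δ := (f ^ i)⁻¹ * f ^ (j * i)) ?_ hw1 ?_)).symm
      · rw [(((Commute.refl f).pow_pow i (j * i)).inv_left).mul_pow, inv_pow, ← pow_mul, ← pow_mul, mul_comm i,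
          mul_comm (j * i), pow_mul, pow_mul, hfp, one_pow, one_pow, inv_one, one_mul]
      · rw [MulAut.mul_apply, h3, ← hi, ← MulAut.mul_apply, inv_mul_cancel, MulAut.one_apply]
    have h5 : f ^ j = f := by
      rw [pow_eq_pow_iff_modEq, hfo] at h4
      have h7 : ¬ 7 ∣ i := fun hd => by
        obtain ⟨m, rfl⟩ := hd
        rw [pow_mul, hfp, one_pow, MulAut.one_apply] at hi
        exact hw2w hi.symm
      have : j ≡ 1 [MOD 7] := Nat.ModEq.cancel_right_of_coprime
        ((hp.coprime_iff_not_dvd.2 h7)) (by rwa [one_mul])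
      rw [← pow_one f, ← pow_mul, one_mul, pow_eq_pow_iff_modEq, hfo]
      exact this
    have hbf : Commute β f := mul_inv_eq_iff_eq_mul.1 (hgj.trans h5)
    refine hβ1 (MulEquiv.ext fun y => ?_)
    by_cases hy : y = 1
    · rw [hy, map_one, map_one]
    obtain ⟨k, rfl⟩ := hinj w hw1 y hy
    rw [← MulAut.mul_apply, (hbf.pow_right k).eq, MulAut.mul_apply, hβw, MulAut.one_apply]
  -- order three
  subst hp3
  obtain ⟨o, ho⟩ := (Nat.card_eq_two_iff' (1 : fixed f)).1 hc2
  obtain ⟨c, hc⟩ : ∃ c, c = (o : U) := ⟨_, rfl⟩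
  have hc1 : c ≠ 1 := fun e => ho.1 (Subtype.ext (hc ▸ e))
  have hfix : ∀ x, f x = x → x = 1 ∨ x = c := fun x hx => or_iff_not_imp_left.2 fun h1 =>
    hc ▸ congrArg Subtype.val (ho.2 ⟨x, hx⟩ fun e => h1 (congrArg Subtype.val e))
  have hfc : f c = c := hc ▸ mem_fixed.1 o.2
  have hAc : ∀ α ∈ A, α c = c := by
    intro α hα
    obtain ⟨hgc, hgp, -⟩ := hcomm α hα
    have hg : (α * f * α⁻¹) (α c) = α c := by simp [hfc]
    by_contra hne
    -- `f` moves the fixed point of its conjugate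
    have h1 : f (α c) ≠ α c := fun e => (hfix _ e).elim (hone α hc1) hne
    have h2 : (α * f * α⁻¹) (f (α c)) = f (α c) := by
      rw [← MulAut.mul_apply, ← hgc.eq, MulAut.mul_apply, hg]
    have := three_free h8 hsq hgp (hone α hc1) hg (hone f (hone α hc1)) h1 h2
    exact hf1 (conj_eq_one_iff.1 this)
  -- trivial modulo `c` means trivial
  have hR : ∀ α ∈ A, (∀ x, α x = x ∨ α x = x * c) → α = 1 := by
    intro α hα hαx
    let R : Subgroup A :=
      { carrier := {δ | ∀ x, (δ : MulAut U) x = x ∨ (δ : MulAut U) x = x * c}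
        one_mem' := fun x => Or.inl rfl
        mul_mem' := fun {δ ε} hδ hε x => by
          show (δ : MulAut U) ((ε : MulAut U) x) = x ∨ (δ : MulAut U) ((ε : MulAut U) x) = x * c
          rcases hε x with e | e <;> rw [e]
          · exact hδ x
          · rw [map_mul, hAc _ δ.2]
            rcases hδ x with e | e <;> rw [e]
            · exact Or.inr rfl
            · left; rw [mul_assoc, hsq, mul_one]
        inv_mem' := fun {δ} hδ x => by
          show (δ : MulAut U).symm x = x ∨ (δ : MulAut U).symm x = x * c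
          rcases hδ x with e | e
          · left; rw [MulEquiv.symm_apply_eq]; exact e.symm
          · right
            rw [MulEquiv.symm_apply_eq, map_mul, e, hAc _ δ.2, mul_assoc, hsq, mul_one] }
    haveI : R.Normal := ⟨fun δ hδ ε x => by
      show (ε : MulAut U) ((δ : MulAut U) ((ε : MulAut U).symm x)) = x ∨
        (ε : MulAut U) ((δ : MulAut U) ((ε : MulAut U).symm x)) = x * c
      rcases hδ ((ε : MulAut U).symm x) with e | e <;> rw [e]
      · left; simp
      · right; rw [map_mul, hAc _ ε.2]; simp⟩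
    have hRp : IsPGroup 2 R := fun δ => ⟨1, Subtype.ext <| Subtype.ext <| MulEquiv.ext fun x => by
      rw [pow_one, sq]
      show ((δ : A) : MulAut U) (((δ : A) : MulAut U) x) = x
      rcases δ.2 x with e | e
      · rw [e, e]
      · rw [e, map_mul, hAc _ (δ : A).2, e, mul_assoc, hsq, mul_one]⟩
    have := hcore R inferInstance hRp
    have hmem : (⟨α, hα⟩ : A) ∈ (⊥ : Subgroup A) := this ▸ hαx
    exact congrArg Subtype.val (mem_bot.1 hmem)
  have hwc : w ≠ c := fun e => hβ1 (hR β hβA fun x => by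
    rcases hdw x with h | h
    · exact Or.inl (eq_of_mul_eq_one hsq h)
    · refine Or.inr ?_
      rw [← e, ← h, ← mul_assoc, hsq, one_mul])
  -- conjugates of `f` are its powers
  have hpow : ∀ α ∈ A, α * f * α⁻¹ = f ∨ α * f * α⁻¹ = f ^ 2 := by
    intro α hα
    obtain ⟨hgc, hgp, hgA⟩ := hcomm α hα
    have hg1 : α * f * α⁻¹ ≠ 1 := fun e => hf1 (conj_eq_one_iff.1 e)
    generalize α * f * α⁻¹ = g at hgc hgp hgA hg1
    by_contra! hne
    haveI : Fintype U := Fintype.ofFinite U
    let F : Fin 3 × Fin 3 → U := fun i => (f ^ (i.1 : ℕ) * g ^ (i.2 : ℕ)) w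
    have hF : Function.Injective F := by
      rintro ⟨a, b⟩ ⟨a', b'⟩ e
      have h1 : (f ^ (a' : ℕ) * g ^ (b' : ℕ))⁻¹ * (f ^ (a : ℕ) * g ^ (b : ℕ)) = 1 := by
        refine three_free h8 hsq ?_ hc1 ?_ hw1 hwc ?_
        · have hfg : ∀ s t : ℕ, (f ^ s * g ^ t) ^ 3 = 1 := fun s t => by
            rw [(hgc.pow_pow s t).mul_pow, ← pow_mul, ← pow_mul, mul_comm s, mul_comm t, pow_mul, pow_mul, hfp, hgp,
              one_pow, one_pow, one_mul]
          rw [Commute.mul_pow, inv_pow, hfg, hfg, inv_one, one_mul]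
          exact (((Commute.refl f).pow_pow _ _).mul_right (hgc.pow_pow _ _)).mul_left
            ((hgc.symm.pow_pow _ _).mul_right ((Commute.refl g).pow_pow _ _)) |>.inv_left
        · have hfix : ∀ s t : ℕ, (f ^ s * g ^ t) c = c := fun s t => hAc _ (mul_mem (pow_mem hfA s) (pow_mem hgA t))
          rw [MulAut.mul_apply, hfix]
          conv_lhs => rw [← hfix (a' : ℕ) (b' : ℕ), ← MulAut.mul_apply, inv_mul_cancel, MulAut.one_apply]
        · show ((f ^ (a' : ℕ) * g ^ (b' : ℕ))⁻¹ * _) w = w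
          rw [MulAut.mul_apply, show (f ^ (a : ℕ) * g ^ (b : ℕ)) w = (f ^ (a' : ℕ) * g ^ (b' : ℕ)) w from e,
            ← MulAut.mul_apply, inv_mul_cancel, MulAut.one_apply]
      have h2 : f ^ (a' : ℕ) * g ^ (b' : ℕ) = f ^ (a : ℕ) * g ^ (b : ℕ) := inv_mul_eq_one.1 h1
      have hgo : orderOf g = 3 := orderOf_eq_prime hgp hg1
      by_cases hb : b = b'
      · subst hb
        have h3 := mul_right_cancel h2
        rw [pow_eq_pow_iff_modEq, hfo] at h3
        have := a.isLt; have := a'.isLt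
        have : (a' : ℕ) = a := by rw [Nat.ModEq, Nat.mod_eq_of_lt a'.isLt, Nat.mod_eq_of_lt a.isLt] at h3; exact h3
        rw [Fin.ext this.symm]
      exfalso
      -- `g` is then a power of `f`
      have hmem : g ∈ zpowers f := by
        have h3 : g ^ ((b' : ℤ) - b) = f ^ ((a : ℤ) - a') := by
          rw [zpow_sub, zpow_sub, zpow_natCast, zpow_natCast, zpow_natCast, zpow_natCast]
          have := h2
          rw [mul_inv_eq_iff_eq_mul]
          rw [(((Commute.refl f).pow_pow (a : ℕ) (a' : ℕ)).inv_right).eq, mul_assoc, ← this, inv_mul_cancel_left]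
        have hd : ¬ (3 : ℤ) ∣ (b' : ℤ) - b := by
          intro hd
          have := b.isLt; have := b'.isLt
          exact hb (Fin.ext (by omega))
        obtain ⟨k, hk⟩ : ∃ k : ℤ, ((b' : ℤ) - b) * k ≡ 1 [ZMOD 3] := by
          refine ⟨(b' : ℤ) - b, ?_⟩
          have := b.isLt; have := b'.isLt
          rw [Int.ModEq]
          have : ((b' : ℤ) - b) = 1 ∨ ((b' : ℤ) - b) = 2 ∨ ((b' : ℤ) - b) = -1 ∨ ((b' : ℤ) - b) = -2 := by omega
          rcases this with h | h | h | h <;> rw [h] <;> norm_num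
        refine ⟨((a : ℤ) - a') * k, ?_⟩
        show f ^ (((a : ℤ) - a') * k) = g
        rw [zpow_mul, ← h3, ← zpow_mul]
        conv_rhs => rw [← zpow_one g]
        rw [zpow_eq_zpow_iff_modEq, hgo]
        exact hk
      rw [← mem_powers_iff_mem_zpowers, Submonoid.mem_powers_iff] at hmem
      obtain ⟨n, rfl⟩ := hmem
      rw [← pow_mod_orderOf, hfo] at hne hg1
      rcases (show n % 3 = 0 ∨ n % 3 = 1 ∨ n % 3 = 2 by omega) with h | h | h <;> rw [h] at hne hg1
      · exact hg1 (pow_zero f)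
      · exact hne.1 (pow_one f)
      · exact hne.2 rfl
    have := Fintype.card_le_of_injective F hF
    rw [Fintype.card_prod, Fintype.card_fin, ← Nat.card_eq_fintype_card, h8] at this
    omega
  -- the image of `x ↦ x f(x)`
  let d : U →* U :=
    { toFun := fun x => x * f x
      map_one' := by simp
      map_mul' := fun x y => by rw [map_mul, mul_assoc, ← mul_assoc y, elem_comm hsq y (f x)]; group }
  obtain ⟨W, hW⟩ : ∃ W, W = d.range := ⟨_, rfl⟩
  have hW4 : Nat.card W = 4 := by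
    have hker : d.ker = fixed f := by
      ext x
      exact ⟨fun h => eq_of_mul_eq_one hsq h, fun h => show x * f x = 1 by rw [mem_fixed.1 h, hsq]⟩
    have h1 := (fixed f).card_mul_index
    rw [hc2, h8, ← hker, index_ker] at h1
    rw [hW]; omega
  have hcW : c ∉ W := by
    rw [hW]
    rintro ⟨x, hx⟩
    have h1 : f x = x * c := by rw [← hx]; show f x = x * (x * f x); rw [← mul_assoc, hsq, one_mul]
    have h2 : f (f x) = x := by rw [h1, map_mul, h1, hfc, mul_assoc, hsq, mul_one]
    have h3 : f x = x := by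
      conv_rhs => rw [← MulAut.one_apply (M := U) x, ← hfp, pow_succ', sq, MulAut.mul_apply, MulAut.mul_apply, h2]
    rw [h3] at h1
    exact hc1 (left_eq_mul.1 h1)
  have hfW : ∀ x ∈ W, f x ∈ W := by
    rw [hW]; rintro _ ⟨x, rfl⟩; exact ⟨f x, by show f x * f (f x) = f (x * f x); rw [map_mul]⟩
  have hAW : ∀ α ∈ A, ∀ x ∈ W, α x ∈ W := by
    intro α hα x hx
    rw [hW] at hx
    obtain ⟨y, rfl⟩ := hx
    have e : α (y * f y) = α y * (α * f * α⁻¹) (α y) := by simp
    show α (y * f y) ∈ W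
    rw [e, hW]
    rcases hpow α hα with h | h <;> rw [h]
    · exact ⟨α y, rfl⟩
    · refine ⟨α y * f (α y), ?_⟩
      show α y * f (α y) * f (α y * f (α y)) = _
      rw [map_mul, ← mul_assoc, mul_assoc (α y), hsq, mul_one, sq, MulAut.mul_apply]
  obtain ⟨x0, hx0W, hx0⟩ : ∃ x ∈ W, x ∉ fixed β := by
    by_contra! hall
    exact hcW ((eq_of_le_of_card_ge (show W ≤ fixed β from hall) (by omega)).ge (mem_fixed.2 (hAc β hβA)))
  have hwW : w ∈ W := by
    rcases hdw x0 with h | h
    · exact absurd (eq_of_mul_eq_one hsq h).symm (fun e => hx0 (mem_fixed.2 e.symm))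
    · exact h ▸ mul_mem hx0W (hAW β hβA x0 hx0W)
  have hw' : f w ≠ w := fun e => (hfix w e).elim hw1 hwc
  have hw'' : w * f w ≠ 1 := fun h => hw' (eq_of_mul_eq_one hsq h)
  have hWx : ∀ x ∈ W, x = 1 ∨ x = w ∨ x = f w ∨ x = w * f w := fun x hx =>
    four_eq hW4 hwW (hfW w hwW) hw1 (hone f hw1) (Ne.symm hw') hw'' hx
  have hv1 : f w ∉ fixed β := fun e => hx0 (by
    rcases hWx x0 hx0W with h | h | h | h <;> rw [h]
    exacts [one_mem _, mem_fixed.2 hβw, e, mul_mem (mem_fixed.2 hβw) e])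
  refine ⟨c, w, f w, hc1, hw1, hwc, hAc β hβA, hβw, hv1, ?_, hF4, fun α hα => ⟨hAc α hα, fun x hx => ?_⟩⟩
  · rcases hdw (f w) with h | h
    · exact absurd (eq_of_mul_eq_one hsq h) hv1
    · have h' : f w * (f w * β (f w)) = f w * w := congrArg (fun t => f w * t) h
      rwa [← mul_assoc, hsq, one_mul] at h' 
  simp only [Set.mem_insert_iff, Set.mem_singleton_iff] at hx ⊢
  have hxW : x ∈ W := by
    rcases hx with rfl | rfl | rfl | rfl
    exacts [one_mem _, hwW, hfW w hwW, mul_mem (hfW w hwW) hwW]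
  rw [elem_comm hsq (f w) w]
  exact hWx _ (hAW α hα x hxW)

end

end Cfsg.Agent.Fus.LenSeven
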