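import Cfsg.Agent.Lib.Fus.LengthEight.Basic
import Cfsg.Agent.Lib.Transfer.MaxClass

/-!
# Simple groups of length at most seven: the setting (for S3249)
-/

set_option autoImplicit false
set_option linter.style.haveILetI false

namespace Cfsg.Agent.Fus.LenSeven

open Subgroup LenEight

universe u

/-- The hypotheses of S3249. -/
structure Hyp (G : Type u) [Group G] [Finite G] : Prop where
  simple : IsSimpleGroup G
  nonab : ¬ IsMulCommutative G
  len : ∀ c : Fin 9 → Subgroup G, ¬ StrictAnti c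

/-- A nonabelian Sylow 2-subgroup with an elementary subgroup of order 8. -/
structure Big (G : Type u) [Group G] [Finite G] (S : Sylow 2 G) : Prop extends Hyp G where
  sna : ∃ x ∈ (S : Subgroup G), ∃ y ∈ (S : Subgroup G), x * y ≠ y * x
  eight : ∃ F : Subgroup G, F ≤ (S : Subgroup G) ∧ Nat.card F = 8 ∧ (∀ x ∈ F, x * x = 1) ∧
    ∀ x ∈ F, ∀ y ∈ F, x * y = y * x

variable {G : Type u} [Group G] [Finite G] (h : Hyp G)
include h

theorem Hyp.not_len_eight {H : Subgroup G} : ¬ Len 8 H := fun hl => by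
  obtain ⟨c, hc, -⟩ := hl.exists_chain
  exact h.len c hc

theorem Hyp.proper_len {H : Subgroup G} {n : ℕ} (hl : Len n H) (hH : H ≠ ⊤) : n ≤ 6 := by
  by_contra hn
  exact h.not_len_eight ((hl.of_le (show 7 ≤ n by omega)).succ (lt_top_iff_ne_top.2 hH))

theorem Hyp.solvable_len {H : Subgroup G} (hs : Group.IsSolvable H) (hH : H ≠ ⊤) :
    (Nat.card H).primeFactorsList.length ≤ 6 :=
  h.proper_len (len_solvable _ H rfl hs).of_top hH

theorem Hyp.normal_eq (N : Subgroup G) (hN : N.Normal) : N = ⊥ ∨ N = ⊤ := h.simple.eq_bot_or_eq_top_of_normal N hN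

theorem Hyp.not_solvable : ¬ Group.IsSolvable G := fun hs => by
  haveI := h.simple
  exact h.nonab ⟨⟨IsSimpleGroup.comm_iff_isSolvable.2 hs⟩⟩

theorem Hyp.ne_top_of_solvable {H : Subgroup G} (hs : Group.IsSolvable H) : H ≠ ⊤ := fun e => by
  subst e
  haveI := hs
  exact h.not_solvable
    (Group.isSolvable_of_isSolvable_injective (f := (topEquiv (G := G)).symm.toMonoidHom) topEquiv.symm.injective)

theorem Hyp.ne_top_of_two {H : Subgroup G} (hH : IsPGroup 2 H) : H ≠ ⊤ := by
  haveI : Fact (Nat.Prime 2) := ⟨Nat.prime_two⟩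
  haveI := hH.isNilpotent
  exact h.ne_top_of_solvable inferInstance

theorem Hyp.centralizer_ne_top {z : G} (hz : z ≠ 1) : centralizer ({z} : Set G) ≠ ⊤ := fun e => by
  have hzc : z ∈ center G := mem_center_iff.2 fun g => mem_centralizer_singleton_iff.1 (e ▸ mem_top g)
  rcases h.normal_eq (center G) inferInstance with e1 | e1
  · rw [e1, mem_bot] at hzc; exact hz hzc
  · exact h.nonab ⟨⟨fun a b => mem_center_iff.1 (e1 ▸ mem_top b) a⟩⟩

theorem Hyp.normalizer_ne_top {U : Subgroup G} (hU : U ≠ ⊥) (hp : IsPGroup 2 U) :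
    normalizer (U : Set G) ≠ ⊤ := fun e => by
  haveI := normalizer_eq_top_iff.1 e
  rcases h.normal_eq U inferInstance with e1 | e1
  exacts [hU e1, h.ne_top_of_two hp e1]

/-- A solvable subgroup of full length is maximal. -/
theorem Hyp.eq_of_full {H K : Subgroup G} (hle : H ≤ K) (hs : Group.IsSolvable H)
    (h6 : (Nat.card H).primeFactorsList.length = 6) (hK : K ≠ ⊤) : H = K := by
  by_contra hne
  have := h.proper_len ((len_solvable _ H rfl hs).of_top.succ (lt_of_le_of_ne hle hne)) hK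
  omega

theorem Hyp.sylow_card (S : Sylow 2 G) : ∃ a, Nat.card (S : Subgroup G) = 2 ^ a ∧ a ≤ 6 := by
  haveI : Fact (Nat.Prime 2) := ⟨Nat.prime_two⟩
  obtain ⟨a, ha⟩ := IsPGroup.iff_card.1 S.isPGroup'
  exact ⟨a, ha, h.proper_len (len_two_group ha) (h.ne_top_of_two S.isPGroup')⟩

theorem Hyp.max_of_six {S : Sylow 2 G} (hc : Nat.card (S : Subgroup G) = 2 ^ 6) {K : Subgroup G}
    (hK : (S : Subgroup G) ≤ K) (hKt : K ≠ ⊤) : K = S := by
  by_contra hne
  have := h.proper_len ((len_two_group hc).succ (lt_of_le_of_ne hK (Ne.symm hne))) hKt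
  omega

omit h

theorem commute_of_card_four {H : Subgroup G} (hH : Nat.card H = 2 ^ 2) {x y : G} (hx : x ∈ H) (hy : y ∈ H) :
    x * y = y * x := by
  haveI : Fact (Nat.Prime 2) := ⟨Nat.prime_two⟩
  exact congrArg Subtype.val ((IsPGroup.commGroupOfCardEqPrimeSq (p := 2) hH).mul_comm ⟨x, hx⟩ ⟨y, hy⟩)

variable {S : Sylow 2 G} (hb : Big G S)
include hb

theorem Big.card : ∃ a, Nat.card (S : Subgroup G) = 2 ^ a ∧ 4 ≤ a ∧ a ≤ 6 := by
  haveI : Fact (Nat.Prime 2) := ⟨Nat.prime_two⟩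
  obtain ⟨a, ha, ha6⟩ := hb.toHyp.sylow_card S
  refine ⟨a, ha, ?_, ha6⟩
  by_contra hlt
  obtain ⟨F, hFS, hF, -, hFc⟩ := hb.eight
  obtain ⟨x, hx, y, hy, hxy⟩ := hb.sna
  have hle := Nat.pow_le_pow_right (show 0 < 2 by norm_num) (show a ≤ 3 by omega)
  have e := eq_of_le_of_card_ge hFS (by rw [ha, hF]; norm_num at hle ⊢; exact hle)
  exact hxy (hFc x (e ▸ hx) y (e ▸ hy))

/-- The Sylow subgroup has no cyclic subgroup of index two. -/
theorem Big.commutator_index : (commutator (S : Subgroup G)).index ≠ 4 := fun h4 => by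
  haveI : Fact (Nat.Prime 2) := ⟨Nat.prime_two⟩
  obtain ⟨F, hFS, hF, hF2, -⟩ := hb.eight
  obtain ⟨a, ha⟩ := Transfer.MaxClass.exists_cyclic_index_two _ rfl S.isPGroup' h4
  haveI : (zpowers a).Normal := normal_of_index_eq_two ha
  set K := F.subgroupOf (S : Subgroup G) with hKd
  have hK : Nat.card K = 8 := by rw [hKd, Nat.card_congr (subgroupOfEquivOfLe hFS).toEquiv, hF]
  have h1 : (zpowers a).relIndex K ≤ 2 :=
    Nat.le_of_dvd two_pos (ha ▸ relIndex_dvd_index_of_normal (zpowers a) K :)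
  have h2 := ((zpowers a).subgroupOf K).card_mul_index
  rw [hK, ← relIndex] at h2
  have h3 : 4 ≤ Nat.card ((zpowers a).subgroupOf K) := by nlinarith
  classical
  haveI : Fintype (zpowers a) := Fintype.ofFinite _
  have h5 := IsCyclic.card_pow_eq_one_le (α := zpowers a) (show 0 < 2 by norm_num)
  let f : (zpowers a).subgroupOf K → {g : zpowers a // g ^ 2 = 1} := fun g =>
    ⟨⟨((g : K) : (S : Subgroup G)), mem_subgroupOf.1 g.2⟩, Subtype.ext <| Subtype.ext <| by
      simpa [sq] using hF2 _ (mem_subgroupOf.1 (g : K).2)⟩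
  have hf : Function.Injective f := fun x y e =>
    Subtype.ext (Subtype.ext (congrArg (fun g => ((g.1 : zpowers a) : (S : Subgroup G))) e))
  have h6 := Nat.card_le_card_of_injective f hf
  rw [Nat.card_eq_fintype_card (α := {g : zpowers a // g ^ 2 = 1}), Fintype.card_subtype] at h6
  omega

end Cfsg.Agent.Fus.LenSeven
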