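import Cfsg.Agent.Lib.Fus.LengthSeven.RankTwo
import Cfsg.Agent.Lib.Block.SL2Char.McKayBorel
import Cfsg.Agent.Lib.Invol.GW.Consumers.OutAdjust

/-!
# Simple groups of length at most seven: centralisers of involutions with a section `SL₂(q)` (for S3249)
-/

set_option autoImplicit false
set_option linter.style.haveILetI false

namespace Cfsg.Agent.Fus.LenSeven

open Subgroup LenEight Matrix

universe u

/-- `SL₂(F)` has at most one involution in odd characteristic. -/
theorem sl_involution_eq {F : Type} [Field F] (h2 : (2 : F) ≠ 0) {A B : SpecialLinearGroup (Fin 2) F}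
    (hA : A * A = 1) (hA1 : A ≠ 1) (hB : B * B = 1) (hB1 : B ≠ 1) : A = B := by
  have key : ∀ A : SpecialLinearGroup (Fin 2) F, A * A = 1 → A ≠ 1 →
      (A : Matrix (Fin 2) (Fin 2) F) = !![-1, 0; 0, -1] := by
    intro A hA hA1
    have hi : A⁻¹ = A := inv_eq_of_mul_eq_one_right hA
    have he := (Matrix.SpecialLinearGroup.coe_inv A).symm.trans (congrArg Subtype.val hi)
    rw [adjugate_fin_two] at he
    have h00 := congrFun (congrFun he 0) 0
    have h01 := congrFun (congrFun he 0) 1
    have h10 := congrFun (congrFun he 1) 0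
    simp at h00 h01 h10
    have hb : (A : Matrix (Fin 2) (Fin 2) F) 0 1 = 0 :=
      (mul_eq_zero.1 (show (2 : F) * A 0 1 = 0 by linear_combination -h01)).resolve_left h2
    have hc : (A : Matrix (Fin 2) (Fin 2) F) 1 0 = 0 :=
      (mul_eq_zero.1 (show (2 : F) * A 1 0 = 0 by linear_combination -h10)).resolve_left h2
    have hd := A.2
    rw [det_fin_two, h00, hb, hc, mul_zero, sub_zero, mul_self_eq_one_iff] at hd
    rcases hd with hd | hd
    · exact absurd (Matrix.SpecialLinearGroup.ext _ _ fun i j => by
        fin_cases i <;> fin_cases j <;> simp [hb, hc, hd, h00]) hA1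
    · ext i j
      fin_cases i <;> fin_cases j <;> simp [hb, hc, hd, h00]
  exact Subtype.ext ((key A hA hA1).trans (key B hB hB1).symm)

theorem odd_two_ne_zero {F : Type} [Field F] [Fintype F] (hodd : Odd (Fintype.card F)) : (2 : F) ≠ 0 := by
  refine Ring.two_ne_zero fun h => ?_
  haveI : CharP F 2 := h ▸ ringChar.charP F
  obtain ⟨n, -, hn⟩ := FiniteField.card F 2
  rw [hn, Nat.odd_pow_iff n.ne_zero] at hodd
  exact absurd hodd (by decide)

theorem borelS_solvable {F : Type} [Field F] [Fintype F] [DecidableEq F] :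
    Group.IsSolvable (Block.SL2Char.borelS (F := F)) := by
  let φ : Block.SL2Char.borelS (F := F) →* F :=
    { toFun := fun g => ((g : SpecialLinearGroup (Fin 2) F) : Matrix (Fin 2) (Fin 2) F) 0 0
      map_one' := by simp
      map_mul' := fun a b => by simp [Matrix.mul_apply, Block.SL2Char.mem_borelS.1 b.2] }
  haveI hc : Group.IsSolvable φ.toHomUnits.ker := by
    have hcm : ∀ a b : φ.toHomUnits.ker, a * b = b * a := by
      rintro ⟨a, ha⟩ ⟨b, hb⟩
      refine Subtype.ext ?_
      obtain ⟨p, rfl⟩ := Block.SL2Char.borelEquiv.surjective a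
      obtain ⟨r, rfl⟩ := Block.SL2Char.borelEquiv.surjective b
      refine (Block.SL2Char.commute_borel.2 ?_).eq
      have hp : (p.1 : F) = 1 := by simpa [φ, Block.SL2Char.borelEquiv_val] using congrArg Units.val ha
      have hr : (r.1 : F) = 1 := by simpa [φ, Block.SL2Char.borelEquiv_val] using congrArg Units.val hb
      simp [Units.val_inv_eq_inv_val, hp, hr, add_comm]
    exact Group.isSolvable_of_comm hcm
  exact Group.isSolvable_of_ker_le_range φ.toHomUnits.ker.subtype φ.toHomUnits (by simp)

theorem prime_of_bigOmega {q : ℕ} (hq : IsPrimePow q) (h5 : 5 ≤ q) (hodd : Odd q)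
    (hΩ : (q * (q - 1)).primeFactorsList.length ≤ 4) : q.Prime := by
  obtain ⟨p, f, hp, hf, rfl⟩ := (isPrimePow_nat_iff q).1 hq
  have hp0 : 0 < p ^ f := pow_pos hp.pos f
  rw [(Nat.perm_primeFactorsList_mul hp0.ne' (by omega)).length_eq, List.length_append, hp.primeFactorsList_pow,
    List.length_replicate] at hΩ
  have h2 : ∀ m, 2 ∣ m → 2 < m → 2 ≤ m.primeFactorsList.length := by
    rintro m ⟨k, rfl⟩ hm
    rw [(Nat.perm_primeFactorsList_mul two_ne_zero (by omega)).length_eq, List.length_append]
    have h1 : k.primeFactorsList ≠ [] := fun e => by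
      rcases (Nat.primeFactorsList_eq_nil k).1 e with rfl | rfl <;> omega
    have := List.length_pos_iff.2 h1
    rw [Nat.primeFactorsList_prime Nat.prime_two, List.length_singleton]
    omega
  obtain ⟨k, hk⟩ := hodd
  rcases (show f = 1 ∨ f = 2 ∨ 3 ≤ f by omega) with rfl | rfl | h3
  · simpa using hp
  · exfalso
    have hpodd : Odd p := (Nat.odd_pow_iff two_ne_zero).1 ⟨k, hk⟩
    obtain ⟨j, rfl⟩ := hpodd
    have hj : 1 ≤ j := by
      rcases Nat.eq_zero_or_pos j with rfl | hj
      · simp at h5
      · exact hj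
    rw [show (2 * j + 1) ^ 2 - 1 = (2 * j) * (2 * (j + 1)) by
        have : (2 * j + 1) ^ 2 = 2 * j * (2 * (j + 1)) + 1 := by ring
        omega,
      (Nat.perm_primeFactorsList_mul (by omega) (by omega)).length_eq, List.length_append] at hΩ
    have h1 : (2 * j).primeFactorsList ≠ [] := fun e => by
      rcases (Nat.primeFactorsList_eq_nil _).1 e with h | h <;> omega
    have := List.length_pos_iff.2 h1
    have := h2 (2 * (j + 1)) ⟨_, rfl⟩ (by omega)
    omega
  · exfalso
    have := h2 (p ^ f - 1) ⟨k, by omega⟩ (by omega)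
    omega

variable {G : Type u} [Group G] [Finite G]

/-- The structure of the centraliser when `q ≥ 5`: it is `SL₂(q)` extended by two, and `q` is a prime. -/
theorem Hyp.sl_structure (h : Hyp G) {t : G} (ht : orderOf t = 2) {F : Type} [Field F] [Fintype F]
    (hodd : Odd (Fintype.card F)) (h3 : 3 < Fintype.card F)
    (e : ↥(commutator (↥(centralizer ({t} : Set G)) ⧸ Cfsg.oddCore ↥(centralizer ({t} : Set G)))) ≃*
      SpecialLinearGroup (Fin 2) F)
    (y : ↥(centralizer ({t} : Set G))) (hy : orderOf y = 2) (hyt : (y : G) ≠ t) :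
    ∃ φ : SpecialLinearGroup (Fin 2) F →* ↥(centralizer ({t} : Set G)), Function.Injective φ ∧
      φ.range.index = 2 ∧ φ.range.Normal ∧ (Fintype.card F).Prime := by
  classical
  haveI : Fact (Nat.Prime 2) := ⟨Nat.prime_two⟩
  have hCt : centralizer ({t} : Set G) ≠ ⊤ := h.centralizer_ne_top (fun e => by rw [e, orderOf_one] at ht; norm_num at ht)
  have hlen : ∀ {n : ℕ}, Len n (⊤ : Subgroup ↥(centralizer ({t} : Set G))) → n ≤ 6 := fun hl => h.proper_len hl.of_top hCt
  set O := Cfsg.oddCore ↥(centralizer ({t} : Set G)) with hO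
  haveI hOn : O.Normal := Grp.pPrimeCore_isNormal
  have hOodd : Odd (Nat.card O) := Nat.coprime_two_right.1 Grp.pPrimeCore_coprime
  set π := QuotientGroup.mk' O with hπ
  have h2 := odd_two_ne_zero hodd
  -- two different involutions in the quotient
  let tc : ↥(centralizer ({t} : Set G)) := ⟨t, mem_centralizer_singleton_iff.2 rfl⟩
  have htc : orderOf tc = 2 := by rw [← orderOf_coe]; exact ht
  have hsq : ∀ a : ↥(centralizer ({t} : Set G)), orderOf a = 2 → a * a = 1 := fun a ha => by
    have := pow_orderOf_eq_one a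
    rwa [ha, sq] at this
  have hne : ∀ a : ↥(centralizer ({t} : Set G)), a * a = 1 → π a = 1 → a = 1 := fun a ha h1 => by
    have hd := orderOf_dvd_natCard O ((QuotientGroup.eq_one_iff a).1 h1)
    exact orderOf_eq_one_iff.1 (Nat.eq_one_of_dvd_coprimes (Nat.coprime_two_right.2 hOodd)
      hd (orderOf_dvd_of_pow_eq_one (by rw [sq, ha])))
  have hπy : π y ≠ 1 := fun e => by rw [hne y (hsq y hy) e, orderOf_one] at hy; omega
  have hπt : π tc ≠ 1 := fun e => by rw [hne tc (hsq tc htc) e, orderOf_one] at htc; omega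
  have hcomm : y * tc = tc * y := Subtype.ext (mem_centralizer_singleton_iff.1 y.2)
  have hπyt : π y ≠ π tc := fun e => hyt <| by
    have h1 : y * tc = 1 := hne (y * tc) (by
      rw [mul_assoc, ← mul_assoc tc y, ← hcomm, mul_assoc y tc tc, hsq tc htc, mul_one, hsq y hy])
      (by rw [map_mul, e, ← map_mul, hsq tc htc, map_one])
    exact congrArg Subtype.val ((eq_inv_of_mul_eq_one_left h1).trans
      (inv_eq_of_mul_eq_one_right (hsq tc htc)))
  set L := commutator (↥(centralizer ({t} : Set G)) ⧸ O) with hL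
  obtain ⟨w, hw2, hwL⟩ : ∃ w : ↥(centralizer ({t} : Set G)) ⧸ O, w * w = 1 ∧ w ∉ L := by
    by_cases hyL : π y ∈ L
    · by_cases htL : π tc ∈ L
      · exfalso
        refine hπyt (congrArg Subtype.val (e.injective (a₁ := ⟨π y, hyL⟩) (a₂ := ⟨π tc, htL⟩)
          (sl_involution_eq h2 ?_ ?_ ?_ ?_)))
        · rw [← map_mul, ← map_one e]
          exact congrArg e (Subtype.ext (by show π y * π y = 1; rw [← map_mul, hsq y hy, map_one]))
        · exact fun e1 => hπy (congrArg Subtype.val (e.injective (e1.trans (map_one e).symm)))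
        · rw [← map_mul, ← map_one e]
          exact congrArg e (Subtype.ext (by show π tc * π tc = 1; rw [← map_mul, hsq tc htc, map_one]))
        · exact fun e1 => hπt (congrArg Subtype.val (e.injective (e1.trans (map_one e).symm)))
      · exact ⟨π tc, by rw [← map_mul, hsq tc htc, map_one], htL⟩
    · exact ⟨π y, by rw [← map_mul, hsq y hy, map_one], hyL⟩
  -- the section has length five
  have hperfect := Invol.GW.SLTwo_perfect h3
  haveI : Nontrivial (SpecialLinearGroup (Fin 2) F) := by
    have hc := Invol.GW.card_center_SLTwo hodd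
    exact Finite.one_lt_card_iff_nontrivial.1 (lt_of_lt_of_le (hc ▸ one_lt_two) (card_le_card_group _))
  have hSLns : ¬ Group.IsSolvable (SpecialLinearGroup (Fin 2) F) := fun hs => by
    haveI := hs
    exact (Group.IsSolvable.commutator_lt_top_of_nontrivial (SpecialLinearGroup (Fin 2) F)).ne hperfect
  have hcen : Nat.card (center L) = 2 := by
    rw [Nat.card_congr (Subgroup.centerCongr e).toEquiv, Invol.GW.card_center_SLTwo hodd]
  have hL5 : Len 5 L := by
    refine Len.of_top ?_
    have hq : ¬ Group.IsSolvable (L ⧸ center L) := fun hs => hSLns <| by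
      haveI : Group.IsSolvable (center L) := Group.isSolvable_of_comm mul_comm'
      haveI : Group.IsSolvable L := (Group.isSolvable_iff_subgroup_quotient (center L)).2 ⟨inferInstance, hs⟩
      exact Group.isSolvable_of_surjective (f := e.toMonoidHom) e.surjective
    have hz : Len 1 (QuotientGroup.mk' (center L)).ker := by
      rw [QuotientGroup.ker_mk']
      exact len_two_group (a := 1) (by rw [hcen]; rfl)
    have := Len.comap (QuotientGroup.mk' (center L)) (QuotientGroup.mk'_surjective _) hz
      (len_four _ _ rfl hq)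
    rwa [comap_top] at this
  have hLt : L < ⊤ := lt_top_iff_ne_top.2 fun e' => hwL (e' ▸ mem_top w)
  -- the core is trivial
  have hO1 : O = ⊥ := by
    by_contra hO1
    have hz : Len 1 π.ker := by
      rw [hπ, QuotientGroup.ker_mk']
      exact ⟨⊥, bot_lt_iff_ne_bot.2 hO1, trivial⟩
    have := Len.comap π (QuotientGroup.mk'_surjective O) hz (hL5.succ hLt)
    rw [comap_top] at this
    have := hlen this
    omega
  let q0 : ↥(centralizer ({t} : Set G)) ⧸ O ≃* ↥(centralizer ({t} : Set G)) := (QuotientGroup.quotientMulEquivOfEq hO1).trans QuotientGroup.quotientBot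
  set L' : Subgroup ↥(centralizer ({t} : Set G)) := L.map q0.toMonoidHom with hL'
  have hL'5 : Len 5 L' := hL5.map q0.toMonoidHom q0.injective
  have hL'n : L'.Normal := Subgroup.Normal.map inferInstance _ q0.surjective
  have hL'co : IsCoatom L' := by
    refine ⟨fun e' => hwL ?_, fun K hK => ?_⟩
    · have := e' ▸ mem_top (q0 w)
      obtain ⟨v, hv, hvw⟩ := this
      exact q0.injective hvw ▸ hv
    · by_contra hKt
      have := hlen ((hL'5.succ hK).succ (lt_top_iff_ne_top.2 hKt))
      omega
  let φ : SpecialLinearGroup (Fin 2) F →* ↥(centralizer ({t} : Set G)) := q0.toMonoidHom.comp (L.subtype.comp e.symm.toMonoidHom)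
  have hφ : Function.Injective φ := q0.injective.comp (L.subtype_injective.comp e.symm.injective)
  have hr : φ.range = L' := by
    rw [hL', MonoidHom.range_comp, MonoidHom.range_comp, MonoidHom.range_eq_top.2 e.symm.surjective,
      ← MonoidHom.range_eq_map, range_subtype]
  refine ⟨φ, hφ, ?_, hr ▸ hL'n, ?_⟩
  · rw [hr]
    haveI := hL'n
    have hp := Grp.normal_index_prime_of_coatom hL'co
    have hw' : q0 w ∉ L' := fun ⟨v, hv, hvw⟩ => hwL (q0.injective hvw ▸ hv)
    have h1 : orderOf (QuotientGroup.mk' L' (q0 w)) = 2 := orderOf_eq_prime (by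
      rw [sq, ← map_mul, ← map_mul, hw2, map_one, map_one]) (fun e' => hw' ((QuotientGroup.eq_one_iff _).1 e'))
    have h2' : orderOf (QuotientGroup.mk' L' (q0 w)) ∣ L'.index := index_eq_card L' ▸ orderOf_dvd_natCard _
    rw [h1] at h2'
    exact ((Nat.prime_dvd_prime_iff_eq Nat.prime_two hp).1 h2').symm
  · set B := (Block.SL2Char.borelS (F := F)).map φ with hB
    have hBs : Group.IsSolvable B := by
      haveI := borelS_solvable (F := F)
      exact Group.isSolvable_of_surjective
        (f := (Subgroup.equivMapOfInjective _ φ hφ).toMonoidHom) (MulEquiv.surjective _)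
    have hBc : Nat.card B = Fintype.card F * (Fintype.card F - 1) := by
      rw [card_map_of_injective (f := φ) hφ, Block.SL2Char.card_borelS, mul_comm]
    have hlt : B < L' := by
      rw [← hr, MonoidHom.range_eq_map, hB, map_lt_map_iff_of_injective hφ, lt_top_iff_ne_top]
      intro e'
      let u : SpecialLinearGroup (Fin 2) F := ⟨!![1, 0; 1, 1], by simp [det_fin_two]⟩
      have hu : u ∈ Block.SL2Char.borelS (F := F) := by rw [e']; exact mem_top u
      have := Block.SL2Char.mem_borelS.1 hu
      simp [u] at this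
    have := hlen (((len_solvable _ B hBc hBs).of_top.succ hlt).succ hL'co.lt_top)
    refine prime_of_bigOmega ?_ ?_ hodd (by omega)
    · obtain ⟨p, -, n, hp, hn⟩ := FiniteField.card' (K := F)
      exact (isPrimePow_nat_iff _).2 ⟨p, n, hp, n.pos, hn.symm⟩
    · obtain ⟨k, hk⟩ := hodd
      omega

end Cfsg.Agent.Fus.LenSeven
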