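import Cfsg.Agent.Lib.Fus.LengthSeven.Normal

/-!
# The centre of `S` and halves of small groups (for S3249)
-/

set_option autoImplicit false
set_option linter.style.haveILetI false

namespace Cfsg.Agent.Fus.LenSeven

open Subgroup LenEight
open scoped commutatorElement

universe u

variable {G : Type u} [Group G] [Finite G] {S : Sylow 2 G}

/-- The centre of `S` as a subgroup of `G`. -/
abbrev cenS {G : Type u} [Group G] (S : Sylow 2 G) : Subgroup G :=
  (S : Subgroup G) ⊓ centralizer ((S : Subgroup G) : Set G)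

omit [Finite G] in
theorem mem_cenS {z : G} : z ∈ cenS S ↔ z ∈ (S : Subgroup G) ∧ ∀ s ∈ (S : Subgroup G), s * z = z * s :=
  Iff.rfl.trans (and_congr Iff.rfl mem_centralizer_iff)

theorem card_inf_mul {A B C : Subgroup G} (hA : A ≤ C) (hB : B ≤ C) :
    Nat.card A * Nat.card B ≤ Nat.card C * Nat.card ↥(A ⊓ B) := by
  have h1 := Grp.card_mul_relIndex (inf_le_left : A ⊓ B ≤ A)
  rw [inf_relIndex_left] at h1
  have h2 := Grp.card_mul_relIndex hB
  have h3 : B.relIndex A ≤ B.relIndex C := relIndex_le_of_le_right hA (by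
    intro e; rw [e, mul_zero] at h2; exact Nat.card_pos.ne' h2.symm)
  calc Nat.card A * Nat.card B = Nat.card ↥(A ⊓ B) * B.relIndex A * Nat.card B := by rw [h1]
    _ ≤ Nat.card ↥(A ⊓ B) * B.relIndex C * Nat.card B := by
      exact Nat.mul_le_mul_right _ (Nat.mul_le_mul_left _ h3)
    _ = Nat.card ↥(A ⊓ B) * (Nat.card B * B.relIndex C) := by ring
    _ = _ := by rw [h2, mul_comm]

/-- A group generated by two commuting sets is abelian. -/
theorem comm_of_sup {A : Subgroup G} {g : G} (hA : ∀ a ∈ A, ∀ a' ∈ A, a * a' = a' * a)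
    (hg : ∀ a ∈ A, g * a = a * g) : ∀ x ∈ A ⊔ zpowers g, ∀ x' ∈ A ⊔ zpowers g, x * x' = x' * x := by
  have hle : A ⊔ zpowers g ≤ centralizer ((A : Set G) ∪ {g}) := by
    refine sup_le (fun a ha => mem_centralizer_iff.2 ?_) (zpowers_le.2 (mem_centralizer_iff.2 ?_))
    · rintro b (hb | rfl)
      · exact (hA a ha b hb).symm
      · exact hg a ha
    · rintro b (hb | rfl)
      · exact (hg b hb).symm
      · rfl
  intro x hx x' hx'
  have hle2 : A ⊔ zpowers g ≤ centralizer ({x} : Set G) :=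
    sup_le (fun a ha => mem_centralizer_singleton_iff.2 (mem_centralizer_iff.1 (hle hx) a (Or.inl ha)))
      (zpowers_le.2 (mem_centralizer_singleton_iff.2 (mem_centralizer_iff.1 (hle hx) g (Or.inr rfl))))
  exact (mem_centralizer_singleton_iff.1 (hle2 hx')).symm

theorem Big.cenS_index (hb : Big G S) : 4 * Nat.card (cenS S) ≤ Nat.card (S : Subgroup G) := by
  obtain ⟨a, ha, b, hb', hab⟩ := hb.sna
  set A := cenS S ⊔ zpowers a with hAd
  have hA : A ≤ (S : Subgroup G) := sup_le inf_le_left (zpowers_le.2 ha)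
  have hAc : ∀ x ∈ A, ∀ x' ∈ A, x * x' = x' * x :=
    comm_of_sup (fun x hx x' hx' => (mem_cenS.1 hx').2 x hx.1) (fun x hx => (mem_cenS.1 hx).2 a ha)
  have l1 : cenS S < A := lt_of_le_of_ne le_sup_left fun e =>
    hab ((mem_cenS.1 (e.ge (mem_sup_right (mem_zpowers a)))).2 b hb').symm
  have l2 : A < (S : Subgroup G) := lt_of_le_of_ne hA fun e =>
    hab (hAc a (mem_sup_right (mem_zpowers a)) b (e.ge hb'))
  have h1 := double_le (S := S) hA l1
  have h2 := double_le (S := S) le_rfl l2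
  omega

/-- Three halves through a common quarter cover the group. -/
theorem three_halves {V Z L1 L2 L3 : Subgroup G} (h1 : L1 ≤ V) (h2 : L2 ≤ V) (h3 : L3 ≤ V)
    (c1 : Nat.card V = 2 * Nat.card L1) (c2 : Nat.card V = 2 * Nat.card L2) (c3 : Nat.card V = 2 * Nat.card L3)
    (hZ : Nat.card V ≤ 4 * Nat.card Z) (z1 : Z ≤ L1) (z2 : Z ≤ L2) (z3 : Z ≤ L3) (n12 : L1 ≠ L2) (n13 : L1 ≠ L3)
    (n23 : L2 ≠ L3) {x : G} (hx : x ∈ V) : x ∈ L1 ∨ x ∈ L2 ∨ x ∈ L3 := by
  by_contra! hne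
  obtain ⟨hx1, hx2, hx3⟩ := hne
  have e : ∀ A B : Subgroup G, A ≤ V → B ≤ V → Nat.card V = 2 * Nat.card A → Nat.card V = 2 * Nat.card B →
      Z ≤ A → Z ≤ B → A ≠ B → Z = A ⊓ B := fun A B hA hB cA cB zA zB n => by
    have := inf_card hA hB cA cB n
    exact eq_of_le_of_card_ge (le_inf zA zB) (by omega)
  have e12 := e L1 L2 h1 h2 c1 c2 z1 z2 n12
  have e13 := e L1 L3 h1 h3 c1 c3 z1 z3 n13
  have e23 := e L2 L3 h2 h3 c2 c3 z2 z3 n23
  obtain ⟨a, ha, haZ⟩ : ∃ a ∈ L3, a ∉ Z := by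
    by_contra! hle
    have := card_le_of_le (show L3 ≤ Z from hle)
    have := card_le_of_le z1
    have hZ1 : Z = L1 := eq_of_le_of_card_ge z1 (by omega)
    have hZ2 : Z = L2 := eq_of_le_of_card_ge z2 (by omega)
    exact n12 (hZ1.symm.trans hZ2)
  have ha1 : a ∉ L1 := fun h => haZ (e13.ge ⟨h, ha⟩)
  have ha2 : a ∉ L2 := fun h => haZ (e23.ge ⟨h, ha⟩)
  have hm1 := (rel_mul (rel_two h1 c1) (inv_mem (h3 ha)) hx).2 (iff_of_false (fun h => ha1 (inv_mem_iff.1 h)) hx1)
  have hm2 := (rel_mul (rel_two h2 c2) (inv_mem (h3 ha)) hx).2 (iff_of_false (fun h => ha2 (inv_mem_iff.1 h)) hx2)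
  refine hx3 ?_
  have := mul_mem ha (z3 (e12.ge ⟨hm1, hm2⟩))
  rwa [mul_inv_cancel_left] at this

/-- An odd element permuting at most two halves fixes each. -/
theorem odd_perm {y : G} (hyo : Odd (orderOf y)) {L : Subgroup G}
    (h : ∀ A B : Subgroup G, A = L.map (MulAut.conj y).toMonoidHom → B = A.map (MulAut.conj y).toMonoidHom →
      L = A ∨ L = B ∨ A = B) : y ∈ normalizer (L : Set G) := by
  rcases h _ _ rfl rfl with e | e | e
  · exact Grp.mem_normalizer_of_map_eq.2 e.symm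
  · have h2 : y ^ 2 ∈ normalizer (L : Set G) := by
      refine Grp.mem_normalizer_of_map_eq.2 ?_
      conv_rhs => rw [e]
      rw [map_map]
      congr 1
      ext g
      simp [sq, mul_assoc]
    obtain ⟨m, hm⟩ := hyo
    have h3 : y = (y ^ 2) ^ (m + 1) := by
      rw [← pow_mul, show 2 * (m + 1) = 2 * m + 1 + 1 by ring, ← hm, pow_succ, pow_orderOf_eq_one, one_mul]
    exact h3 ▸ pow_mem h2 _
  · exact Grp.mem_normalizer_of_map_eq.2 (map_injective (MulAut.conj y).injective e).symm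

end Cfsg.Agent.Fus.LenSeven
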