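import Cfsg.Agent.Lib.Fus.LengthSeven.Types
import Cfsg.Agent.Lib.Fus.LengthSeven.AutEight
import Cfsg.Agent.Lib.Fus.LengthEight.Quot

/-!
# Essential subgroups of order eight (for S3249)
-/

set_option autoImplicit false
set_option linter.style.haveILetI false

namespace Cfsg.Agent.Fus.LenSeven

open Subgroup LenEight
open scoped commutatorElement

universe u

variable {G : Type u} [Group G] [Finite G] {S : Sylow 2 G} {U : Subgroup G}

/-- An elementary essential subgroup of order eight with its invariants. -/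
structure Ety (S : Sylow 2 G) (U : Subgroup G) (c w v : G) : Prop where
  card : Nat.card U = 8
  cardT : Nat.card (nS S U) = 16
  sq : ∀ x ∈ U, x * x = 1
  comm : ∀ x ∈ U, ∀ y ∈ U, x * y = y * x
  hc : c ∈ U
  hw : w ∈ U
  hv : v ∈ U
  c1 : c ≠ 1
  w1 : w ≠ 1
  wc : w ≠ c
  decomp : ∀ x ∈ U, ∃ i ∈ ({1, c, w, c * w} : Set G), x = i ∨ x = i * v
  vI : v ∉ ({1, c, w, c * w} : Set G)
  fix : ∀ n ∈ normalizer (U : Set G), n * c * n⁻¹ = c
  pres : ∀ n ∈ normalizer (U : Set G), ∀ x ∈ ({1, w, v, v * w} : Set G), n * x * n⁻¹ ∈ ({1, w, v, v * w} : Set G)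
  wT : ∀ t ∈ nS S U, t * w = w * t
  bv : ∀ t ∈ nS S U, t ∉ U → t * v * t⁻¹ = v * w
  wD : w ∈ ⁅(S : Subgroup G), (S : Subgroup G)⁆

omit [Finite G] in
theorem conj_coe {N : Subgroup G} (hN : N ≤ normalizer (U : Set G)) (n : N) (x : U) :
    (((U.normalizerMonoidHom.comp (inclusion hN)) n x : U) : G) = n * x * (n : G)⁻¹ := rfl

theorem Ess.exists_ety (hb : Big G S) (hU : Ess S U) (h8 : Nat.card U = 8) :
    ∃ c w v : G, Ety S U c w v := by
  haveI : Fact (Nat.Prime 2) := ⟨Nat.prime_two⟩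
  obtain ⟨hsq, hcm⟩ := hU.elementary hb h8
  set N := normalizer (U : Set G) with hNd
  set C := centralizer (U : Set G) with hCd
  haveI := hU.solvable hb
  obtain ⟨φ, hφd⟩ : ∃ φ : ↥N →* MulAut U, φ = U.normalizerMonoidHom.comp (inclusion le_rfl) := ⟨_, rfl⟩
  have hφ : ∀ (n : N) (x : U), ((φ n x : U) : G) = n * x * (n : G)⁻¹ := fun n x => by rw [hφd]; rfl
  have hker : ∀ n : N, φ n = 1 ↔ (n : G) ∈ C := by
    intro n
    refine ⟨fun e => mem_centralizer_iff.2 fun x hx => ?_, fun e => MulEquiv.ext fun x => Subtype.ext ?_⟩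
    · have := congrArg Subtype.val (DFunLike.congr_fun e ⟨x, hx⟩)
      rw [hφ] at this
      exact (mul_inv_eq_iff_eq_mul.1 this).symm
    · rw [hφ]
      exact mul_inv_eq_iff_eq_mul.2 (mem_centralizer_iff.1 e x x.2).symm
  have hUC : U ≤ C := fun x hx => mem_centralizer_iff.2 fun y hy => hcm y hy x hx
  haveI hsA : Group.IsSolvable φ.range := Group.isSolvable_of_surjective φ.rangeRestrict_surjective
  have hsq' : ∀ x : U, x * x = 1 := fun x => Subtype.ext (hsq x x.2)
  have hcore : ∀ R : Subgroup φ.range, R.Normal → IsPGroup 2 R → R = ⊥ := by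
    intro R hR hRp
    haveI hP : (Cfsg.pPrimePCore 2 ↥N).Normal := by
      haveI : (Cfsg.pPrimeCore 2 ↥N).Normal := Grp.pPrimeCore_isNormal
      exact (Grp.pCore_isNormal (p := 2)).comap _
    let π := QuotientGroup.mk' (Cfsg.pPrimePCore 2 ↥N)
    have hp : IsPGroup 2 ((R.comap φ.rangeRestrict).map π) := by
      rintro ⟨_, n, hn, rfl⟩
      obtain ⟨i, hi⟩ := hRp ⟨φ.rangeRestrict n, hn⟩
      refine ⟨i, Subtype.ext ?_⟩
      show π n ^ 2 ^ i = 1
      rw [← map_pow]
      refine (QuotientGroup.eq_one_iff _).2 ((hU.map_core (n ^ 2 ^ i).2).2 (mem_sup_right ((hker _).1 ?_)))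
      have := congrArg (fun t : R => ((t : φ.range) : MulAut U)) hi
      simpa [map_pow] using this
    have hb' := Ess.core_bot (U := U) _ ((hR.comap _).map π (QuotientGroup.mk'_surjective _)) hp
    rw [eq_bot_iff]
    intro r hr
    obtain ⟨n, rfl⟩ := φ.rangeRestrict_surjective r
    have h1 : π n ∈ ((R.comap φ.rangeRestrict).map π) := ⟨n, hr, rfl⟩
    rw [hb', mem_bot] at h1
    have h2 := (hU.map_core n.2).1 ((QuotientGroup.eq_one_iff n).1 h1)
    rw [show U ⊔ C = C from sup_eq_right.2 hUC] at h2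
    exact mem_bot.2 (Subtype.ext ((hker n).2 h2))
  have hT : Nat.card (nS S U) = 16 := by
    rcases hU.eight_or hb with ⟨-, h⟩ | ⟨h, -⟩
    swap; · omega
    refine h.resolve_right fun h32 => ?_
    obtain ⟨k, hk, hk2, hN, -⟩ := hU.prime_part hb h32
    have hC : C = U := le_antisymm (hU.cent_le hb h32) hUC
    have hkerC : φ.ker = U.subgroupOf N := by
      ext n; rw [MonoidHom.mem_ker, hker, hC, mem_subgroupOf]
    have hA : Nat.card φ.range = 2 ^ 2 * k := by
      have h1 := (U.subgroupOf N).card_mul_index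
      rw [← hkerC, index_ker, hkerC, Nat.card_congr (subgroupOfEquivOfLe (le_normalizer : U ≤ N)).toEquiv, h8, hN] at h1
      omega
    haveI : Fact k.Prime := ⟨hk⟩
    obtain ⟨f, hf⟩ := exists_prime_orderOf_dvd_card' (G := φ.range) k (hA ▸ dvd_mul_left k _)
    have hf' : orderOf (f : MulAut U) = k := by rw [Subgroup.orderOf_coe, hf]
    have hsmall := fixed_small h8 hsq' hk hk2 (hf' ▸ pow_orderOf_eq_one _)
      (fun e => by rw [e, orderOf_one] at hf'; exact hk.ne_one hf'.symm)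
    obtain ⟨R, hR⟩ := Sylow.exists_subgroup_card_pow_prime (G := φ.range) 2 (n := 2) (hA ▸ dvd_mul_right _ k)
    obtain ⟨-, hd, -⟩ := cyclic_quot hA hk hk2 hcore R hR
    rcases hsmall with ⟨rfl, -⟩ | ⟨rfl, -⟩ <;> norm_num at hd
  obtain ⟨b, hbT, hbU⟩ := Set.exists_of_ssubset hU.lt_nS
  have hiU : U.relIndex (nS S U) = 2 := rel_two hU.le_nS (by rw [hT, h8])
  have hbC : b ∉ C := fun e => hbU (hU.cent ⟨hbT.1, e⟩)
  obtain ⟨β, hβd⟩ : ∃ β, β = φ ⟨b, hbT.2⟩ := ⟨_, rfl⟩
  have hβ2 : β * β = 1 := by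
    rw [hβd, ← map_mul]
    exact (hker _).2 (hUC (rel_sq hiU hbT))
  have hβ1 : β ≠ 1 := fun e => hbC ((hker ⟨b, hbT.2⟩).1 (hβd ▸ e))
  obtain ⟨c, w, v, hc1, hw1, hwc, hβc, hβw, hvF, hβv, hF4, hA⟩ :=
    aut_eight h8 hsq' φ.range hcore (β := β) ⟨_, hβd.symm⟩ hβ2 hβ1
  have hF : ∀ x ∈ fixed β, x = 1 ∨ x = c ∨ x = w ∨ x = c * w := fun x hx =>
    four_eq hF4 (mem_fixed.2 hβc) (mem_fixed.2 hβw) hc1 hw1 hwc.symm
      (fun h => hwc (eq_of_mul_eq_one hsq' h)) hx
  have hact : ∀ t ∈ nS S U, ∀ x : U, t ∉ U → t * x * t⁻¹ = ((β x : U) : G) := by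
    intro t ht x htU
    have hm : b⁻¹ * t ∈ U := (rel_mul hiU (inv_mem hbT) ht).2 (iff_of_false (fun e => hbU (inv_mem_iff.1 e)) htU)
    rw [hβd, hφ]
    calc t * x * t⁻¹ = b * ((b⁻¹ * t) * x * (b⁻¹ * t)⁻¹) * b⁻¹ := by group
      _ = b * x * b⁻¹ := by rw [hcm _ hm x x.2, mul_inv_cancel_right]
  refine ⟨c, w, v, ⟨h8, hT, hsq, hcm, c.2, w.2, v.2, fun e => hc1 (Subtype.ext e), fun e => hw1 (Subtype.ext e),
    fun e => hwc (Subtype.ext e), ?_, ?_, ?_, ?_, ?_, ?_, ?_⟩⟩
  · intro x hx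
    have hidx : (fixed β).index = 2 := by
      have := (fixed β).card_mul_index
      rw [hF4, h8] at this; omega
    by_cases hxF : (⟨x, hx⟩ : U) ∈ fixed β
    · rcases hF _ hxF with e | e | e | e <;> refine ⟨x, ?_, Or.inl rfl⟩ <;>
        simp [Subtype.ext_iff] at e <;> simp [e]
    · have := (mul_mem_iff_of_index_two hidx).2 (iff_of_false hxF hvF)
      have hxv : x = x * v * v := by rw [mul_assoc, hsq v v.2, mul_one]
      rcases hF _ this with e | e | e | e <;> refine ⟨x * v, ?_, Or.inr hxv⟩ <;>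
        simp [Subtype.ext_iff] at e <;> simp [e]
  · intro hv
    simp only [Set.mem_insert_iff, Set.mem_singleton_iff] at hv
    refine hvF ?_
    rcases hv with e | e | e | e
    · rw [show v = 1 from Subtype.ext e]; exact one_mem _
    · rw [Subtype.ext e]; exact hβc
    · rw [Subtype.ext e]; exact hβw
    · rw [show v = c * w from Subtype.ext e]; exact mul_mem (mem_fixed.2 hβc) (mem_fixed.2 hβw)
  · intro n hn
    exact (hφ ⟨n, hn⟩ c).symm.trans (congrArg Subtype.val ((hA _ ⟨⟨n, hn⟩, rfl⟩).1))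
  · intro n hn x hx
    simp only [Set.mem_insert_iff, Set.mem_singleton_iff] at hx
    have key : ∀ y : U, y ∈ ({1, w, v, v * w} : Set U) →
        n * (y : G) * n⁻¹ ∈ ({1, (w : G), (v : G), (v : G) * w} : Set G) := by
      intro y hy
      have := (hA _ ⟨⟨n, hn⟩, rfl⟩).2 y hy
      simp only [Set.mem_insert_iff, Set.mem_singleton_iff] at this ⊢
      rw [← hφ ⟨n, hn⟩ y]
      rcases this with e | e | e | e <;> simp [e]
    rcases hx with e | e | e | e <;> subst e
    · exact key 1 (by simp)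
    · exact key w (by simp)
    · exact key v (by simp)
    · exact key (v * w) (by simp)
  · intro t ht
    by_cases htU : t ∈ U
    · exact hcm t htU w w.2
    · exact mul_inv_eq_iff_eq_mul.1 ((hact t ht w htU).trans (congrArg Subtype.val hβw))
  · intro t ht htU
    exact (hact t ht v htU).trans (congrArg Subtype.val hβv)
  · have h1 : ⁅(v : G), b⁆ = (w : G) := by
      have h := (hact b hbT v hbU).trans (congrArg Subtype.val hβv)
      rw [coe_mul] at h
      calc ⁅(v : G), b⁆ = (v : G) * (b * (v : G) * b⁻¹)⁻¹ := by rw [commutatorElement_def]; group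
        _ = (v : G) * ((v : G) * w)⁻¹ := by rw [h]
        _ = (w : G)⁻¹ := by
          rw [hcm _ v.2 _ w.2]; group
        _ = w := inv_eq_of_mul_eq_one_right (hsq w w.2)
    exact h1 ▸ commutator_mem_commutator (hU.le v.2) hbT.1

/-- An element of odd order moves a parity only if `v` lies outside. -/
theorem Ety.not_moves {c w v : G} (he : Ety S U c w v) {M : Subgroup G} (hD : ⁅(S : Subgroup G), (S : Subgroup G)⁆ ≤ M)
    (hv : v ∈ M) : ¬ Moves U M := by
  rintro ⟨n, hn, -, x, hx, hne⟩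
  have hW : ∀ y ∈ ({1, w, v, v * w} : Set G), y ∈ M := by
    intro y hy
    simp only [Set.mem_insert_iff, Set.mem_singleton_iff] at hy
    rcases hy with rfl | rfl | rfl | rfl
    exacts [one_mem _, hD he.wD, hv, mul_mem hv (hD he.wD)]
  have hm : ∀ y ∈ ({1, w, v, v * w} : Set G), n * y * n⁻¹ ∈ M := fun y hy => hW _ (he.pres n hn y hy)
  refine hne ?_
  obtain ⟨i, hi, hxi⟩ := he.decomp x hx
  have hcw : n * (c * w) * n⁻¹ = c * (n * w * n⁻¹) := by
    rw [show n * (c * w) * n⁻¹ = n * c * n⁻¹ * (n * w * n⁻¹) by group, he.fix n hn]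
  have hw' : w ∈ ({1, w, v, v * w} : Set G) := by simp
  have hv' : v ∈ ({1, w, v, v * w} : Set G) := by simp
  have hi' : n * i * n⁻¹ ∈ M ↔ i ∈ M := by
    simp only [Set.mem_insert_iff, Set.mem_singleton_iff] at hi
    rcases hi with e | e | e | e <;> rw [e]
    · simp
    · rw [he.fix n hn]
    · exact iff_of_true (hm w hw') (hW w hw')
    · rw [hcw, mul_mem_cancel_right (hm w hw'), mul_mem_cancel_right (hW w hw')]
  rcases hxi with rfl | rfl
  · exact hi'
  · rw [show n * (i * v) * n⁻¹ = n * i * n⁻¹ * (n * v * n⁻¹) by group, mul_mem_cancel_right (hm v hv'),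
      mul_mem_cancel_right hv, hi']

end Cfsg.Agent.Fus.LenSeven
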