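import Cfsg.Agent.Lib.Fus.LengthSeven.Local
import Cfsg.Agent.Lib.Fus.LengthSeven.EType
import Cfsg.Agent.Lib.Fus.LengthEight.Orbits

/-!
# The commutator subgroup next to an elementary essential subgroup (for S3249)
-/

set_option autoImplicit false
set_option linter.style.haveILetI false

namespace Cfsg.Agent.Fus.LenSeven

open Subgroup LenEight
open scoped commutatorElement

universe u

variable {G : Type u} [Group G] [Finite G] {S : Sylow 2 G}

omit [Finite G] in
theorem conj_mem_of_der {K : Subgroup G} (hKS : K ≤ (S : Subgroup G)) (hK : ⁅(S : Subgroup G), (S : Subgroup G)⁆ ≤ K)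
    {s k : G} (hs : s ∈ (S : Subgroup G)) (hk : k ∈ K) : s * k * s⁻¹ ∈ K := by
  rw [show s * k * s⁻¹ = (s * k * s⁻¹ * k⁻¹) * k by group]
  exact mul_mem (hK (commutator_mem_commutator hs (hKS hk))) hk

theorem der_le {M : Subgroup G} (hi : M.relIndex (S : Subgroup G) = 2) :
    ⁅(S : Subgroup G), (S : Subgroup G)⁆ ≤ M :=
  commutator_le.2 fun a ha c hc => by
    rw [commutatorElement_def, half_mul hi (mul_mem (mul_mem ha hc) (inv_mem ha)) (inv_mem hc),
      half_conj hi hc ha, inv_mem_iff]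

/-- A proper subgroup of `S` lies in a half. -/
theorem exists_half {K : Subgroup G} (hK : K ≤ (S : Subgroup G)) (hne : K ≠ (S : Subgroup G)) :
    ∃ M, K ≤ M ∧ M ≤ (S : Subgroup G) ∧ M.relIndex (S : Subgroup G) = 2 := by
  haveI : Fact (Nat.Prime 2) := ⟨Nat.prime_two⟩
  haveI := S.isPGroup'.isNilpotent
  rcases eq_top_or_exists_le_coatom (K.subgroupOf (S : Subgroup G)) with e | ⟨M, hM, hle⟩
  · exact absurd (le_antisymm hK (subgroupOf_eq_top.1 e)) hne
  haveI : M.Normal := Subgroup.NormalizerCondition.normal_of_coatom M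
    Group.normalizerCondition_of_isNilpotent hM
  have hp := Grp.normal_index_prime_of_coatom hM
  refine ⟨M.map (S : Subgroup G).subtype, fun x hx => ⟨⟨x, hK hx⟩, hle hx, rfl⟩, map_subtype_le _, ?_⟩
  have h1 : (M.map (S : Subgroup G).subtype).relIndex (S : Subgroup G) = M.index := by
    rw [relIndex, ← comap_subtype, comap_map_eq_self_of_injective (subtype_injective _)]
  rw [h1]
  obtain ⟨a, ha⟩ := IsPGroup.iff_card.1 S.isPGroup'
  exact (Nat.prime_dvd_prime_iff_eq hp Nat.prime_two).1 (hp.dvd_of_dvd_pow (ha ▸ M.index_dvd_card))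

omit [Finite G] in
theorem mem_sup_invol {H : Subgroup G} {g : G} (hg : g * g = 1) (hn : ∀ h ∈ H, g * h * g⁻¹ ∈ H) {x : G}
    (hx : x ∈ H ⊔ zpowers g) : x ∈ H ∨ x * g ∈ H := by
  have hgi : g⁻¹ = g := inv_eq_of_mul_eq_one_right hg
  let K : Subgroup G :=
    { carrier := {y | y ∈ H ∨ y * g ∈ H}
      one_mem' := Or.inl H.one_mem
      mul_mem' := fun {a b} ha hb => by
        rcases ha with ha | ha <;> rcases hb with hb | hb
        · exact Or.inl (mul_mem ha hb)
        · exact Or.inr (by rw [mul_assoc]; exact mul_mem ha hb)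
        · refine Or.inr ?_
          rw [show a * b * g = (a * g) * (g * b * g⁻¹) by rw [hgi, mul_assoc a g, ← mul_assoc g (g * b), ← mul_assoc g g, hg, one_mul, mul_assoc]]
          exact mul_mem ha (hn b hb)
        · refine Or.inl ?_
          rw [show a * b = (a * g) * (g * (b * g) * g⁻¹) by simp only [mul_assoc, mul_inv_cancel, mul_one]; rw [← mul_assoc g g, hg, one_mul]]
          exact mul_mem ha (hn _ hb)
      inv_mem' := fun {a} ha => by
        rcases ha with ha | ha
        · exact Or.inl (inv_mem ha)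
        · refine Or.inr ?_
          have := hn _ (inv_mem ha)
          rw [mul_inv_rev, hgi] at this
          rwa [show g * (g * a⁻¹) * g = a⁻¹ * g by rw [← mul_assoc g g, hg, one_mul]] at this }
  exact (sup_le (fun h hh => Or.inl hh) (zpowers_le.2 (Or.inr (by rw [hg]; exact H.one_mem))) : H ⊔ zpowers g ≤ K) hx

theorem card_sup_invol {H : Subgroup G} {g : G} (hg : g * g = 1) (hn : ∀ h ∈ H, g * h * g⁻¹ ∈ H) :
    Nat.card ↥(H ⊔ zpowers g) ≤ 2 * Nat.card H := by
  classical
  refine (Nat.card_le_card_of_injective (fun x : ↥(H ⊔ zpowers g) => if h : (x : G) ∈ H then (true, (⟨x, h⟩ : H))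
    else (false, ⟨(x : G) * g, (mem_sup_invol hg hn x.2).resolve_left h⟩)) ?_).trans
    (by rw [Nat.card_prod, Nat.card_eq_fintype_card (α := Bool), Fintype.card_bool])
  intro x y e
  dsimp only at e
  by_cases hx : (x : G) ∈ H <;> by_cases hy : (y : G) ∈ H
  · rw [dif_pos hx, dif_pos hy] at e
    exact Subtype.ext (congrArg (fun p => ((p.2 : H) : G)) e)
  · rw [dif_pos hx, dif_neg hy] at e
    exact Bool.noConfusion (congrArg Prod.fst e)
  · rw [dif_neg hx, dif_pos hy] at e
    exact Bool.noConfusion (congrArg Prod.fst e)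
  · rw [dif_neg hx, dif_neg hy] at e
    exact Subtype.ext (mul_right_cancel (congrArg (fun p => ((p.2 : H) : G)) e))

variable {U : Subgroup G} {c w v : G}

omit [Finite G] in
/-- The outer elements are those outside the fixed four-group. -/
theorem Ety.outer (he : Ety S U c w v) {x : G} (hx : x ∈ U) (hxI : x ∉ ({1, c, w, c * w} : Set G)) :
    ∃ i ∈ ({1, c, w, c * w} : Set G), x = i * v := by
  obtain ⟨i, hi, h | h⟩ := he.decomp x hx
  · exact absurd (h ▸ hi) hxI
  · exact ⟨i, hi, h⟩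

omit [Finite G] in
theorem Ety.fixed_I (he : Ety S U c w v) {i : G} (hi : i ∈ ({1, c, w, c * w} : Set G)) {t : G}
    (htT : t ∈ nS S U) : t * i * t⁻¹ = i := by
  simp only [Set.mem_insert_iff, Set.mem_singleton_iff] at hi
  have h1 := he.fix t htT.2
  have h2 : t * w * t⁻¹ = w := mul_inv_eq_iff_eq_mul.2 (he.wT t htT)
  rcases hi with rfl | rfl | rfl | rfl
  · simp
  · exact h1
  · exact h2
  · rw [show t * (c * w) * t⁻¹ = t * c * t⁻¹ * (t * w * t⁻¹) by group, h1, h2]

theorem Ety.cent_outer (hU : Ess S U) (he : Ety S U c w v) {x : G} (hx : x ∈ U)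
    (hxI : x ∉ ({1, c, w, c * w} : Set G)) : (S : Subgroup G) ⊓ centralizer ({x} : Set G) = U := by
  symm
  have hle : U ≤ (S : Subgroup G) ⊓ centralizer ({x} : Set G) :=
    fun u hu => ⟨hU.le hu, mem_centralizer_singleton_iff.2 (he.comm u hu x hx)⟩
  by_contra hne
  obtain ⟨t, ht, htU, htN⟩ := exists_normalizing inf_le_left (lt_of_le_of_ne hle hne)
  obtain ⟨i, hi, rfl⟩ := he.outer hx hxI
  have htT : t ∈ nS S U := ⟨ht.1, htN⟩
  have hti := he.fixed_I hi htT
  have h3 : t * (i * v) * t⁻¹ = i * v := mul_inv_eq_iff_eq_mul.2 (mem_centralizer_singleton_iff.1 ht.2)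
  rw [show t * (i * v) * t⁻¹ = t * i * t⁻¹ * (t * v * t⁻¹) by group, hti, he.bv t htT htU, mul_right_inj,
    mul_eq_left] at h3
  exact he.w1 h3

theorem Big.der_index (hb : Big G S) :
    8 * Nat.card ↥⁅(S : Subgroup G), (S : Subgroup G)⁆ ≤ Nat.card (S : Subgroup G) := by
  haveI : Fact (Nat.Prime 2) := ⟨Nat.prime_two⟩
  haveI := S.isPGroup'.isNilpotent
  have hD : Nat.card ↥⁅(S : Subgroup G), (S : Subgroup G)⁆ = Nat.card (commutator (S : Subgroup G)) := by
    rw [← Subgroup.map_subtype_commutator, card_map_of_injective (subtype_injective _)]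
  have hci := (commutator (S : Subgroup G)).card_mul_index
  obtain ⟨a, ha⟩ := IsPGroup.iff_card.1 S.isPGroup'
  obtain ⟨i, -, hi⟩ := (Nat.dvd_prime_pow Nat.prime_two).1 (ha ▸ (commutator (S : Subgroup G)).index_dvd_card)
  rw [hD, mul_comm]
  rcases Nat.lt_or_ge i 3 with h | h
  · exfalso
    have hab : ¬ IsCyclic ((S : Subgroup G) ⧸ commutator (S : Subgroup G)) := by
      intro hc
      obtain ⟨g, hg⟩ := hc.exists_generator
      obtain ⟨g, rfl⟩ := QuotientGroup.mk_surjective g
      obtain ⟨x, hx, y, hy, hxy⟩ := hb.sna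
      rcases eq_top_or_exists_le_coatom (zpowers g) with e | ⟨M, hM, hle⟩
      · obtain ⟨m, hm⟩ := (e ▸ mem_top (⟨x, hx⟩ : (S : Subgroup G)) : _ ∈ zpowers g)
        obtain ⟨n, hn⟩ := (e ▸ mem_top (⟨y, hy⟩ : (S : Subgroup G)) : _ ∈ zpowers g)
        simp only at hm hn
        have := ((Commute.refl g).zpow_zpow m n).eq
        rw [hm, hn] at this
        exact hxy (congrArg Subtype.val this)
      · haveI : M.Normal := Subgroup.NormalizerCondition.normal_of_coatom M
          Group.normalizerCondition_of_isNilpotent hM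
        have hp := Grp.normal_index_prime_of_coatom hM
        haveI : Fact M.index.Prime := ⟨hp⟩
        haveI : IsCyclic ((S : Subgroup G) ⧸ M) := isCyclic_of_prime_card (p := M.index) rfl
        have hcM : commutator (S : Subgroup G) ≤ M := by
          rw [commutator_def, commutator_le]
          intro a _ b _
          rw [← QuotientGroup.eq_one_iff, commutatorElement_def, QuotientGroup.mk_mul, QuotientGroup.mk_mul,
            QuotientGroup.mk_mul, QuotientGroup.mk_inv, QuotientGroup.mk_inv,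
            IsCyclic.commGroup.mul_comm (a : (S : Subgroup G) ⧸ M) b, mul_inv_cancel_right, mul_inv_cancel]
        refine hM.1 ((eq_top_iff' M).2 fun s => ?_)
        obtain ⟨m, hm⟩ := hg (QuotientGroup.mk s)
        have h1 : (g ^ m)⁻¹ * s ∈ commutator (S : Subgroup G) := by
          rw [← QuotientGroup.eq, QuotientGroup.mk_zpow]; exact hm
        simpa using mul_mem (hle ⟨m, rfl⟩) (hcM h1)
    interval_cases i
    · exact hab (by
        haveI : Subsingleton ((S : Subgroup G) ⧸ commutator (S : Subgroup G)) :=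
          (Nat.card_eq_one_iff_unique.1 (by rw [← index_eq_card, hi]; rfl)).1
        infer_instance)
    · exact hab (isCyclic_of_prime_card (p := 2) (by rw [← index_eq_card, hi]; rfl))
    · exact hb.commutator_index (by rw [hi]; rfl)
  · rw [← hci, hi]
    exact Nat.mul_le_mul_left _ (Nat.pow_le_pow_right two_pos h : 2 ^ 3 ≤ 2 ^ i)

/-- The class of an outer element is its coset of the commutator subgroup. -/
theorem Ety.class_eq (hb : Big G S) (hU : Ess S U) (he : Ety S U c w v) {x : G} (hx : x ∈ U)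
    (hxI : x ∉ ({1, c, w, c * w} : Set G)) :
    Nat.card (S : Subgroup G) = 8 * Nat.card ↥⁅(S : Subgroup G), (S : Subgroup G)⁆ ∧
      ∀ d ∈ ⁅(S : Subgroup G), (S : Subgroup G)⁆, ∃ s ∈ (S : Subgroup G), s * x * s⁻¹ = d * x := by
  set D := ⁅(S : Subgroup G), (S : Subgroup G)⁆ with hDd
  have h1 := orb_card (S : Subgroup G) x
  rw [he.cent_outer hU hx hxI, he.card] at h1
  have hle := hb.der_index
  have hinj : (orb (S : Subgroup G) x).InjOn (fun p => p * x⁻¹) := fun p _ q _ e => mul_right_cancel e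
  have hsub : (fun p => p * x⁻¹) '' orb (S : Subgroup G) x ⊆ (D : Set G) := by
    rintro _ ⟨p, hp, rfl⟩
    exact orb_coset (hU.le hx) hp
  have hDn : (D : Set G).ncard = Nat.card D := (Nat.card_coe_set_eq _).symm
  have h2 := Set.ncard_le_ncard hsub
  rw [hinj.ncard_image] at h2
  rw [← hDd] at hle
  refine ⟨by omega, fun d hd => ?_⟩
  have heq := Set.eq_of_subset_of_ncard_le hsub (by rw [hinj.ncard_image]; omega)
  obtain ⟨p, ⟨s, hs, rfl⟩, hp⟩ := (heq.ge : (D : Set G) ⊆ _) hd
  exact ⟨s, hs, mul_inv_eq_iff_eq_mul.1 hp⟩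

theorem Ety.inverts (hb : Big G S) (hU : Ess S U) (he : Ety S U c w v) {x : G} (hx : x ∈ U)
    (hxI : x ∉ ({1, c, w, c * w} : Set G)) {d : G} (hd : d ∈ ⁅(S : Subgroup G), (S : Subgroup G)⁆) :
    x * d * x⁻¹ = d⁻¹ := by
  obtain ⟨s, -, hs⟩ := (he.class_eq hb hU hx hxI).2 d hd
  have h1 : d * x * (d * x) = 1 := by
    rw [← hs, show s * x * s⁻¹ * (s * x * s⁻¹) = s * (x * x) * s⁻¹ by group, he.sq x hx, mul_one, mul_inv_cancel]
  rw [inv_eq_of_mul_eq_one_right (he.sq x hx)]
  refine eq_inv_of_mul_eq_one_right ?_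
  simpa [mul_assoc] using h1

theorem Ety.inverts_v (hb : Big G S) (hU : Ess S U) (he : Ety S U c w v) {d : G}
    (hd : d ∈ ⁅(S : Subgroup G), (S : Subgroup G)⁆) : v * d * v⁻¹ = d⁻¹ :=
  he.inverts hb hU he.hv he.vI hd

theorem Ety.der_comm (hb : Big G S) (hU : Ess S U) (he : Ety S U c w v) {d e : G}
    (hd : d ∈ ⁅(S : Subgroup G), (S : Subgroup G)⁆) (hee : e ∈ ⁅(S : Subgroup G), (S : Subgroup G)⁆) :
    d * e = e * d := by
  have h := he.inverts_v hb hU (mul_mem hd hee)
  rw [show v * (d * e) * v⁻¹ = v * d * v⁻¹ * (v * e * v⁻¹) by group, he.inverts_v hb hU hd, he.inverts_v hb hU hee,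
    ← mul_inv_rev, inv_inj] at h
  exact h.symm

theorem Ety.cent_I (hb : Big G S) (hU : Ess S U) (he : Ety S U c w v) {i : G}
    (hi : i ∈ ({1, c, w, c * w} : Set G)) {d : G} (hd : d ∈ ⁅(S : Subgroup G), (S : Subgroup G)⁆) :
    i * d * i⁻¹ = d := by
  have hiU : i ∈ U := by
    simp only [Set.mem_insert_iff, Set.mem_singleton_iff] at hi
    rcases hi with rfl | rfl | rfl | rfl
    exacts [one_mem _, he.hc, he.hw, mul_mem he.hc he.hw]
  have hI : i * v ∉ ({1, c, w, c * w} : Set G) := fun h => by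
    obtain ⟨t, ht, htU⟩ := Set.exists_of_ssubset hU.lt_nS
    have h1 := he.fixed_I h ht
    rw [show t * (i * v) * t⁻¹ = t * i * t⁻¹ * (t * v * t⁻¹) by group, he.fixed_I hi ht, he.bv t ht htU,
      mul_right_inj, mul_eq_left] at h1
    exact he.w1 h1
  have h1 := he.inverts hb hU (mul_mem hiU he.hv) hI hd
  have h2 := he.inverts_v hb hU (inv_mem hd)
  rw [inv_inv] at h2
  calc i * d * i⁻¹ = (i * v) * (v⁻¹ * d * v) * (i * v)⁻¹ := by group
    _ = (i * v) * d⁻¹ * (i * v)⁻¹ := by
        rw [inv_eq_of_mul_eq_one_right (he.sq v he.hv)]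
        have := he.inverts_v hb hU hd
        rw [inv_eq_of_mul_eq_one_right (he.sq v he.hv)] at this
        rw [this]
    _ = (i * v * d * (i * v)⁻¹)⁻¹ := by group
    _ = d := by rw [h1, inv_inv]

theorem Ety.not_der_le (hU : Ess S U) (he : Ety S U c w v) (h32 : 32 ≤ Nat.card (S : Subgroup G)) :
    ¬ ⁅(S : Subgroup G), (S : Subgroup G)⁆ ≤ U := fun hle => by
  have h1 : nS S U = (S : Subgroup G) := le_antisymm inf_le_left fun s hs =>
    ⟨hs, mem_normalizer_fintype fun k hk => conj_mem_of_der hU.le hle hs hk⟩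
  have := he.cardT
  rw [h1] at this
  omega

theorem Ety.exists_not_sq (hb : Big G S) (hU : Ess S U) (he : Ety S U c w v)
    (h32 : 32 ≤ Nat.card (S : Subgroup G)) :
    ∃ d ∈ ⁅(S : Subgroup G), (S : Subgroup G)⁆, d * d ≠ 1 := by
  by_contra! h
  refine he.not_der_le hU h32 fun d hd => ?_
  rw [← he.cent_outer hU he.hv he.vI]
  refine ⟨commutator_le_S hd, mem_centralizer_singleton_iff.2 ?_⟩
  have h1 := he.inverts_v hb hU hd
  rw [inv_eq_of_mul_eq_one_right (h d hd), mul_inv_eq_iff_eq_mul] at h1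
  exact h1.symm

end Cfsg.Agent.Fus.LenSeven
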