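import Cfsg.Agent.Lib.Fus.LengthSeven.Cent
import Cfsg.Agent.Lib.Transfer.PSUThreeIndex.Borel
import Cfsg.Agent.Lib.Classical.UnitCenter

/-!
# Simple groups of length at most seven: `L₃(q)` and `U₃(q)` are mostly too long (for S3249)
-/

set_option autoImplicit false
set_option linter.style.haveILetI false

namespace Cfsg.Agent.Fus.LenSeven

open Subgroup LenEight Matrix

universe u v

/-- Chains are carried along injective homomorphisms, in any universes. -/
theorem len_map_any {G : Type u} [Group G] {K : Type v} [Group K] (f : K →* G) (hf : Function.Injective f) :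
    ∀ {n : ℕ} {H : Subgroup K}, Len n H → Len n (H.map f)
  | 0, _, _ => trivial
  | _ + 1, _, ⟨_, hlt, h⟩ => ⟨_, (map_lt_map_iff_of_injective hf).2 hlt, len_map_any f hf h⟩

/-- `SL₂(q)` has length at least five for `q ≥ 5` odd. -/
theorem sl_len_five {F : Type} [Field F] [Fintype F] (hodd : Odd (Fintype.card F)) (h3 : 3 < Fintype.card F) :
    Len 5 (⊤ : Subgroup (Matrix.SpecialLinearGroup (Fin 2) F)) := by
  have hc := Invol.GW.card_center_SLTwo hodd
  haveI : Nontrivial (Matrix.SpecialLinearGroup (Fin 2) F) :=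
    Finite.one_lt_card_iff_nontrivial.1 (lt_of_lt_of_le (hc ▸ one_lt_two) (card_le_card_group _))
  set Z := center (Matrix.SpecialLinearGroup (Fin 2) F) with hZ
  have hq : ¬ Group.IsSolvable (Matrix.SpecialLinearGroup (Fin 2) F ⧸ Z) := fun hs => by
    haveI : Group.IsSolvable Z := Group.isSolvable_of_comm mul_comm'
    haveI : Group.IsSolvable (Matrix.SpecialLinearGroup (Fin 2) F) :=
      (Group.isSolvable_iff_subgroup_quotient Z).2 ⟨inferInstance, hs⟩
    exact (Group.IsSolvable.commutator_lt_top_of_nontrivial (Matrix.SpecialLinearGroup (Fin 2) F)).ne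
      (Invol.GW.SLTwo_perfect h3)
  have hz : Len 1 (QuotientGroup.mk' Z).ker := by
    rw [QuotientGroup.ker_mk']
    exact len_two_group (a := 1) (by rw [hc]; rfl)
  have := Len.comap (QuotientGroup.mk' Z) (QuotientGroup.mk'_surjective _) hz (len_four _ _ rfl hq)
  rwa [comap_top] at this

theorem subgroup_inv_mem {H : Type u} [Group H] [Finite H] {M : Submonoid H} {x : H} (hx : x ∈ M) : x⁻¹ ∈ M := by
  have : x⁻¹ = x ^ (orderOf x - 1) := by
    rw [← mul_eq_one_iff_inv_eq, ← pow_succ', Nat.sub_add_cancel (orderOf_pos x), pow_orderOf_eq_one]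
  rw [this]
  exact M.pow_mem hx _

variable {G : Type u} [Group G] [Finite G]

/-- `PSL₃(q)` is too long for odd `q`. -/
theorem Hyp.false_psl_three (h : Hyp G) {F : Type} [Field F] [Fintype F] (hodd : Odd (Fintype.card F))
    (hsl : Len 4 (⊤ : Subgroup (Matrix.SpecialLinearGroup (Fin 2) F)))
    (e : G ≃* Matrix.ProjectiveSpecialLinearGroup (Fin 3) F) : False := by
  classical
  let M : Submonoid (Matrix.SpecialLinearGroup (Fin 3) F) :=
    { carrier := {A | A 2 0 = 0 ∧ A 2 1 = 0 ∧ A 2 2 = 1}
      one_mem' := by simp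
      mul_mem' := fun {A B} ha hb => by
        obtain ⟨a0, a1, a2⟩ := ha
        obtain ⟨b0, b1, b2⟩ := hb
        refine ⟨?_, ?_, ?_⟩ <;> simp [Matrix.mul_apply, Fin.sum_univ_three, a0, a1, a2, b0, b1, b2] }
  let P : Subgroup (Matrix.SpecialLinearGroup (Fin 3) F) := { M with inv_mem' := fun hx => subgroup_inv_mem hx }
  have hP : ∀ A : Matrix.SpecialLinearGroup (Fin 3) F, A ∈ P ↔ A 2 0 = 0 ∧ A 2 1 = 0 ∧ A 2 2 = 1 := fun A => Iff.rfl
  let π : P →* Matrix.SpecialLinearGroup (Fin 2) F :=
    { toFun := fun A => ⟨!![A.1 0 0, A.1 0 1; A.1 1 0, A.1 1 1], by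
        obtain ⟨a0, a1, a2⟩ := A.2
        have hd := A.1.2
        rw [det_fin_three, a0, a1, a2] at hd
        rw [det_fin_two]
        simp
        linear_combination hd⟩
      map_one' := Subtype.ext (by simp [one_fin_two])
      map_mul' := fun A B => Subtype.ext (Matrix.ext fun i j => by
        obtain ⟨b0, b1, -⟩ := B.2
        show !![_, _; _, _] i j = ((!![_, _; _, _] : Matrix (Fin 2) (Fin 2) F) * (!![_, _; _, _] : Matrix (Fin 2) (Fin 2) F)) i j
        fin_cases i <;> fin_cases j <;>
          simp [Matrix.mul_apply, Fin.sum_univ_two, Fin.sum_univ_three, b0, b1]) }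
  have hπ : Function.Surjective π := fun X => by
    refine ⟨⟨⟨!![X 0 0, X 0 1, 0; X 1 0, X 1 1, 0; 0, 0, 1], ?_⟩, (hP _).2 ⟨rfl, rfl, rfl⟩⟩, ?_⟩
    · have hd := X.2
      rw [det_fin_two] at hd
      rw [det_fin_three]
      simp
      linear_combination hd
    · exact Subtype.ext (Matrix.ext fun i j => by
        show !![_, _; _, _] i j = _
        fin_cases i <;> fin_cases j <;> simp)
  let ι : Multiplicative (F × F) →* P :=
    { toFun := fun a => ⟨⟨!![1, 0, a.toAdd.1; 0, 1, a.toAdd.2; 0, 0, 1], by rw [det_fin_three]; simp⟩,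
        (hP _).2 ⟨rfl, rfl, rfl⟩⟩
      map_one' := Subtype.ext (Subtype.ext (by ext i j; fin_cases i <;> fin_cases j <;> simp))
      map_mul' := fun a b => Subtype.ext (Subtype.ext (by
        rw [Subgroup.coe_mul, Matrix.SpecialLinearGroup.coe_mul]
        ext i j
        fin_cases i <;> fin_cases j <;> simp [Matrix.mul_apply, Fin.sum_univ_three, add_comm])) }
  have hι : Function.Injective ι := fun a b hab => by
    have h02 := congrArg (fun A : P => (A : Matrix.SpecialLinearGroup (Fin 3) F) 0 2) hab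
    have h12 := congrArg (fun A : P => (A : Matrix.SpecialLinearGroup (Fin 3) F) 1 2) hab
    simp [ι] at h02 h12
    exact Multiplicative.toAdd.injective (Prod.ext h02 h12)
  have hker : Len 2 π.ker := by
    have hle : ι.range ≤ π.ker := by
      rintro _ ⟨a, rfl⟩
      exact MonoidHom.mem_ker.2 (Subtype.ext (Matrix.ext fun i j => by
        show !![_, _; _, _] i j = _
        fin_cases i <;> fin_cases j <;> simp [ι]))
    obtain ⟨p, -, n, hp, hn⟩ := FiniteField.card' (K := F)
    have hs : Group.IsSolvable ι.range := Group.isSolvable_of_surjective (f := ι.rangeRestrict)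
      ι.rangeRestrict_surjective
    have hcard : Nat.card ι.range = p ^ (2 * (n : ℕ)) := by
      rw [← Nat.card_congr (MonoidHom.ofInjective hι).toEquiv, Nat.card_congr Multiplicative.toAdd,
        Nat.card_prod, Nat.card_eq_fintype_card, hn, two_mul, pow_add]
    have := (len_solvable _ _ hcard hs).of_top
    rw [hp.primeFactorsList_pow, List.length_replicate] at this
    exact (this.of_le (by have := n.pos; omega)).mono hle
  have hlen := Len.comap π hπ hker hsl
  rw [comap_top] at hlen
  let f : P →* G := e.symm.toMonoidHom.comp ((QuotientGroup.mk' _).comp P.subtype)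
  have hf : Function.Injective f := by
    refine (injective_iff_map_eq_one _).2 fun A hA => ?_
    have hA' : Classical.slToPSL 3 F (A : Matrix.SpecialLinearGroup (Fin 3) F) = 1 :=
      e.symm.injective (hA.trans (map_one _).symm)
    obtain ⟨c, hc⟩ := (Classical.slToPSL_eq_one_iff _).1 hA'
    obtain ⟨-, -, a2⟩ := A.2
    have hc1 : c = 1 := by
      rw [hc] at a2
      simpa using a2
    exact Subtype.ext (Subtype.ext (by rw [hc, hc1]; simp))
  -- the whole parabolic subgroup is larger
  let M' : Submonoid (Matrix.SpecialLinearGroup (Fin 3) F) :=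
    { carrier := {A | A 2 0 = 0 ∧ A 2 1 = 0}
      one_mem' := by simp
      mul_mem' := fun {A B} ha hb => by
        obtain ⟨a0, a1⟩ := ha
        obtain ⟨b0, b1⟩ := hb
        refine ⟨?_, ?_⟩ <;> simp [Matrix.mul_apply, Fin.sum_univ_three, a0, a1, b0, b1] }
  let P' : Subgroup (Matrix.SpecialLinearGroup (Fin 3) F) := { M' with inv_mem' := fun hx => subgroup_inv_mem hx }
  let f' : P' →* G := e.symm.toMonoidHom.comp ((QuotientGroup.mk' _).comp P'.subtype)
  have hval : ∀ (A : Matrix.SpecialLinearGroup (Fin 3) F) (T : Matrix.SpecialLinearGroup (Fin 3) F),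
      Classical.slToPSL 3 F A = Classical.slToPSL 3 F T →
      ∃ c : F, (T : Matrix (Fin 3) (Fin 3) F) = A * Matrix.scalar (Fin 3) c := by
    intro A T hAT
    obtain ⟨c, hc⟩ := (Classical.slToPSL_eq_one_iff (A⁻¹ * T)).1 (by rw [map_mul, map_inv, hAT, inv_mul_cancel])
    exact ⟨c, by rw [← hc, ← Matrix.SpecialLinearGroup.coe_mul, mul_inv_cancel_left]⟩
  have hne : f'.range ≠ ⊤ := fun htop => by
    let T : Matrix.SpecialLinearGroup (Fin 3) F := ⟨!![1, 0, 0; 0, 1, 0; 1, 0, 1], by rw [det_fin_three]; simp⟩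
    obtain ⟨A, hA⟩ := MonoidHom.range_eq_top.1 htop (e.symm (Classical.slToPSL 3 F T))
    obtain ⟨c, hT⟩ := hval A T (e.symm.injective hA)
    have h20 := congrArg (fun N : Matrix (Fin 3) (Fin 3) F => N 2 0) hT
    obtain ⟨a0, -⟩ := A.2
    simp [T, Matrix.mul_apply, Fin.sum_univ_three, a0] at h20
  have hlt : f.range < f'.range := by
    refine lt_of_le_of_ne ?_ fun heq => ?_
    · rintro _ ⟨A, rfl⟩
      exact ⟨⟨A.1, A.2.1, A.2.2.1⟩, rfl⟩
    let T : Matrix.SpecialLinearGroup (Fin 3) F := ⟨!![1, 0, 0; 0, -1, 0; 0, 0, -1], by rw [det_fin_three]; simp⟩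
    have hTP : T ∈ P' := by constructor <;> simp [T]
    obtain ⟨A, hA⟩ : f' ⟨T, hTP⟩ ∈ f.range := heq ▸ ⟨⟨T, hTP⟩, rfl⟩
    obtain ⟨c, hT⟩ := hval A T (e.symm.injective hA)
    have hd := congrArg Matrix.det hT
    rw [Matrix.det_mul, A.1.2, T.2, one_mul] at hd
    have h22 := congrArg (fun N : Matrix (Fin 3) (Fin 3) F => N 2 2) hT
    obtain ⟨-, a1, a2⟩ := A.2
    simp [T, Matrix.mul_apply, Fin.sum_univ_three, a2] at h22
    simp [Fin.prod_univ_three, ← h22] at hd
    exact odd_two_ne_zero hodd (by linear_combination hd)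
  have := len_map_any f hf hlen
  rw [← MonoidHom.range_eq_map] at this
  have := h.proper_len (this.succ hlt) hne
  omega

/-- `PSU₃(p)` is too long for primes `p ≥ 7`, and has order 126000 for `p = 5`. -/
theorem Hyp.psu_three (h : Hyp G) {F : Type} [Field F] [Fintype F] {p : ℕ} (hp : p.Prime) (h5 : 5 ≤ p)
    (hF : Fintype.card F = p ^ 2) (e : G ≃* Cfsg.PSU 3 F p) : Nat.card G = 126000 := by
  classical
  set Z := center (Cfsg.SU 3 F p) with hZ
  have hZc : Nat.card Z = Nat.gcd 3 (p + 1) := Classical.natCard_center_SU hF (by norm_num)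
  by_cases hp5 : p = 5
  · subst hp5
    have h1 := Z.card_mul_index
    rw [hZc, index_eq_card, Classical.UnitMult.natCard_SU3 hF] at h1
    rw [Nat.card_congr e.toEquiv]
    show Nat.card (Cfsg.SU 3 F 5 ⧸ Z) = 126000
    rw [show Nat.gcd 3 (5 + 1) = 3 from rfl] at h1
    exact Nat.eq_of_mul_eq_mul_left (show 0 < 3 by norm_num) (h1.trans (by norm_num))
  exfalso
  haveI := Fact.mk hp
  obtain ⟨e', n', f', B⟩ := Lie.SUGen.exists_frame hF
  set K := Transfer.U3Min.Bor B with hK
  let χ := (Transfer.U3Min.chi B).toHomUnits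
  have hχs : Function.Surjective χ := fun l => by
    refine ⟨⟨Lie.SU3Pres.Tm hF B (l : F), ⟨l, Transfer.U3Min.T_e hF B l.ne_zero⟩⟩, Units.ext ?_⟩
    exact Transfer.U3Min.chi_eq hF B (Transfer.U3Min.T_e hF B l.ne_zero)
  have hKs : Group.IsSolvable K := by
    have h1 := χ.ker.card_mul_index
    rw [Subgroup.index_ker, MonoidHom.range_eq_top.2 hχs, card_top, Nat.card_units, Nat.card_eq_fintype_card (α := F), hF,
      Transfer.U3Min.card_Bor hF B] at h1
    have h25 : 25 ≤ p ^ 2 := by nlinarith
    have h2 : Nat.card χ.ker = p ^ 3 := Nat.eq_of_mul_eq_mul_right (show 0 < p ^ 2 - 1 by omega) h1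
    haveI := (IsPGroup.of_card (p := p) h2).isNilpotent
    exact Group.isSolvable_of_ker_le_range χ.ker.subtype χ (by simp)
  let ψ : K →* G := (e.symm.toMonoidHom.comp (QuotientGroup.mk' Z)).comp K.subtype
  have hR : Group.IsSolvable ψ.range := Group.isSolvable_of_surjective (f := ψ.rangeRestrict)
    ψ.rangeRestrict_surjective
  have hkc : Nat.card ψ.ker ∣ Nat.gcd 3 (p + 1) := by
    rw [← hZc, ← card_map_of_injective (f := K.subtype) K.subtype_injective]
    refine card_dvd_of_le ?_
    rintro _ ⟨x, hx, rfl⟩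
    exact (QuotientGroup.eq_one_iff _).1 (e.symm.injective ((MonoidHom.mem_ker.1 hx).trans (map_one _).symm))
  have hcard := ψ.ker.index_mul_card
  rw [Subgroup.index_ker, show Nat.card K = _ from Transfer.U3Min.card_Bor hF B] at hcard
  have h6 := h.solvable_len hR (h.ne_top_of_solvable hR)
  -- the order of the image has at least seven prime factors
  obtain ⟨d, hd⟩ : 24 ∣ p ^ 2 - 1 := by
    have h8 : 8 ∣ p ^ 2 - 1 := Nat.eight_dvd_sq_sub_one_of_odd (hp.odd_of_ne_two (by omega))
    have h3 : 3 ∣ p ^ 2 - 1 := by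
      have hp3 : ¬ 3 ∣ p := fun hd => by
        have := (Nat.prime_dvd_prime_iff_eq Nat.prime_three hp).1 hd; omega
      have h1 : 1 ≤ p ^ 2 := Nat.one_le_pow _ _ (by omega)
      have h2 : p ^ 2 % 3 = 1 := by
        rw [Nat.pow_mod]
        rcases (show p % 3 = 1 ∨ p % 3 = 2 by omega) with h | h <;> rw [h] <;> norm_num
      omega
    omega
  have hd2 : 2 ≤ d := by
    have : 7 ≤ p := by
      rcases (show p = 5 ∨ p = 6 ∨ 7 ≤ p by omega) with h | h | h
      · exact absurd h hp5
      · subst h; norm_num at hp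
      · exact h
    have : 49 ≤ p ^ 2 := by nlinarith
    omega
  rw [hd] at hcard
  have hR0 : Nat.card ψ.range ≠ 0 := Nat.card_pos.ne'
  have hk0 : Nat.card ψ.ker ≠ 0 := Nat.card_pos.ne'
  have hΩ : (Nat.card ψ.range * Nat.card ψ.ker).primeFactorsList.length =
      (p ^ 3 * (24 * d)).primeFactorsList.length := by rw [hcard]
  rw [(Nat.perm_primeFactorsList_mul hR0 hk0).length_eq, List.length_append,
    (Nat.perm_primeFactorsList_mul (pow_ne_zero 3 hp.ne_zero) (by omega)).length_eq, List.length_append,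
    (Nat.perm_primeFactorsList_mul (show (24 : ℕ) ≠ 0 by norm_num) (by omega)).length_eq, List.length_append,
    hp.primeFactorsList_pow, List.length_replicate] at hΩ
  have h24 : (24 : ℕ).primeFactorsList.length = 4 := by
    rw [show (24 : ℕ) = 2 ^ 3 * 3 by norm_num,
      (Nat.perm_primeFactorsList_mul (by norm_num) (by norm_num)).length_eq, List.length_append,
      Nat.prime_two.primeFactorsList_pow, Nat.primeFactorsList_prime Nat.prime_three]
    rfl
  have hd1 : 1 ≤ d.primeFactorsList.length := List.length_pos_iff.2 fun e => by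
    rcases (Nat.primeFactorsList_eq_nil d).1 e with h | h <;> omega
  have hk1 : (Nat.card ψ.ker).primeFactorsList.length ≤ 1 := by
    rcases (Nat.dvd_prime Nat.prime_three).1 (hkc.trans (Nat.gcd_dvd_left _ _)) with h | h
    · rw [h]; simp
    · rw [h, Nat.primeFactorsList_prime Nat.prime_three]; simp
  omega

end Cfsg.Agent.Fus.LenSeven
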