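import Cfsg.Agent.Lib.Fus.LengthSeven.Cent
import Cfsg.Agent.Lib.Invol.AbgOrder.Shape0Model

/-!
# Simple groups of length at most seven: `SL₂(p)` extended by an outer involution (for S3249)
-/

set_option autoImplicit false
set_option linter.style.haveILetI false

namespace Cfsg.Agent.Fus.LenSeven

open Subgroup Matrix

universe u v w

/-- Two split extensions of `K` by an involution with the same action are isomorphic. -/
theorem iso_of_index_two {C : Type u} {H : Type v} {K : Type w} [Group C] [Group H] [Group K] [Finite C] [Finite H]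
    (φ : K →* C) (hφ : Function.Injective φ) (hidx : φ.range.index = 2) {y : C} (hy : y * y = 1) (hyL : y ∉ φ.range)
    (j : K →* H) (hj : Function.Injective j) {M : H} (hM : M * M = 1) (hMj : M ∉ j.range) (α : K → K)
    (hα : ∀ k, y * φ k * y⁻¹ = φ (α k)) (hα' : ∀ k, M * j k * M⁻¹ = j (α k))
    (hcard : Nat.card H = 2 * Nat.card K) : Nonempty (C ≃* H) := by
  haveI : Finite K := Finite.of_injective φ hφ
  let g : K × Bool → C := fun a => φ a.1 * (cond a.2 y 1)
  let hm : K × Bool → H := fun a => j a.1 * (cond a.2 M 1)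
  let op : K × Bool → K × Bool → K × Bool := fun a b => (a.1 * (cond a.2 (α b.1) b.1), xor a.2 b.2)
  have hg : ∀ a b, g a * g b = g (op a b) := by
    rintro ⟨k, _ | _⟩ ⟨l, _ | _⟩ <;> simp only [g, op, cond_true, cond_false, Bool.false_xor, Bool.true_xor,
      Bool.not_false, Bool.not_true, mul_one, map_mul, ← hα]
    · group
    · group
    · rw [inv_eq_of_mul_eq_one_right hy]
      group
  have hh : ∀ a b, hm a * hm b = hm (op a b) := by
    rintro ⟨k, _ | _⟩ ⟨l, _ | _⟩ <;> simp only [hm, op, cond_true, cond_false, Bool.false_xor, Bool.true_xor,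
      Bool.not_false, Bool.not_true, mul_one, map_mul, ← hα']
    · group
    · group
    · rw [inv_eq_of_mul_eq_one_right hM]
      group
  have hgi : Function.Injective g := by
    rintro ⟨k, _ | _⟩ ⟨l, _ | _⟩ e <;> simp only [g, cond_true, cond_false, mul_one, mul_left_inj] at e
    · rw [hφ e]
    · exact absurd ⟨l⁻¹ * k, by rw [map_mul, map_inv, e, inv_mul_cancel_left]⟩ hyL
    · exact absurd ⟨k⁻¹ * l, by rw [map_mul, map_inv, ← e, inv_mul_cancel_left]⟩ hyL
    · rw [hφ e]
  have hhi : Function.Injective hm := by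
    rintro ⟨k, _ | _⟩ ⟨l, _ | _⟩ e <;> simp only [hm, cond_true, cond_false, mul_one, mul_left_inj] at e
    · rw [hj e]
    · exact absurd ⟨l⁻¹ * k, by rw [map_mul, map_inv, e, inv_mul_cancel_left]⟩ hMj
    · exact absurd ⟨k⁻¹ * l, by rw [map_mul, map_inv, ← e, inv_mul_cancel_left]⟩ hMj
    · rw [hj e]
  have hC : Nat.card C = 2 * Nat.card K := by
    rw [← φ.range.card_mul_index, hidx, ← Nat.card_congr (MonoidHom.ofInjective hφ).toEquiv, mul_comm]
  have hgb : Function.Bijective g := (Nat.bijective_iff_injective_and_card g).2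
    ⟨hgi, by rw [Nat.card_prod, hC, Nat.card_eq_fintype_card (α := Bool), Fintype.card_bool, mul_comm]⟩
  have hhb : Function.Bijective hm := (Nat.bijective_iff_injective_and_card hm).2
    ⟨hhi, by rw [Nat.card_prod, hcard, Nat.card_eq_fintype_card (α := Bool), Fintype.card_bool, mul_comm]⟩
  let e : C ≃ H := (Equiv.ofBijective g hgb).symm.trans (Equiv.ofBijective hm hhb)
  have he : ∀ a, e (g a) = hm a := fun a => by
    show Equiv.ofBijective hm hhb ((Equiv.ofBijective g hgb).symm (g a)) = hm a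
    rw [← Equiv.ofBijective_apply g hgb, Equiv.symm_apply_apply, Equiv.ofBijective_apply]
  refine ⟨{ toEquiv := e, map_mul' := fun c d => ?_ }⟩
  obtain ⟨a, rfl⟩ := hgb.2 c
  obtain ⟨b, rfl⟩ := hgb.2 d
  show e (g a * g b) = e (g a) * e (g b)
  rw [hg, he, he, he, hh]

section prime

variable {p : ℕ} [Fact p.Prime]

local notation "SL₂" => Matrix.SpecialLinearGroup (Fin 2) (ZMod p)
local notation "GL₂" => GL (Fin 2) (ZMod p)
local notation "toG" => (Matrix.SpecialLinearGroup.toGL : SL₂ →* GL₂)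

/-- Over a prime field every automorphism of `SL₂` is a conjugation. -/
theorem exists_conj_matrix (h3 : 3 < p) (α : SL₂ ≃* SL₂) :
    ∃ m : GL₂, ∀ s : SL₂, toG (α s) = m * toG s * m⁻¹ := by
  classical
  have hc : 3 < Fintype.card (ZMod p) := by rwa [ZMod.card]
  let β : MulAut (Matrix.ProjectiveSpecialLinearGroup (Fin 2) (ZMod p)) :=
    QuotientGroup.congr _ _ α (Subgroup.characteristic_iff_map_eq.1 inferInstance _)
  obtain ⟨g, σ, ε, -, hε, hrep⟩ := Classical.PSLAut.exists_rep (p := p) le_rfl β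
  rw [hε rfl, pow_zero, mul_one] at hrep
  have hσ : σ = RingEquiv.refl (ZMod p) := RingEquiv.ext fun x =>
    DFunLike.congr_fun (RingHom.ext_zmod (σ : ZMod p ≃+* ZMod p).toRingHom (RingHom.id _)) x
  subst hσ
  let γ : SL₂ ≃* SL₂ := α.trans (Classical.PSLAut.slSemi g (RingEquiv.refl _)).symm
  have hγ : ∀ s, s⁻¹ * γ s ∈ center SL₂ := fun s => by
    rw [← QuotientGroup.eq]
    have h1 : (Classical.PSLAut.slSemi g (RingEquiv.refl _) (γ s) : SL₂) = α s := MulEquiv.apply_symm_apply _ _
    have h2 : Classical.PSLAut.pslSemi g (RingEquiv.refl _) (Classical.slToPSL 2 (ZMod p) s) =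
        Classical.PSLAut.pslSemi g (RingEquiv.refl _) (Classical.slToPSL 2 (ZMod p) (γ s)) := by
      rw [Classical.PSLAut.pslSemi_mk g _ (γ s), h1, ← hrep]
      rfl
    exact (Classical.PSLAut.pslSemi g (RingEquiv.refl _)).injective h2
  refine ⟨g, fun s => Units.ext ?_⟩
  have h := Invol.GW.eq_id_of_central (Invol.GW.SLTwo_perfect hc) γ.toMonoidHom hγ s
  have h' : Classical.PSLAut.slSemi g (RingEquiv.refl _) s = α s := by
    conv_lhs => rw [← h]
    exact MulEquiv.apply_symm_apply _ _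
  rw [← h']
  show (g : Matrix (Fin 2) (Fin 2) (ZMod p)) * (s : Matrix (Fin 2) (Fin 2) (ZMod p)).map (RingEquiv.refl _) * _ = _
  rw [RingEquiv.coe_refl, Matrix.map_id]
  rfl

/-- Only scalars centralise `SL₂`. -/
theorem scalar_of_commute {g : GL₂} (h : ∀ s : SL₂, g * toG s = toG s * g) :
    ∃ z : (ZMod p)ˣ, g = GeneralLinearGroup.scalar (Fin 2) z := by
  have h1 : (g : Matrix (Fin 2) (Fin 2) (ZMod p)) * !![1, 1; 0, 1] = !![1, 1; 0, 1] * (g : Matrix (Fin 2) (Fin 2) (ZMod p)) :=
    congrArg Units.val (h ⟨!![1, 1; 0, 1], by simp [det_fin_two]⟩)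
  have h2 : (g : Matrix (Fin 2) (Fin 2) (ZMod p)) * !![1, 0; 1, 1] = !![1, 0; 1, 1] * (g : Matrix (Fin 2) (Fin 2) (ZMod p)) :=
    congrArg Units.val (h ⟨!![1, 0; 1, 1], by simp [det_fin_two]⟩)
  have a1 := congrFun (congrFun h1 0) 0
  have a2 := congrFun (congrFun h1 0) 1
  have a3 := congrFun (congrFun h2 0) 0
  simp [Matrix.mul_apply, Fin.sum_univ_two] at a1 a2 a3
  have hne : (g : Matrix (Fin 2) (Fin 2) (ZMod p)) 0 0 ≠ 0 := fun h0 => by
    have := Matrix.GeneralLinearGroup.det_ne_zero g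
    rw [det_fin_two, h0, a1, zero_mul, mul_zero, sub_zero] at this
    exact this rfl
  refine ⟨Units.mk0 _ hne, Units.ext (Matrix.ext fun i j => ?_)⟩
  fin_cases i <;> fin_cases j <;> simp [a1, a3]
  linear_combination -a2

/-- A non-scalar square root of a scalar matrix has trace zero. -/
theorem det_of_sq_scalar {g : GL₂} {l : (ZMod p)ˣ} (hg : g * g = GeneralLinearGroup.scalar (Fin 2) l)
    (hns : ∀ z : (ZMod p)ˣ, g ≠ GeneralLinearGroup.scalar (Fin 2) z) :
    GeneralLinearGroup.det g = -l := by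
  have h := congrArg Units.val hg
  rw [GeneralLinearGroup.coe_mul] at h
  have e00 := congrFun (congrFun h 0) 0
  have e01 := congrFun (congrFun h 0) 1
  have e10 := congrFun (congrFun h 1) 0
  have e11 := congrFun (congrFun h 1) 1
  simp [Matrix.mul_apply, Fin.sum_univ_two] at e00 e01 e10 e11
  refine Units.ext ?_
  rw [GeneralLinearGroup.val_det_apply, det_fin_two, Units.val_neg]
  set M : Matrix (Fin 2) (Fin 2) (ZMod p) := (g : Matrix (Fin 2) (Fin 2) (ZMod p)) with hM
  by_cases hs : M 0 0 + M 1 1 = 0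
  · linear_combination (M 0 0) * hs - e00
  exfalso
  have hb : M 0 1 = 0 := (mul_eq_zero.1 (show M 0 1 * (M 0 0 + M 1 1) = 0 by linear_combination e01)).resolve_right hs
  have hcz : M 1 0 = 0 :=
    (mul_eq_zero.1 (show M 1 0 * (M 0 0 + M 1 1) = 0 by linear_combination e10)).resolve_right hs
  have hd : M 0 0 = M 1 1 := sub_eq_zero.1
    ((mul_eq_zero.1 (show (M 0 0 - M 1 1) * (M 0 0 + M 1 1) = 0 by linear_combination e00 - e11)).resolve_right hs)
  have hne : M 0 0 ≠ 0 := fun h0 => hs (by rw [← hd, h0, add_zero])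
  refine hns (Units.mk0 _ hne) (Units.ext (Matrix.ext fun i j => ?_))
  rw [← hM]
  fin_cases i <;> fin_cases j <;> simp [hb, hcz, ← hd]

theorem card_GL_eq : Nat.card GL₂ = (p - 1) * Nat.card SL₂ := by
  have h := (GeneralLinearGroup.det : GL₂ →* (ZMod p)ˣ).ker.index_mul_card
  have hs : Function.Surjective (GeneralLinearGroup.det : GL₂ →* (ZMod p)ˣ) := fun z =>
    ⟨GeneralLinearGroup.mkOfDetNeZero !![(z : ZMod p), 0; 0, 1] (by simp [det_fin_two]),
      Units.ext (by simp [GeneralLinearGroup.val_det_apply, det_fin_two])⟩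
  have hk : (GeneralLinearGroup.det : GL₂ →* (ZMod p)ˣ).ker = (toG).range := by
    ext g
    refine ⟨fun hg => ⟨⟨g, congrArg Units.val (MonoidHom.mem_ker.1 hg)⟩, Units.ext rfl⟩, ?_⟩
    rintro ⟨s, rfl⟩
    exact MonoidHom.mem_ker.2 (Units.ext s.2)
  rw [Subgroup.index_ker, MonoidHom.range_eq_top.2 hs, card_top, hk,
    ← Nat.card_congr (MonoidHom.ofInjective (f := toG) Matrix.SpecialLinearGroup.toGL_injective).toEquiv,
    Nat.card_units, Nat.card_eq_fintype_card, ZMod.card] at h
  exact h.symm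

theorem scalar_det (z : (ZMod p)ˣ) : GeneralLinearGroup.det (GeneralLinearGroup.scalar (Fin 2) z) = z * z :=
  Units.ext (by simp [sq])

theorem scalar_comm (z : (ZMod p)ˣ) (g : GL₂) :
    g * GeneralLinearGroup.scalar (Fin 2) z = GeneralLinearGroup.scalar (Fin 2) z * g :=
  Units.ext (by simp [Matrix.scalar_apply, ← Matrix.smul_one_eq_diagonal])

theorem conj_scalar_mul (z : (ZMod p)ˣ) (g x : GL₂) :
    GeneralLinearGroup.scalar (Fin 2) z * g * x * (GeneralLinearGroup.scalar (Fin 2) z * g)⁻¹ = g * x * g⁻¹ := by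
  rw [_root_.mul_inv_rev, show GeneralLinearGroup.scalar (Fin 2) z * g * x *
      (g⁻¹ * (GeneralLinearGroup.scalar (Fin 2) z)⁻¹) =
    GeneralLinearGroup.scalar (Fin 2) z * (g * x * g⁻¹) * (GeneralLinearGroup.scalar (Fin 2) z)⁻¹ by group,
    ← scalar_comm, mul_inv_cancel_right]

variable {C : Type u} [Group C] [Finite C]

/-- An extension of `SL₂(p)` of index two by an involution without central supplement. -/
theorem cent_model (h3 : 3 < p) (φ : SL₂ →* C) (hφ : Function.Injective φ) (hidx : φ.range.index = 2) {y : C}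
    (hy : y * y = 1) (hyL : y ∉ φ.range)
    (hcen : ∀ w : C, (∀ c, c * w = w * c) → w ^ 4 = 1 → w ∈ φ.range) :
    (p % 4 = 3 ∧ ∃ (Z : Subgroup GL₂) (_ : Z.Normal), Z ≤ center GL₂ ∧ Odd (Nat.card Z) ∧
        Nonempty (C ≃* GL₂ ⧸ Z)) ∨
      p % 4 = 1 ∧ ∃ (L : Type) (_ : Field L) (_ : Fintype L) (Z : Subgroup (Cfsg.GU 2 L p)) (_ : Z.Normal),
        Fintype.card L = p ^ 2 ∧ Z ≤ center (Cfsg.GU 2 L p) ∧ Odd (Nat.card Z) ∧
          Nonempty (C ≃* Cfsg.GU 2 L p ⧸ Z) := by
  classical
  haveI hn : φ.range.Normal := normal_of_index_eq_two hidx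
  have hp2 : p ≠ 2 := by omega
  have hpodd : Odd p := (Fact.out : p.Prime).odd_of_ne_two hp2
  obtain ⟨r, hr⟩ := hpodd
  have hodd : Odd (Fintype.card (ZMod p)) := by rw [ZMod.card]; exact ⟨r, hr⟩
  let α : SL₂ ≃* SL₂ := (MonoidHom.ofInjective hφ).trans
    ((MulAut.conjNormal (H := φ.range) y).trans (MonoidHom.ofInjective hφ).symm)
  have hα : ∀ k, y * φ k * y⁻¹ = φ (α k) := fun k => by
    have := congrArg Subtype.val
      ((MonoidHom.ofInjective hφ).apply_symm_apply (MulAut.conjNormal y (MonoidHom.ofInjective hφ k)))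
    rw [MonoidHom.ofInjective_apply, MulAut.conjNormal_apply, MonoidHom.ofInjective_apply] at this
    exact this.symm
  obtain ⟨m, hm⟩ := exists_conj_matrix h3 α
  have hyy : ∀ k, α (α k) = k := fun k => hφ <| by
    rw [← hα, ← hα, show y * (y * φ k * y⁻¹) * y⁻¹ = (y * y) * φ k * (y * y)⁻¹ by group, hy]
    group
  obtain ⟨l, hl⟩ := scalar_of_commute (g := m * m) fun s => by
    have := congrArg (fun x => toG x) (hyy s)
    simp only [hm] at this
    conv_rhs => rw [← this]
    group
  -- the determinant is not a square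
  have hdet : ¬ IsSquare (GeneralLinearGroup.det m) := by
    rintro ⟨s, hs⟩
    let u : SL₂ := ⟨((GeneralLinearGroup.scalar (Fin 2) s⁻¹ * m : GL₂) : Matrix (Fin 2) (Fin 2) (ZMod p)), by
      rw [← GeneralLinearGroup.val_det_apply, map_mul, scalar_det, hs]
      simp⟩
    have hu : toG u = GeneralLinearGroup.scalar (Fin 2) s⁻¹ * m := Units.ext rfl
    have hcu : ∀ k, α k = u * k * u⁻¹ := fun k => Matrix.SpecialLinearGroup.toGL_injective <| by
      rw [hm, map_mul, map_mul, map_inv, hu, conj_scalar_mul]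
    set w := (φ u)⁻¹ * y with hw
    have hwL : w ∉ φ.range := fun h' => hyL (by
      have := φ.range.mul_mem (⟨u, rfl⟩ : φ u ∈ φ.range) h'
      rwa [hw, mul_inv_cancel_left] at this)
    have hwk : ∀ k, φ k * w = w * φ k := fun k => by
      have h1 := hα k
      rw [hcu, map_mul, map_mul, map_inv, mul_inv_eq_iff_eq_mul] at h1
      rw [hw, mul_assoc _ y, h1]
      group
    have hwc : ∀ c, c * w = w * c := fun c => by
      by_cases hc : c ∈ φ.range
      · obtain ⟨k, rfl⟩ := hc; exact hwk k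
      · obtain ⟨k, hk⟩ := (Subgroup.mul_mem_iff_of_index_two hidx (a := c) (b := w⁻¹)).2
          (iff_of_false hc fun h' => hwL (inv_mem_iff.1 h'))
        rw [show c = φ k * w by rw [hk, inv_mul_cancel_right], ← mul_assoc w, ← hwk]
    have hw2 : w * w ∈ φ.range := Subgroup.mul_self_mem_of_index_two hidx w
    obtain ⟨k, hk⟩ := hw2
    have hkc : k ∈ center SL₂ := mem_center_iff.2 fun g => hφ (by
      rw [map_mul, map_mul, hk, ← mul_assoc, hwk, mul_assoc, hwk, ← mul_assoc])
    have h4 := congrArg Subtype.val (pow_card_eq_one' (x := (⟨k, hkc⟩ : center SL₂)))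
    rw [Invol.GW.card_center_SLTwo hodd, SubgroupClass.coe_pow, OneMemClass.coe_one] at h4
    exact hwL (hcen w hwc (by rw [show 4 = 2 * 2 from rfl, pow_mul, sq w, ← hk, ← map_pow, h4, map_one]))
  have hns : ∀ z, m ≠ GeneralLinearGroup.scalar (Fin 2) z := fun z e => hdet ⟨z, by rw [e, scalar_det]⟩
  have hdl := det_of_sq_scalar hl hns
  have hneg : ∀ x : (ZMod p)ˣ, IsSquare x ↔ IsSquare (x : ZMod p) := fun x =>
    ⟨fun ⟨a, ha⟩ => ⟨a, by rw [ha, Units.val_mul]⟩, fun ⟨a, ha⟩ => by
      have ha0 : a ≠ 0 := fun h0 => x.ne_zero (by rw [ha, h0, mul_zero])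
      exact ⟨Units.mk0 a ha0, Units.ext ha⟩⟩
  have hsl : Nat.card GL₂ = 2 * r * Nat.card SL₂ := by rw [card_GL_eq, show p - 1 = 2 * r by omega]
  by_cases hls : IsSquare l
  · left
    obtain ⟨s, hs⟩ := hls
    set M₀ : GL₂ := GeneralLinearGroup.scalar (Fin 2) s⁻¹ * m with hM₀
    have hM2 : M₀ * M₀ = 1 := by
      rw [hM₀, mul_assoc, ← mul_assoc m, scalar_comm, mul_assoc (GeneralLinearGroup.scalar (Fin 2) s⁻¹) m m, hl,
        ← mul_assoc, ← map_mul, ← map_mul, hs, show s⁻¹ * s⁻¹ * (s * s) = 1 by group, map_one]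
    have hd1 : GeneralLinearGroup.det M₀ = -1 := by
      rw [hM₀, map_mul, scalar_det, hdl, hs, mul_neg, show s⁻¹ * s⁻¹ * (s * s) = 1 by group]
    have hn1 : ¬ IsSquare (-1 : (ZMod p)ˣ) := fun ⟨a, ha⟩ => hdet ⟨a * s, by
      rw [hdl, hs, ← neg_one_mul, ha, mul_mul_mul_comm]⟩
    have hr2 : Odd r := by
      by_contra hre
      refine hn1 ((hneg _).2 ?_)
      rw [Units.val_neg, Units.val_one]
      refine FiniteField.isSquare_neg_one_iff.2 ?_
      obtain ⟨a, ha⟩ := Nat.not_odd_iff_even.1 hre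
      rw [ZMod.card]
      omega
    set Z : Subgroup GL₂ := ((powMonoidHom r : (ZMod p)ˣ →* (ZMod p)ˣ).ker).map
      (GeneralLinearGroup.scalar (Fin 2) : (ZMod p)ˣ →* GL₂) with hZ
    have hZc : Z ≤ center GL₂ := by
      rintro _ ⟨z, -, rfl⟩
      exact mem_center_iff.2 fun g => scalar_comm z g
    haveI hZn : Z.Normal := ⟨fun n hn g => by rw [mem_center_iff.1 (hZc hn) g, mul_inv_cancel_right]; exact hn⟩
    have hinj : Function.Injective (GeneralLinearGroup.scalar (Fin 2) : (ZMod p)ˣ →* GL₂) := fun a b e =>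
      Units.ext (by simpa using congrArg (fun g : GL₂ => (g : Matrix (Fin 2) (Fin 2) (ZMod p)) 0 0) e)
    have hZr : Nat.card Z = r := by
      rw [hZ, card_map_of_injective hinj, IsCyclic.card_powMonoidHom_ker, Nat.card_units,
        Nat.card_eq_fintype_card, ZMod.card, show p - 1 = r * 2 by omega, Nat.gcd_mul_right_left]
    have hzs : ∀ z : (ZMod p)ˣ, z ^ r = 1 → z * z = 1 → z = 1 := fun z h1 h2 => by
      obtain ⟨a, ha⟩ := hr2
      rwa [ha, pow_succ, pow_mul, sq, h2, one_pow, one_mul] at h1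
    refine ⟨by obtain ⟨a, ha⟩ := hr2; omega, Z, hZn, hZc, hZr ▸ hr2, iso_of_index_two φ hφ hidx hy hyL
      ((QuotientGroup.mk' Z).comp toG) ?_ (M := QuotientGroup.mk' Z M₀) (by rw [← map_mul, hM2, map_one]) ?_ α hα
      ?_ ?_⟩
    · refine (injective_iff_map_eq_one _).2 fun k hk => ?_
      obtain ⟨z, hz, hzk⟩ := (QuotientGroup.eq_one_iff _).1 hk
      have hd := congrArg GeneralLinearGroup.det hzk
      rw [scalar_det, show GeneralLinearGroup.det (toG k) = 1 from Units.ext k.2] at hd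
      rw [hzs z hz hd, map_one] at hzk
      exact Matrix.SpecialLinearGroup.toGL_injective (hzk.symm.trans (map_one _).symm)
    · rintro ⟨k, hk⟩
      obtain ⟨z, -, hzk⟩ := QuotientGroup.eq.1 hk
      have hd := congrArg GeneralLinearGroup.det hzk
      rw [scalar_det, map_mul, map_inv, show GeneralLinearGroup.det (toG k) = 1 from Units.ext k.2, inv_one,
        one_mul, hd1] at hd
      exact hn1 ⟨z, hd.symm⟩
    · intro k
      rw [MonoidHom.comp_apply, MonoidHom.comp_apply, ← map_inv, ← map_mul, ← map_mul]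
      refine congrArg _ ?_
      rw [hm, hM₀, conj_scalar_mul]
    · have h := Z.index_mul_card
      rw [hZr, hsl, index_eq_card] at h
      exact Nat.eq_of_mul_eq_mul_right hr2.pos (by rw [h]; ring)
  · right
    have h1sq : IsSquare (-1 : (ZMod p)ˣ) := by
      by_contra hn1
      refine hdet ((hneg _).2 ?_)
      rw [hdl, Units.val_neg]
      have h1 := mt (hneg _).2 hn1
      have h2 := mt (hneg _).2 hls
      rw [Units.val_neg, Units.val_one] at h1
      have c1 : quadraticChar (ZMod p) (-1) = -1 := quadraticChar_neg_one_iff_not_isSquare.2 h1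
      have c2 : quadraticChar (ZMod p) (l : ZMod p) = -1 := quadraticChar_neg_one_iff_not_isSquare.2 h2
      refine (quadraticChar_one_iff_isSquare (neg_ne_zero.2 l.ne_zero)).1 ?_
      rw [neg_eq_neg_one_mul, map_mul, c1, c2]
      norm_num
    have hp4 : p % 4 = 1 := by
      have := (hneg _).1 h1sq
      rw [Units.val_neg, Units.val_one, FiniteField.isSquare_neg_one_iff, ZMod.card] at this
      omega
    refine ⟨hp4, GaloisField p 2, inferInstance, Fintype.ofFinite _, ?_⟩
    letI : Fintype (GaloisField p 2) := Fintype.ofFinite _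
    have hL : Module.finrank (ZMod p) (GaloisField p 2) = 2 := GaloisField.finrank p two_ne_zero
    have hcardL : Fintype.card (GaloisField p 2) = p ^ 2 := by
      rw [← Nat.card_eq_fintype_card, GaloisField.card p 2 two_ne_zero]
    let L := GaloisField p 2
    -- a square root of `l⁻¹`
    obtain ⟨c, hc⟩ := Invol.BrauerL3.GU.exists_root (A := Lˣ) (a := (p + 1) * r) (b := 2)
      (x := Block.SL2Char.emb (F := ZMod p) L l⁻¹)
      (by rw [Invol.BrauerL3.GU.card_units_L hL, ZMod.card, show p - 1 = r * 2 by omega, mul_assoc]) (by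
        have : (l⁻¹ : (ZMod p)ˣ) ^ (p - 1) = 1 := ZMod.units_pow_card_sub_one_eq_one p _
        rw [← map_pow, show (p + 1) * r = (p - 1) * (r + 1) by
          rw [show p - 1 = r * 2 by omega, show p + 1 = (r + 1) * 2 by omega]; ring, pow_mul, this, one_pow,
          map_one])
    have hlr : (l : (ZMod p)ˣ) ^ r = -1 := by
      refine Units.ext ?_
      rw [Units.val_pow_eq_pow_val, Units.val_neg, Units.val_one, show r = p / 2 by omega]
      exact ((FiniteField.pow_dichotomy (by rw [ZMod.ringChar_zmod_n]; exact hp2) l.ne_zero).resolve_left (by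
        rw [ZMod.card]
        intro e
        exact hls ((hneg _).2 ((ZMod.euler_criterion p l.ne_zero).2 e)))) |>.trans rfl |> fun e => by
          rwa [ZMod.card] at e
    have hmem : (c, m) ∈ Invol.BrauerL3.GU.Gam (ZMod p) L := by
      rw [Invol.BrauerL3.GU.mem_Gam, ZMod.card, show p + 1 = 2 * (r + 1) by omega, pow_mul, hc, ← map_pow,
        ← map_mul, show Block.SL2Char.detu m = -l from hdl, inv_pow, pow_succ, hlr]
      rw [show ((-1 : (ZMod p)ˣ) * l)⁻¹ * -l = 1 by rw [neg_one_mul, inv_mul_cancel], map_one]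
    set Ψ := Invol.BrauerL3.GU.Psi (k := ZMod p) (L := L) hL hodd with hΨ
    let zc : (powMonoidHom (r + 1) : Lˣ →* Lˣ).ker →* Invol.BrauerL3.GU.Gam (ZMod p) L :=
      ((MonoidHom.inl Lˣ GL₂).comp (powMonoidHom (r + 1) : Lˣ →* Lˣ).ker.subtype).codRestrict _ fun z => by
        show ((z : Lˣ), (1 : GL₂)) ∈ _
        have hz : (z : Lˣ) ^ (r + 1) = 1 := z.2
        rw [Invol.BrauerL3.GU.mem_Gam, ZMod.card, show p + 1 = (r + 1) * 2 by omega, pow_mul, hz, one_pow,
          map_one, map_one, mul_one]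
    set Z := (Ψ.comp zc).range with hZ
    have hzs : ∀ z : (powMonoidHom (r + 1) : Lˣ →* Lˣ).ker, (z : Lˣ) * z = 1 → z = 1 := fun z h2 => by
      have h1 : (z : Lˣ) ^ (r + 1) = 1 := z.2
      obtain ⟨a, ha⟩ : Odd (r + 1) := by rw [Nat.odd_iff]; omega
      have h3 : (z : Lˣ) ^ (r + 1) = z := by
        conv_lhs => arg 2; rw [ha]
        rw [pow_succ, pow_mul, sq, h2, one_pow, one_mul]
      exact Subtype.ext (h3.symm.trans h1)
    have hzinj : Function.Injective (Ψ.comp zc) := by
      refine (injective_iff_map_eq_one _).2 fun z hz => ?_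
      obtain ⟨w, hw1, hw2⟩ := (Invol.BrauerL3.GU.Psi_eq_one hL hodd).1 hz
      have hw : w = 1 := by
        have := congrArg (fun g : GL₂ => (g : Matrix (Fin 2) (Fin 2) (ZMod p)) 0 0) hw1
        exact Units.ext (by simpa [zc, Block.SL2Char.sc_val] using this.symm)
      rw [hw, map_one, mul_one] at hw2
      exact Subtype.ext hw2
    have hZr : Nat.card Z = r + 1 := by
      rw [hZ, ← Nat.card_congr (MonoidHom.ofInjective hzinj).toEquiv, IsCyclic.card_powMonoidHom_ker,
        Invol.BrauerL3.GU.card_units_L hL, ZMod.card, show p + 1 = (r + 1) * 2 by omega, mul_assoc,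
        Nat.gcd_mul_right_left]
    have hr1 : Odd (r + 1) := by rw [Nat.odd_iff]; omega
    have hZc : Z ≤ center (Cfsg.GU 2 L (Fintype.card (ZMod p))) := by
      rintro _ ⟨z, rfl⟩
      refine mem_center_iff.2 fun g => ?_
      obtain ⟨γ, rfl⟩ := Invol.BrauerL3.GU.Psi_surjective hL hodd g
      rw [MonoidHom.comp_apply, ← map_mul, ← map_mul]
      exact congrArg _ (Subtype.ext (Prod.ext (mul_comm _ _) (by
        show γ.1.2 * 1 = 1 * γ.1.2
        rw [mul_one, one_mul])))
    haveI hZn : Z.Normal := ⟨fun n hn g => by rw [mem_center_iff.1 (hZc hn) g, mul_inv_cancel_right]; exact hn⟩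
    suffices hiso : Nonempty (C ≃* Cfsg.GU 2 L (Fintype.card (ZMod p)) ⧸ Z) by
      have key : ∀ q : ℕ, q = Fintype.card (ZMod p) → ∃ (Z : Subgroup (Cfsg.GU 2 L q)) (_ : Z.Normal),
          Fintype.card L = p ^ 2 ∧ Z ≤ center (Cfsg.GU 2 L q) ∧ Odd (Nat.card Z) ∧
            Nonempty (C ≃* Cfsg.GU 2 L q ⧸ Z) := by
        rintro q rfl
        exact ⟨Z, hZn, hcardL, hZc, hZr ▸ hr1, hiso⟩
      exact key p (ZMod.card p).symm
    let up : SL₂ →* Invol.BrauerL3.GU.Gam (ZMod p) L :=
      ((MonoidHom.inr Lˣ GL₂).comp toG).codRestrict _ fun s => by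
        show ((1 : Lˣ), toG s) ∈ _
        rw [Invol.BrauerL3.GU.mem_Gam, show Block.SL2Char.detu (toG s) = 1 from Units.ext s.2, map_one, one_pow,
          mul_one]
    refine iso_of_index_two φ hφ hidx hy hyL ((QuotientGroup.mk' Z).comp (Ψ.comp up)) ?_
      (M := QuotientGroup.mk' Z (Ψ ⟨(c, m), hmem⟩)) ?_ ?_ α hα ?_ ?_
    · refine (injective_iff_map_eq_one _).2 fun k hk => ?_
      obtain ⟨z, hz⟩ := (QuotientGroup.eq_one_iff _).1 hk
      have h1 : Ψ ((zc z)⁻¹ * up k) = 1 := by
        rw [map_mul, map_inv]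
        exact inv_mul_eq_one.2 hz
      obtain ⟨w, hw1, hw2⟩ := (Invol.BrauerL3.GU.Psi_eq_one hL hodd).1 h1
      have hd := congrArg Block.SL2Char.detu hw1
      change Block.SL2Char.detu ((1 : GL₂)⁻¹ * toG k) = _ at hd
      rw [inv_one, one_mul, show Block.SL2Char.detu (toG k) = 1 from Units.ext k.2,
        Block.SL2Char.detu_eq (w := w * w) (by simp [Block.SL2Char.dt_sc])] at hd
      change ((z : Lˣ)⁻¹ * 1) * _ = 1 at hw2
      rw [mul_one, inv_mul_eq_one] at hw2
      have hz1 : z = 1 := hzs z (by rw [hw2, ← map_mul, ← hd, map_one])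
      rw [hz1, map_one] at hz
      obtain ⟨w', hw1', hw2'⟩ := (Invol.BrauerL3.GU.Psi_eq_one hL hodd).1 hz.symm
      change (1 : Lˣ) * _ = 1 at hw2'
      rw [one_mul] at hw2'
      have hw' : w' = 1 := Block.SL2Char.emb_injective L (hw2'.trans (map_one _).symm)
      subst hw'
      change toG k = _ at hw1'
      refine Matrix.SpecialLinearGroup.toGL_injective (hw1'.trans ?_)
      rw [map_one]
      exact Units.ext (Matrix.ext fun i j => by fin_cases i <;> fin_cases j <;> simp [Block.SL2Char.sc_val])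
    · rw [← map_mul, ← map_mul]
      refine (congrArg (QuotientGroup.mk' Z) ((Invol.BrauerL3.GU.Psi_eq_one hL hodd).2 ⟨l, ?_, ?_⟩)).trans (map_one _)
      · show m * m = _
        rw [hl]
        exact Units.ext (Matrix.ext fun i j => by fin_cases i <;> fin_cases j <;> simp [Block.SL2Char.sc_val])
      · show c * c * _ = 1
        rw [← sq, hc, ← map_mul, inv_mul_cancel, map_one]
    · rintro ⟨k, hk⟩
      obtain ⟨z, hz⟩ := QuotientGroup.eq.1 hk
      have h1 : Ψ ((zc z)⁻¹ * ((up k)⁻¹ * ⟨(c, m), hmem⟩)) = 1 := by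
        rw [map_mul, map_inv, map_mul, map_inv]
        exact inv_mul_eq_one.2 hz
      obtain ⟨w, hw1, -⟩ := (Invol.BrauerL3.GU.Psi_eq_one hL hodd).1 h1
      have hd := congrArg Block.SL2Char.detu hw1
      change Block.SL2Char.detu ((1 : GL₂)⁻¹ * ((toG k)⁻¹ * m)) = _ at hd
      rw [inv_one, one_mul, map_mul, map_inv, show Block.SL2Char.detu (toG k) = 1 from Units.ext k.2, inv_one,
        one_mul, Block.SL2Char.detu_eq (g := Block.SL2Char.sc w) (w := w * w) (by simp [Block.SL2Char.dt_sc])] at hd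
      exact hdet ⟨w, hd⟩
    · intro k
      rw [MonoidHom.comp_apply, MonoidHom.comp_apply, MonoidHom.comp_apply, MonoidHom.comp_apply, ← map_inv,
        ← map_mul, ← map_mul, ← map_inv, ← map_mul, ← map_mul]
      refine congrArg _ (congrArg _ (Subtype.ext (Prod.ext ?_ ?_)))
      · show c * 1 * c⁻¹ = 1
        rw [mul_one, mul_inv_cancel]
      · show m * toG k * m⁻¹ = toG (α k)
        rw [hm]
    · have h1 := Ψ.ker.index_mul_card
      have h2 := (Invol.BrauerL3.GU.pr (k := ZMod p) (L := L)).ker.index_mul_card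
      rw [Subgroup.index_ker, Invol.BrauerL3.GU.card_ker_Psi hL hodd,
        MonoidHom.range_eq_top.2 (Invol.BrauerL3.GU.Psi_surjective hL hodd), card_top] at h1
      rw [Subgroup.index_ker, MonoidHom.range_eq_top.2 (Invol.BrauerL3.GU.pr_surjective hL), card_top,
        Invol.BrauerL3.GU.card_ker_pr, hsl, ← h1] at h2
      have h3' : Nat.card {x : Lˣ // x ^ (Fintype.card (ZMod p) + 1) = 1} = 2 * (r + 1) := by
        have e : Nat.card {x : Lˣ // x ^ (Fintype.card (ZMod p) + 1) = 1} =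
            Nat.card (powMonoidHom (Fintype.card (ZMod p) + 1) : Lˣ →* Lˣ).ker :=
          Nat.card_congr (Equiv.subtypeEquivRight fun x => by simp [MonoidHom.mem_ker])
        rw [e, IsCyclic.card_powMonoidHom_ker, Invol.BrauerL3.GU.card_units_L hL, Nat.gcd_mul_right_left,
          ZMod.card]
        omega
      have h4 := Z.index_mul_card
      rw [hZr, index_eq_card] at h4
      rw [h3', show Fintype.card (ZMod p) - 1 = 2 * r by rw [ZMod.card]; omega, ← h4] at h2
      have hr0 : 0 < 2 * r * (r + 1) := by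
        have : 0 < r := by omega
        positivity
      exact Nat.eq_of_mul_eq_mul_right hr0 (by linarith [h2])

end prime

end Cfsg.Agent.Fus.LenSeven
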