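import Cfsg.Agent.Lib.Fus.LengthSeven.Moves
import Cfsg.Agent.S0215

/-!
# Central involutions are moved (for S3249)
-/

set_option autoImplicit false
set_option linter.style.haveILetI false

namespace Cfsg.Agent.Fus.LenSeven

open Subgroup LenEight

universe u

variable {G : Type u} [Group G] [Finite G] {S : Sylow 2 G}

/-- By the theorem of Glauberman a central involution is moved by an element of odd order of some normalizer. -/
theorem Hyp.exists_moved_central (h : Hyp G) {z : G} (hzS : z ∈ (S : Subgroup G)) (hz1 : z ≠ 1) (hz2 : z * z = 1)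
    (hzc : ∀ x ∈ (S : Subgroup G), x * z = z * x) :
    ∃ U, (U = (S : Subgroup G) ∨ Ess S U) ∧ ∃ y ∈ normalizer (U : Set G), Odd (orderOf y) ∧ y * z ≠ z * y := by
  haveI : Fact (Nat.Prime 2) := ⟨Nat.prime_two⟩
  by_contra! hno
  -- an element of odd order in a normalizer centralises `z`
  have hodd : ∀ H : Subgroup G, H ≤ (S : Subgroup G) → ((S : Subgroup G) ⊓ centralizer (H : Set G) ≤ H) →
      ¬ 2 ∣ ((S : Subgroup G) ⊓ normalizer (H : Set G)).relIndex (normalizer (H : Set G)) →
      ((Cfsg.pPrimePCore 2 ↥(normalizer (H : Set G))).map (normalizer (H : Set G)).subtype =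
        H ⊔ centralizer (H : Set G)) → z ∈ H →
      ∀ n ∈ normalizer (H : Set G), n * z = z * n := by
    intro H hle hcen hsyl hcore hzH
    set N := normalizer (H : Set G) with hNd
    set K := N ⊓ centralizer ({z} : Set G) with hKd
    have hTK : (S : Subgroup G) ⊓ N ≤ K := fun t ht =>
      ⟨ht.2, mem_centralizer_singleton_iff.2 (hzc t ht.1)⟩
    suffices hall : K.relIndex N = 1 from fun n hn =>
      mem_centralizer_singleton_iff.1 ((relIndex_eq_one.1 hall) hn).2
    by_contra hne
    obtain ⟨p, hp, hpd⟩ := Nat.exists_prime_and_dvd hne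
    haveI : Fact p.Prime := ⟨hp⟩
    have hp2 : p ≠ 2 := by
      rintro rfl
      exact hsyl (hpd.trans (relIndex_dvd_of_le_left N hTK))
    obtain ⟨P⟩ : Nonempty (Sylow p N) := inferInstance
    have hle' : (P : Subgroup N) ≤ K.subgroupOf N := fun g hg => by
      refine mem_subgroupOf.2 ⟨g.2, mem_centralizer_singleton_iff.2 ?_⟩
      obtain ⟨i, hi'⟩ := P.isPGroup'.exists_orderOf_eq_pow ⟨g, hg⟩
      rw [Subgroup.orderOf_mk] at hi'
      have hgo : Odd (orderOf (g : G)) := by
        rw [Subgroup.orderOf_coe, hi']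
        exact (hp.odd_of_ne_two hp2).pow
      by_cases he : H = (S : Subgroup G)
      · exact hno H (Or.inl he) g g.2 hgo
      by_cases hC : (g : G) ∈ centralizer (H : Set G)
      · exact (mem_centralizer_iff.1 hC z hzH).symm
      · exact hno H (Or.inr ⟨hle, he, hcen, hsyl, hcore, g, g.2, hgo, hC⟩) g g.2 hgo
    exact P.not_dvd_index (hpd.trans (index_dvd_of_le hle'))
  -- every conjugate in the Sylow subgroup is `z`
  have hiso : ∀ u : G, u * z * u⁻¹ ∈ (S : Subgroup G) → u * z * u⁻¹ = z := by
    intro u hu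
    obtain ⟨n, H, X, x, c, y, hc, hy, hg, hdata⟩ := S3072.result S {z} (Set.singleton_subset_iff.2 hzS)
      ⟨z, rfl, hz1⟩ u⁻¹ (by rintro _ ⟨b, hb, rfl⟩; rw [Set.mem_singleton_iff.1 hb, inv_inv]; exact hu)
    set q : ℕ → G := fun i => (((List.ofFn x).take i).prod)⁻¹ * z * ((List.ofFn x).take i).prod with hq
    have hstep : ∀ i, i ≤ n → q i = z := by
      intro i
      induction i with
      | zero => intro _; simp [hq]
      | succ i ih =>
        intro hi'
        have hqz := ih (by omega)
        obtain ⟨hHle, hsyl, hcen, hcore, -, ⟨hHX, hXN, -, -, -⟩, hx, himg⟩ := hdata ⟨i, by omega⟩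
        have hqH : q i ∈ H ⟨i, by omega⟩ := himg ⟨z, rfl, rfl⟩
        have hxN : x ⟨i, by omega⟩ ∈ normalizer (H ⟨i, by omega⟩ : Set G) := hXN ((map_subtype_le _) hx)
        have hnext : q (i + 1) = (x ⟨i, by omega⟩)⁻¹ * q i * x ⟨i, by omega⟩ := by
          simp only [hq]
          rw [List.take_add_one, List.getElem?_ofFn, dif_pos (show i < n by omega), Option.toList_some, List.prod_append,
            List.prod_singleton, mul_inv_rev]
          group
        rw [hnext, hqz, mul_assoc, ← hodd _ hHle hcen hsyl hcore (hqz ▸ hqH) _ hxN, inv_mul_cancel_left]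
    have hca : c⁻¹ * z * c = z := by
      rw [mul_assoc, mem_centralizer_iff.1 hc z rfl, inv_mul_cancel_left]
    have hNS : ∀ m ∈ normalizer ((S : Subgroup G) : Set G), m * z = z * m := by
      intro m hm
      set N := normalizer ((S : Subgroup G) : Set G)
      set K := N ⊓ centralizer ({z} : Set G) with hKd
      suffices hall : K.relIndex N = 1 from mem_centralizer_singleton_iff.1 ((relIndex_eq_one.1 hall) hm).2
      by_contra hne
      obtain ⟨p, hp, hpd⟩ := Nat.exists_prime_and_dvd hne
      haveI : Fact p.Prime := ⟨hp⟩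
      have hp2 : p ≠ 2 := by
        rintro rfl
        have h1 : (S : Subgroup G) ≤ K := fun t ht =>
          ⟨le_normalizer ht, mem_centralizer_singleton_iff.2 (hzc t ht)⟩
        exact S.not_dvd_index ((hpd.trans (relIndex_dvd_of_le_left N h1)).trans
          (relIndex_dvd_index_of_le le_normalizer))
      obtain ⟨P⟩ : Nonempty (Sylow p N) := inferInstance
      have hle' : (P : Subgroup N) ≤ K.subgroupOf N := fun g hg => by
        refine mem_subgroupOf.2 ⟨g.2, mem_centralizer_singleton_iff.2 (hno _ (Or.inl rfl) g g.2 ?_)⟩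
        obtain ⟨i, hi'⟩ := P.isPGroup'.exists_orderOf_eq_pow ⟨g, hg⟩
        rw [Subgroup.orderOf_mk] at hi'
        rw [Subgroup.orderOf_coe, hi']
        exact (hp.odd_of_ne_two hp2).pow
      exact P.not_dvd_index (hpd.trans (index_dvd_of_le hle'))
    have hqn := hstep n le_rfl
    simp only [hq] at hqn
    rw [List.take_of_length_le (by simp)] at hqn
    have hu' : u = (c * (List.ofFn x).prod * y)⁻¹ := by rw [← hg, inv_inv]
    calc u * z * u⁻¹ = y⁻¹ * (((List.ofFn x).prod)⁻¹ * (c⁻¹ * z * c) * (List.ofFn x).prod) * y := by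
          rw [hu']; group
      _ = z := by rw [hca, hqn, mul_assoc, ← hNS y hy, inv_mul_cancel_left]
  obtain ⟨N, hN, hNo, hcom⟩ := S0215.result S z (orderOf_eq_prime (by rw [sq, hz2]) hz1) hzS hiso
  rcases h.normal_eq N hN with e | e
  · refine h.centralizer_ne_top hz1 (eq_top_iff.2 fun g _ => mem_centralizer_singleton_iff.2 ?_)
    have h1 := hcom g
    rw [e, mem_bot, mul_inv_eq_one, mul_inv_eq_iff_eq_mul] at h1
    exact h1.symm
  · subst e
    rw [Nat.card_congr topEquiv.toEquiv] at hNo
    exact hNo.not_two_dvd_nat ((orderOf_eq_prime (by rw [sq, hz2]) hz1 ▸ orderOf_dvd_natCard z : 2 ∣ Nat.card G))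

end Cfsg.Agent.Fus.LenSeven
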