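import Cfsg.Agent.Lib.Fus.LengthSeven.Identify
import Cfsg.Agent.Lib.Fus.LengthSeven.Exclude
import Cfsg.Agent.Lib.Invol.QDWCentralizer
import Cfsg.Agent.S0484
import Cfsg.Agent.S0485

/-!
# Simple groups of length at most seven: quasi-dihedral and wreathed Sylow subgroups, `q ≥ 5` (for S3249)
-/

set_option autoImplicit false
set_option linter.style.haveILetI false

namespace Cfsg.Agent.Fus.LenSeven

open Subgroup LenEight Matrix

universe u

variable {G : Type u} [Group G] [Finite G]

/-- Two involutions in the image of `SL₂(q)` are equal. -/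
theorem range_involution_eq {C : Type u} [Group C] {F : Type} [Field F] (h2 : (2 : F) ≠ 0)
    (φ : Matrix.SpecialLinearGroup (Fin 2) F →* C) (hφ : Function.Injective φ) {a b : C} (ha : a ∈ φ.range)
    (hb : b ∈ φ.range) (ha2 : orderOf a = 2) (hb2 : orderOf b = 2) : a = b := by
  obtain ⟨A, rfl⟩ := ha
  obtain ⟨B, rfl⟩ := hb
  rw [orderOf_injective φ hφ] at ha2 hb2
  refine congrArg φ (sl_involution_eq h2 ?_ ?_ ?_ ?_)
  · have := pow_orderOf_eq_one A; rwa [ha2, sq] at this
  · intro e; rw [e, orderOf_one] at ha2; norm_num at ha2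
  · have := pow_orderOf_eq_one B; rwa [hb2, sq] at this
  · intro e; rw [e, orderOf_one] at hb2; norm_num at hb2

theorem Hyp.wr_large (h : Hyp G) {S : Sylow 2 G} {n : ℕ} {x y z : ↥(S : Subgroup G)}
    (hw : Invol.WR _ n x y z) {t : G} (hu : hw.gE (Invol.hh n) (Invol.hh n) = t) {F : Type} [Field F] [Fintype F]
    (hodd : Odd (Fintype.card F)) (h3 : 3 < Fintype.card F)
    (e : ↥(commutator (↥(centralizer ({t} : Set G)) ⧸ Cfsg.oddCore ↥(centralizer ({t} : Set G)))) ≃*
      Matrix.SpecialLinearGroup (Fin 2) F) : False := by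
  have hSC : (S : Subgroup G) ≤ centralizer {t} := fun s hs => by
    rw [mem_centralizer_singleton_iff, ← hu]
    exact congrArg Subtype.val (mem_center_iff.mp
      (hw.mem_center_el.mpr ⟨0, by ring⟩ : hw.el (Invol.hh n) (Invol.hh n) ∈ _) ⟨s, hs⟩)
  have ht : orderOf t = 2 := by rw [← hu]; exact (orderOf_coe _).trans hw.orderOf_w
  let inc : ↥(S : Subgroup G) →* ↥(centralizer ({t} : Set G)) := Subgroup.inclusion hSC
  have hinc : Function.Injective inc := Subgroup.inclusion_injective hSC
  have hz : orderOf (inc z) = 2 := (orderOf_injective inc hinc z).trans hw.oz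
  have hzt : ((inc z : _) : G) ≠ t := fun e1 => by
    refine hw.el_z_ne 0 0 (Invol.hh n) (Invol.hh n) (Subtype.ext ?_)
    rw [hw.el_zero, one_mul]
    exact e1.trans hu.symm
  obtain ⟨φ, hφ, hidx, -, -⟩ := h.sl_structure ht hodd h3 e (inc z) hz hzt
  have h2 := odd_two_ne_zero hodd
  obtain ⟨r, hr⟩ := hw.hh_even
  have hmem : ∀ i j : ℤ, inc (hw.el (2 * i) (2 * j)) ∈ φ.range := fun i j => by
    rw [show hw.el (2 * i) (2 * j) = hw.el i j * hw.el i j by rw [hw.el_mul]; congr 1 <;> ring, map_mul]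
    exact Subgroup.mul_self_mem_of_index_two hidx _
  have e1 := range_involution_eq h2 φ hφ (hmem r 0) (hmem r r)
    (by rw [orderOf_injective inc hinc, ← hr, mul_zero, hw.orderOf_half])
    (by rw [orderOf_injective inc hinc, ← hr, hw.orderOf_w])
  have e2 := hinc e1
  rw [← hr, mul_zero] at e2
  exact hw.half_ne_w e2

theorem Hyp.qd_large (h : Hyp G) {S : Sylow 2 G} {n : ℕ} {x y : ↥(S : Subgroup G)}
    (hq : Invol.QD _ n x y) {t : G} (hu : ((x ^ (2 * Invol.qq n) : ↥(S : Subgroup G)) : G) = t) {F : Type} [Field F]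
    [Fintype F] (hodd : Odd (Fintype.card F)) (h3 : 3 < Fintype.card F)
    (e : ↥(commutator (↥(centralizer ({t} : Set G)) ⧸ Cfsg.oddCore ↥(centralizer ({t} : Set G)))) ≃*
      Matrix.SpecialLinearGroup (Fin 2) F) : Nat.card G = 126000 := by
  classical
  haveI : Fact (Nat.Prime 2) := ⟨Nat.prime_two⟩
  haveI := h.simple
  have hSC : (S : Subgroup G) ≤ centralizer {t} := fun s hs => by
    rw [mem_centralizer_singleton_iff, ← hu]
    exact congrArg Subtype.val (hq.z_central ⟨s, hs⟩)
  have ht : orderOf t = 2 := by rw [← hu]; exact (orderOf_coe _).trans hq.orderOf_z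
  let inc : ↥(S : Subgroup G) →* ↥(centralizer ({t} : Set G)) := Subgroup.inclusion hSC
  have hinc : Function.Injective inc := Subgroup.inclusion_injective hSC
  have hy : orderOf (inc y) = 2 := (orderOf_injective inc hinc y).trans hq.oy
  have hyne : y ≠ x ^ (2 * Invol.qq n) := fun e1 => hq.zpow_mul_y_ne 0 (2 * Invol.qq n) (by rw [zpow_zero, one_mul, e1])
  have hyt : ((inc y : _) : G) ≠ t := fun e1 => hyne (Subtype.ext (e1.trans hu.symm))
  obtain ⟨φ, hφ, hidx, -, hpr⟩ := h.sl_structure ht hodd h3 e (inc y) hy hyt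
  obtain ⟨p, hp, m, hpp, hpm⟩ := FiniteField.card' (K := F)
  haveI := hp
  have hm : (m : ℕ) = 1 := (Nat.Prime.eq_one_of_pow (hpm ▸ hpr))
  rw [hm, pow_one] at hpm
  haveI := Fact.mk hpp
  letI : Algebra (ZMod p) F := ZMod.algebra F p
  have hbij : Function.Bijective (algebraMap (ZMod p) F) := by
    rw [Fintype.bijective_iff_injective_and_card]
    exact ⟨(algebraMap (ZMod p) F).injective, by rw [ZMod.card, hpm]⟩
  let mp := Matrix.SpecialLinearGroup.map (n := Fin 2) (algebraMap (ZMod p) F)
  have hmpi : Function.Injective mp := fun A B hAB => Subtype.ext (Matrix.ext fun i j => hbij.1 (by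
    have := congrArg (fun M : Matrix.SpecialLinearGroup (Fin 2) F => (M : Matrix (Fin 2) (Fin 2) F) i j) hAB
    simpa [mp, Matrix.SpecialLinearGroup.map_apply_coe] using this))
  have hmps : Function.Surjective mp := fun B => by
    choose g hg using fun i j => hbij.2 ((B : Matrix (Fin 2) (Fin 2) F) i j)
    refine ⟨⟨Matrix.of g, hbij.1 ?_⟩, Subtype.ext (Matrix.ext fun i j => hg i j)⟩
    rw [RingHom.map_det, map_one]
    exact (congrArg Matrix.det (Matrix.ext fun i j => hg i j)).trans B.2
  let ψ := φ.comp mp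
  have hψ : Function.Injective ψ := hφ.comp hmpi
  have hψr : ψ.range = φ.range := by
    rw [MonoidHom.range_comp, MonoidHom.range_eq_top.2 hmps, ← MonoidHom.range_eq_map]
  rw [← hψr] at hidx
  have hpc : Odd p := hpm ▸ hodd
  have hp3 : 3 < p := hpm ▸ h3
  have h2 := odd_two_ne_zero hodd
  -- `t` is in the normal subgroup
  have htmem : inc (x ^ (2 * Invol.qq n)) ∈ ψ.range := by
    rw [show 2 * Invol.qq n = (2 : ℤ) * Invol.qq n from rfl, _root_.zpow_mul, map_zpow]
    refine zpow_mem ?_ _
    rw [zpow_two, map_mul]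
    exact Subgroup.mul_self_mem_of_index_two hidx _
  have hyL : inc y ∉ ψ.range := fun hy' => hyne (hinc (range_involution_eq h2 φ hφ (hψr ▸ hy') (hψr ▸ htmem) hy
    ((orderOf_injective inc hinc _).trans hq.orderOf_z)))
  have hcen : ∀ w : ↥(centralizer ({t} : Set G)), (∀ c, c * w = w * c) → w ^ 4 = 1 → w ∈ ψ.range := by
    intro w hw hw4
    have hW : IsPGroup 2 (zpowers (w : G)) := by
      obtain ⟨k, -, hk⟩ := (Nat.dvd_prime_pow Nat.prime_two).1 (orderOf_dvd_of_pow_eq_one
        (show (w : G) ^ 2 ^ 2 = 1 by exact congrArg Subtype.val hw4))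
      exact IsPGroup.of_card (n := k) (by rw [Nat.card_zpowers, hk])
    have hnorm : (S : Subgroup G) ≤ normalizer (zpowers (w : G) : Set G) := fun s hs => by
      refine mem_normalizer_iff.2 fun a => ?_
      have hc : Commute s (w : G) := congrArg Subtype.val (hw ⟨s, hSC hs⟩)
      constructor
      · intro ha
        obtain ⟨k, rfl⟩ := Subgroup.mem_zpowers_iff.1 ha
        rw [(hc.zpow_right k).eq, mul_inv_cancel_right]
        exact ha
      · intro ha
        obtain ⟨k, hk⟩ := Subgroup.mem_zpowers_iff.1 ha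
        refine Subgroup.mem_zpowers_iff.2 ⟨k, ?_⟩
        have : a = s⁻¹ * (w : G) ^ k * s := by rw [hk]; group
        rw [this, mul_assoc, ← (hc.zpow_right k).eq, inv_mul_cancel_left]
    have hsup := S.is_maximal' (S.isPGroup'.to_sup_of_normal_right' hW hnorm) le_sup_left
    have hwS : (w : G) ∈ (S : Subgroup G) := hsup ▸ mem_sup_right (mem_zpowers _)
    have hcS : (⟨(w : G), hwS⟩ : ↥(S : Subgroup G)) ∈ center _ := mem_center_iff.2 fun s =>
      Subtype.ext (show (s : G) * w = w * s from congrArg Subtype.val (hw ⟨s, hSC s.2⟩))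
    rw [Invol.QD.center_eq hq, Subgroup.mem_zpowers_iff] at hcS
    obtain ⟨k, hk⟩ := hcS
    have hwi : inc ⟨(w : G), hwS⟩ = w := Subtype.ext rfl
    rw [← hwi, ← hk, map_zpow]
    exact zpow_mem htmem k
  have hyy : inc y * inc y = 1 := by rw [← map_mul, hq.y_mul_self, map_one]
  rcases cent_model hp3 ψ hψ hidx hyy hyL hcen with
    ⟨hp4, Z, hZn, hZc, hZo, hC⟩ | ⟨-, L, iL, iLf, Z, hZn, hL, hZc, hZo, hC⟩
  · exfalso
    have hodd' : Odd (Fintype.card (ZMod p)) := by rw [ZMod.card]; exact hpc
    rcases S0484.result hodd' Z hZc hZo t ht hC with eG | ⟨-, hcard⟩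
    · obtain ⟨eG⟩ := eG
      exact h.false_psl_three hodd' ((sl_len_five hodd' (by rw [ZMod.card]; exact hp3)).of_le (by norm_num)) eG
    have hCc : Nat.card ↥(centralizer ({t} : Set G)) = 2 * Nat.card (Matrix.SpecialLinearGroup (Fin 2) (ZMod p)) := by
      rw [← ψ.range.card_mul_index, hidx, ← Nat.card_congr (MonoidHom.ofInjective hψ).toEquiv, mul_comm]
    have hGL := card_GL_eq (p := p)
    rw [Matrix.card_GL_field, ZMod.card] at hGL
    simp only [Fin.prod_univ_two, Fin.val_zero, Fin.val_one, pow_zero, pow_one] at hGL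
    have hdvd := card_subgroup_dvd_card (centralizer ({t} : Set G))
    rw [hcard] at hdvd
    have hp11 : p = 11 := by
      have hpd : p ∣ 7920 := by
        refine Dvd.dvd.trans ?_ hdvd
        rw [hCc]
        refine Dvd.dvd.mul_left ?_ 2
        refine ((Nat.Coprime.dvd_mul_left (m := p - 1) ?_).1 ?_)
        · exact hpp.coprime_iff_not_dvd.2 fun hd => by have := Nat.le_of_dvd (by omega) hd; omega
        · rw [← hGL]
          exact Dvd.dvd.mul_left ⟨p - 1, by rw [sq, Nat.mul_sub, mul_one]⟩ _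
      have h7 : p ∈ (7920 : ℕ).primeFactorsList := (Nat.mem_primeFactorsList (by norm_num)).2 ⟨hpp, hpd⟩
      have : p ∣ 2 ^ 4 * 3 ^ 2 * 5 * 11 := by norm_num; exact hpd
      rcases hpp.dvd_mul.1 this with h | h
      · rcases hpp.dvd_mul.1 h with h | h
        · rcases hpp.dvd_mul.1 h with h | h
          · have := (Nat.prime_dvd_prime_iff_eq hpp Nat.prime_two).1 (hpp.dvd_of_dvd_pow h); omega
          · have := (Nat.prime_dvd_prime_iff_eq hpp Nat.prime_three).1 (hpp.dvd_of_dvd_pow h); omega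
        · have := (Nat.prime_dvd_prime_iff_eq hpp (by norm_num)).1 h; omega
      · exact (Nat.prime_dvd_prime_iff_eq hpp (by norm_num)).1 h
    subst hp11
    have hSL : Nat.card (Matrix.SpecialLinearGroup (Fin 2) (ZMod 11)) = 1320 := by
      refine Nat.eq_of_mul_eq_mul_left (show 0 < 11 - 1 by norm_num) (hGL.symm.trans ?_)
      norm_num
    rw [hSL] at hCc
    have hi := (centralizer ({t} : Set G)).card_mul_index
    rw [hCc, hcard] at hi
    have hi3 : (centralizer ({t} : Set G)).index = 3 := by omega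
    have hker : (MulAction.toPermHom G (G ⧸ centralizer ({t} : Set G))).ker = ⊥ := by
      rw [← Subgroup.normalCore_eq_ker]
      refine (h.normal_eq _ inferInstance).resolve_right fun e' => ?_
      exact h.centralizer_ne_top (fun e1 => by rw [e1, orderOf_one] at ht; norm_num at ht)
        (top_le_iff.1 (e' ▸ normalCore_le _))
    have hle := Nat.card_le_card_of_injective _ ((MonoidHom.ker_eq_bot_iff _).1 hker)
    rw [hcard, Nat.card_perm, ← index_eq_card, hi3] at hle
    norm_num [Nat.factorial] at hle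
  · obtain ⟨eG⟩ := S0485.result p hpc hL Z hZc hZo t ht hC
    exact h.psu_three hpp (by obtain ⟨a, ha⟩ := hpc; omega) hL eG

end Cfsg.Agent.Fus.LenSeven
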