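import Cfsg.Agent.Lib.Fus.LengthSeven.Sixteen

/-!
# Facts about essential subgroups of order 16 and about parities (for S3249)
-/

set_option autoImplicit false
set_option linter.style.haveILetI false

namespace Cfsg.Agent.Fus.LenSeven

open Subgroup LenEight

universe u

variable {G : Type u} [Group G] [Finite G] {S : Sylow 2 G} {U : Subgroup G}

/-- A normal 2-subgroup of index two moves with its conjugates under `S`. -/
theorem moves_conj {M : Subgroup G} (hi : M.relIndex (S : Subgroup G) = 2) (hU : U ≤ (S : Subgroup G)) {s : G}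
    (hs : s ∈ (S : Subgroup G)) {V : Subgroup G} (hV : V = U.map (MulAut.conj s).toMonoidHom) (hm : Moves U M) :
    Moves V M := by
  obtain ⟨y, hy, hyo, x, hx, hne⟩ := hm
  have hmem : ∀ g, g ∈ V ↔ s⁻¹ * g * s ∈ U := fun g => by rw [hV, mem_conj]
  have hyx : y * x * y⁻¹ ∈ U := (mem_normalizer_iff.1 hy x).1 hx
  refine ⟨s * y * s⁻¹, mem_normalizer_fintype fun g hg => ?_, ?_, s * x * s⁻¹, (hmem _).2 (by simpa [mul_assoc] using hx), ?_⟩
  · rw [SetLike.mem_coe, hmem] at hg ⊢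
    have := (mem_normalizer_iff.1 hy _).1 hg
    simpa [mul_assoc] using this
  · rwa [show s * y * s⁻¹ = MulAut.conj s y from rfl, MulEquiv.orderOf_eq]
  · rw [show s * y * s⁻¹ * (s * x * s⁻¹) * (s * y * s⁻¹)⁻¹ = s * (y * x * y⁻¹) * s⁻¹ by group,
      half_conj hi (hU hyx) hs, half_conj hi (hU hx) hs]
    exact hne

variable (hb : Big G S) (hU : Ess S U)
include hb hU

/-- A normal subgroup of the normalizer whose elements of odd order are trivial lies in `U`. -/
theorem Ess.normal_le (h32 : Nat.card (nS S U) = 32) {K : Subgroup G} (hK : K ≤ normalizer (U : Set G))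
    (hn : ∀ n ∈ normalizer (U : Set G), ∀ k ∈ K, n * k * n⁻¹ ∈ K)
    (hodd : ∀ k ∈ K, Odd (orderOf k) → k = 1) : K ≤ U := by
  haveI : Fact (Nat.Prime 2) := ⟨Nat.prime_two⟩
  set N := normalizer (U : Set G)
  haveI hKn : (K.subgroupOf N).Normal := ⟨fun k hk n => hn n n.2 k hk⟩
  haveI hP : (Cfsg.pPrimePCore 2 ↥N).Normal := by
    haveI : (Cfsg.pPrimeCore 2 ↥N).Normal := Grp.pPrimeCore_isNormal
    exact (Grp.pCore_isNormal (p := 2)).comap _
  have hp : IsPGroup 2 ((K.subgroupOf N).map (QuotientGroup.mk' (Cfsg.pPrimePCore 2 ↥N))) := by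
    refine IsPGroup.map ?_ _
    intro k
    obtain ⟨i, r, hr, hir⟩ := Nat.exists_eq_two_pow_mul_odd (orderOf_pos ((k : N) : G)).ne'
    refine ⟨i, Subtype.ext (Subtype.ext ?_)⟩
    exact hodd _ (pow_mem k.2 _) (hr.of_dvd_nat (orderOf_dvd_of_pow_eq_one
      (by rw [show ((((k ^ 2 ^ i : ↥(K.subgroupOf N)) : ↥N) : G)) = ((k : ↥N) : G) ^ 2 ^ i from rfl, ← pow_mul, ← hir,
        pow_orderOf_eq_one])))
  have hb' := Ess.core_bot (U := U) _ (hKn.map _ (QuotientGroup.mk'_surjective _)) hp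
  intro k hk
  have h1 : QuotientGroup.mk' (Cfsg.pPrimePCore 2 ↥N) ⟨k, hK hk⟩ ∈
      (⊥ : Subgroup (↥N ⧸ Cfsg.pPrimePCore 2 ↥N)) :=
    hb' ▸ mem_map_of_mem _ (show (⟨k, hK hk⟩ : N) ∈ K.subgroupOf N from hk)
  have h2 := (hU.map_core (hK hk)).1 ((QuotientGroup.eq_one_iff _).1 (mem_bot.1 h1))
  rwa [sup_eq_left.2 (hU.cent_le hb h32)] at h2

theorem Ess.one_of_odd_centralizer (h32 : Nat.card (nS S U) = 32) {y : G} (hyo : Odd (orderOf y))
    (hy : y ∈ centralizer (U : Set G)) : y = 1 := by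
  by_contra h
  exact not_mem_of_odd hU.pgroup hyo h (hU.cent_le hb h32 hy)

/-- An element outside `U` does not centralise all involutions of an abelian `U`. -/
theorem Ess.exists_invol_moved (h32 : Nat.card (nS S U) = 32) (hab : ∀ p ∈ U, ∀ q ∈ U, p * q = q * p) {b : G}
    (hbT : b ∈ nS S U) (hbU : b ∉ U) : ∃ x ∈ U, x * x = 1 ∧ b * x ≠ x * b := by
  by_contra! hall
  refine hbU ((hU.normal_le hb h32 (K := normalizer (U : Set G) ⊓ centralizer ({x | x ∈ U ∧ x * x = 1} : Set G))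
    inf_le_left ?_ ?_) ⟨hbT.2, mem_centralizer_iff.2 fun x hx => (hall x hx.1 hx.2).symm⟩)
  · rintro n hn k ⟨hkN, hkC⟩
    refine mem_inf.2 ⟨mul_mem (mul_mem hn hkN) (inv_mem hn), mem_centralizer_iff.2 fun x hx => ?_⟩
    have h := mem_centralizer_iff.1 hkC (n⁻¹ * x * n) ⟨by simpa using (mem_normalizer_iff.1 (inv_mem hn) x).1 hx.1,
      by rw [show n⁻¹ * x * n * (n⁻¹ * x * n) = n⁻¹ * (x * x) * n by group, hx.2, mul_one, inv_mul_cancel]⟩
    have := congrArg (fun t => n * t * n⁻¹) h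
    simpa [mul_assoc] using this
  · rintro k ⟨hkN, hkC⟩ hko
    refine hU.one_of_odd_centralizer hb h32 hko (mem_centralizer_iff.2 fun x hx =>
      (fix_of_invols hU.pgroup hab hkN hko (fun r hr hr2 => (mem_centralizer_iff.1 hkC r ⟨hr, hr2⟩).symm) x hx).symm)

/-- An element outside a nonabelian `U` acts non-trivially modulo its centre. -/
theorem Ess.exists_mod_center (h32 : Nat.card (nS S U) = 32) (h16 : Nat.card U = 16)
    (hna : ∃ p ∈ U, ∃ q ∈ U, p * q ≠ q * p) {b : G} (hbT : b ∈ nS S U) (hbU : b ∉ U) :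
    ∃ x ∈ U, ∃ r ∈ U, r * (b * x * b⁻¹ * x⁻¹) ≠ b * x * b⁻¹ * x⁻¹ * r := by
  by_contra! hall
  set N := normalizer (U : Set G) with hN
  set Z := U ⊓ centralizer (U : Set G) with hZ
  have hZn : ∀ n ∈ N, ∀ r ∈ Z, n * r * n⁻¹ ∈ Z := by
    rintro n hn r ⟨hrU, hrC⟩
    refine ⟨(mem_normalizer_iff.1 hn r).1 hrU, mem_centralizer_iff.2 fun x hx => ?_⟩
    have h := mem_centralizer_iff.1 hrC (n⁻¹ * x * n) (by simpa using (mem_normalizer_iff.1 (inv_mem hn) x).1 hx)
    have := congrArg (fun t => n * t * n⁻¹) h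
    simpa [mul_assoc] using this
  let K : Subgroup G :=
    { carrier := {n | n ∈ N ∧ ∀ x ∈ U, n * x * n⁻¹ * x⁻¹ ∈ Z}
      one_mem' := ⟨one_mem _, fun x _ => by simp [one_mem]⟩
      mul_mem' := fun {m n} hm hn => ⟨mul_mem hm.1 hn.1, fun x hx => by
        have h1 := hm.2 _ ((mem_normalizer_iff.1 hn.1 x).1 hx)
        rw [show m * n * x * (m * n)⁻¹ * x⁻¹ =
          m * (n * x * n⁻¹) * m⁻¹ * (n * x * n⁻¹)⁻¹ * (n * x * n⁻¹ * x⁻¹) by group]
        exact mul_mem h1 (hn.2 x hx)⟩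
      inv_mem' := fun {n} hn => ⟨inv_mem hn.1, fun x hx => by
        have h1 := hn.2 (n⁻¹ * x * n⁻¹⁻¹) ((mem_normalizer_iff.1 (inv_mem hn.1) x).1 hx)
        have h2 := inv_mem h1
        rw [show (n * (n⁻¹ * x * n⁻¹⁻¹) * n⁻¹ * (n⁻¹ * x * n⁻¹⁻¹)⁻¹)⁻¹ = n⁻¹ * x * n⁻¹⁻¹ * x⁻¹ by group] at h2
        exact h2⟩ }
  refine hbU (hU.normal_le hb h32 (K := K) (fun n hn => hn.1) ?_ ?_ ⟨hbT.2, fun x hx => ⟨?_, ?_⟩⟩)
  · rintro n hn k ⟨hkN, hk⟩
    refine ⟨mul_mem (mul_mem hn hkN) (inv_mem hn), fun x hx => ?_⟩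
    have h := hZn n hn _ (hk _ ((mem_normalizer_iff.1 (inv_mem hn) x).1 hx))
    rw [show n * k * n⁻¹ * x * (n * k * n⁻¹)⁻¹ * x⁻¹ =
      n * (k * (n⁻¹ * x * n⁻¹⁻¹) * k⁻¹ * (n⁻¹ * x * n⁻¹⁻¹)⁻¹) * n⁻¹ by group]
    exact h
  · rintro k ⟨hkN, hk⟩ hko
    refine hU.one_of_odd_centralizer hb h32 hko (mem_centralizer_iff.2 fun x hx => ?_)
    have hm : x⁻¹ * (k * x * k⁻¹) ∈ U := mul_mem (inv_mem hx) ((mem_normalizer_iff.1 hkN x).1 hx)
    have hZx : ∀ r ∈ U, r * (x⁻¹ * (k * x * k⁻¹)) = x⁻¹ * (k * x * k⁻¹) * r := by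
      intro r hr
      have h1 := mem_centralizer_iff.1 (hk x hx).2 x hx
      have h2 : x⁻¹ * (k * x * k⁻¹) = k * x * k⁻¹ * x⁻¹ := by
        calc x⁻¹ * (k * x * k⁻¹) = x⁻¹ * ((k * x * k⁻¹ * x⁻¹) * x) := by group
          _ = x⁻¹ * (x * (k * x * k⁻¹ * x⁻¹)) := by rw [h1]
          _ = _ := by group
      rw [h2]
      exact mem_centralizer_iff.1 (hk x hx).2 r hr
    exact (fix_of_step hko (two_elt_of_mem hU.pgroup hm) (fix_center hU.pgroup h16 hna hkN hko hm hZx)
      (by group)).symm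
  · exact U.mul_mem ((mem_normalizer_iff.1 hbT.2 x).1 hx) (U.inv_mem hx)
  · exact mem_centralizer_iff.2 fun r hr => hall x hx r hr

/-- The centre of a nonabelian `U` has order four. -/
theorem Ess.exists_center_ne (h16 : Nat.card U = 16) (hna : ∃ p ∈ U, ∃ q ∈ U, p * q ≠ q * p) {z : G} :
    ∃ r ∈ U, (∀ x ∈ U, x * r = r * x) ∧ r ≠ 1 ∧ r ≠ z := by
  haveI : Fact (Nat.Prime 2) := ⟨Nat.prime_two⟩
  by_contra! hall
  obtain ⟨y, hyN, hyo, hyC⟩ := hU.act
  set Z := U ⊓ centralizer (U : Set G) with hZ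
  have hmem : ∀ r ∈ Z, r = 1 ∨ r = z := fun r hr => or_iff_not_imp_left.2 fun h1 =>
    hall r hr.1 (fun x hx => mem_centralizer_iff.1 hr.2 x hx) h1
  haveI : Nontrivial U := Finite.one_lt_card_iff_nontrivial.1 (by omega)
  haveI := hU.pgroup.center_nontrivial
  have hcZ : ∀ r : U, r ∈ center U → (r : G) ∈ Z := fun r hr => ⟨r.2, mem_centralizer_iff.2 fun x hx =>
    congrArg Subtype.val (mem_center_iff.1 hr ⟨x, hx⟩)⟩
  obtain ⟨p, hp, q, hq, hpq⟩ := hna
  obtain ⟨⟨r0, hr0⟩, hr01⟩ := exists_ne (1 : center U)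
  have hzr : (r0 : G) = z := (hmem _ (hcZ r0 hr0)).resolve_left fun e => hr01 (Subtype.ext (Subtype.ext e))
  have hzU : z ∈ U := hzr ▸ r0.2
  have hzc : ∀ x ∈ U, x * z = z * x := fun x hx => hzr ▸ mem_centralizer_iff.1 (hcZ r0 hr0).2 x hx
  have hz1 : z ≠ 1 := fun e => hr01 (Subtype.ext (Subtype.ext (hzr.trans e)))
  have hzz : z * z = 1 := (hmem _ ⟨mul_mem hzU hzU, mem_centralizer_iff.2 fun x hx =>
    ((show Commute x z from hzc x hx).mul_right (hzc x hx)).eq⟩).resolve_right fun e => hz1 (mul_eq_left.1 e)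
  -- an element central modulo the centre
  have hq2 : Nat.card (↥U ⧸ center U) ≠ 1 := fun e => hpq (by
    have := index_eq_one.1 ((center U).index_eq_card ▸ e)
    exact congrArg Subtype.val (mem_center_iff.1 (this ▸ mem_top (⟨q, hq⟩ : U)) ⟨p, hp⟩))
  haveI : Nontrivial (↥U ⧸ center U) := Finite.one_lt_card_iff_nontrivial.1 (by
    have := Nat.card_pos (α := ↥U ⧸ center U); omega)
  haveI := (hU.pgroup.to_quotient (center U)).center_nontrivial
  obtain ⟨⟨X, hX⟩, hX1⟩ := exists_ne (1 : center (↥U ⧸ center U))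
  obtain ⟨x0, rfl⟩ := QuotientGroup.mk_surjective X
  have hx0 : ∀ g : U, g * x0 * g⁻¹ * x0⁻¹ ∈ center U := fun g => by
    rw [← QuotientGroup.eq_one_iff]
    simp only [QuotientGroup.mk_mul, QuotientGroup.mk_inv]
    rw [mem_center_iff.1 hX (g : ↥U ⧸ center U), mul_inv_cancel_right, mul_inv_cancel]
  obtain ⟨x, hxd⟩ : ∃ x, x = (x0 : G) := ⟨_, rfl⟩
  have hxU : x ∈ U := hxd ▸ x0.2
  have hxc : ∀ g ∈ U, g * x * g⁻¹ * x⁻¹ = 1 ∨ g * x * g⁻¹ * x⁻¹ = z := fun g hg =>
    hmem _ (by simpa [hxd] using hcZ _ (hx0 ⟨g, hg⟩))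
  obtain ⟨b, hbU, hbx⟩ : ∃ b ∈ U, b * x ≠ x * b := by
    by_contra! hall
    refine hX1 (Subtype.ext ((QuotientGroup.eq_one_iff _).2 (mem_center_iff.2 fun g => Subtype.ext ?_)))
    have h := hall (g : G) g.2
    rw [hxd] at h
    exact h
  set M := U ⊓ centralizer ({x} : Set G) with hM
  have hiM : M.relIndex U = 2 := by
    rw [relIndex, index_eq_two_iff]
    refine ⟨⟨b, hbU⟩, fun g => ?_⟩
    have hm : ∀ g' : U, g' ∈ M.subgroupOf U ↔ (g' : G) * x * (g' : G)⁻¹ * x⁻¹ = 1 := fun g' => by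
      rw [mem_subgroupOf, hM, mem_inf, mem_centralizer_singleton_iff, mul_inv_eq_one, mul_inv_eq_iff_eq_mul]
      exact ⟨fun h => h.2, fun h => ⟨g'.2, h⟩⟩
    have hbz : b * x * b⁻¹ * x⁻¹ = z := (hxc b hbU).resolve_left fun e => hbx (by
      rwa [mul_inv_eq_one, mul_inv_eq_iff_eq_mul] at e)
    have key : ((g * ⟨b, hbU⟩ : U) : G) * x * ((g * ⟨b, hbU⟩ : U) : G)⁻¹ * x⁻¹ =
        (g : G) * x * (g : G)⁻¹ * x⁻¹ * z := by
      calc (g : G) * b * x * ((g : G) * b)⁻¹ * x⁻¹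
          = (g : G) * (b * x * b⁻¹ * x⁻¹) * (g : G)⁻¹ * ((g : G) * x * (g : G)⁻¹ * x⁻¹) := by group
        _ = z * ((g : G) * x * (g : G)⁻¹ * x⁻¹) := by rw [hbz, hzc g g.2, mul_inv_cancel_right]
        _ = _ := (hzc _ (mul_mem (mul_mem (mul_mem g.2 hxU) (inv_mem g.2)) (inv_mem hxU))).symm
    rw [xor_def, hm, hm, key]
    rcases hxc g g.2 with e | e <;> rw [e]
    · exact Or.inr ⟨rfl, by rw [one_mul]; exact hz1⟩
    · exact Or.inl ⟨by rw [hzz], hz1⟩
  have hM8 : Nat.card M = 8 := by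
    have := Grp.card_mul_relIndex (show M ≤ U from inf_le_left)
    rw [hiM, h16] at this; omega
  have hxz : x ≠ 1 ∧ x ≠ z := ⟨fun e => hbx (by rw [e, one_mul, mul_one]), fun e => hbx (by rw [e, hzc b hbU])⟩
  -- the half is abelian
  have hMab : ∀ a ∈ M, ∀ a' ∈ M, a * a' = a' * a := by
    intro a ha a' ha'
    set Z0 := M ⊓ centralizer (M : Set G) with hZ0
    have hxZ : x ∈ Z0 := ⟨⟨hxU, mem_centralizer_singleton_iff.2 rfl⟩, mem_centralizer_iff.2 fun g hg =>
      mem_centralizer_singleton_iff.1 hg.2⟩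
    have hzZ : z ∈ Z0 := ⟨⟨hzU, mem_centralizer_singleton_iff.2 (hzc x hxU).symm⟩,
      mem_centralizer_iff.2 fun g hg => hzc g hg.1⟩
    by_contra hne
    have haZ : a ∉ Z0 := fun e => hne (mem_centralizer_iff.1 e.2 a' ha').symm
    have ha'Z : a' ∉ Z0 := fun e => hne (mem_centralizer_iff.1 e.2 a ha)
    have h4 : 4 ≤ Nat.card Z0 := by
      obtain ⟨i, hi⟩ := IsPGroup.iff_card.1 (hU.pgroup.to_le (inf_le_left.trans inf_le_left : Z0 ≤ U))
      have h3 : 3 ≤ Nat.card Z0 := by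
        classical
        haveI : Fintype Z0 := Fintype.ofFinite _
        rw [Nat.card_eq_fintype_card]
        exact Fintype.two_lt_card_iff.2 ⟨1, ⟨x, hxZ⟩, ⟨z, hzZ⟩, fun e => hxz.1 (congrArg Subtype.val e).symm,
          fun e => hz1 (congrArg Subtype.val e).symm, fun e => hxz.2 (congrArg Subtype.val e)⟩
      rw [hi] at h3 ⊢
      have : 2 ≤ i := by
        by_contra h
        have := Nat.pow_le_pow_right (show 0 < 2 by norm_num) (show i ≤ 1 by omega)
        omega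
      exact (show 4 = 2 ^ 2 by norm_num).trans_le (Nat.pow_le_pow_right two_pos this)
    have hiZ : Z0.relIndex M = 2 := by
      have h1 := Grp.card_mul_relIndex (inf_le_left : Z0 ≤ M)
      rw [hM8] at h1
      have h2 : Z0.relIndex M ≠ 1 := fun e => haZ (relIndex_eq_one.1 e ha)
      have h3 : Z0.relIndex M ≤ 2 := by nlinarith
      have h4 : Z0.relIndex M ≠ 0 := fun e => by rw [e, mul_zero] at h1; omega
      omega
    have hmZ : a⁻¹ * a' ∈ Z0 :=
      (rel_mul hiZ (inv_mem ha) ha').2 (iff_of_false (fun e => haZ (inv_mem_iff.1 e)) ha'Z)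
    refine hne ?_
    calc a * a' = a * (a * (a⁻¹ * a')) := by group
      _ = a * (a⁻¹ * a' * a) := by rw [mem_centralizer_iff.1 hmZ.2 a ha]
      _ = a' * a := by group
  -- it is the only abelian half
  have huniq : ∀ g ∈ U, g ∈ centralizer (M : Set G) → g ∈ M := fun g hg hgc =>
    ⟨hg, mem_centralizer_singleton_iff.2 (mem_centralizer_iff.1 hgc x
      ⟨hxU, mem_centralizer_singleton_iff.2 rfl⟩).symm⟩
  have hyM : y ∈ normalizer (M : Set G) := by
    refine mem_normalizer_fintype fun g hg => ?_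
    by_contra hgM
    -- two abelian halves would make the centre larger
    set M' := M.map (MulAut.conj y).toMonoidHom with hM'
    have hM'U : M' ≤ U := by rintro _ ⟨r, hr, rfl⟩; exact (mem_normalizer_iff.1 hyN r).1 hr.1
    have hne : M ≠ M' := fun e => hgM (e ▸ mem_map_of_mem _ hg)
    have h4 := inf_card (show M ≤ U from inf_le_left) hM'U (by rw [h16, hM8]) (by rw [h16, hM', card_conj, hM8]) hne
    have hle : M ⊓ M' ≤ Z := by
      rintro r ⟨hr, hr'⟩
      refine ⟨hr.1, mem_centralizer_iff.2 fun u hu => ?_⟩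
      obtain ⟨r', hr'm, rfl⟩ := hr'
      by_cases huM : u ∈ M
      · exact hMab u huM _ hr
      · have hgy : y * g * y⁻¹ ∈ M' := mem_map_of_mem _ hg
        have hm : (y * g * y⁻¹)⁻¹ * u ∈ M := (rel_mul hiM (inv_mem (hM'U hgy)) hu).2
          (iff_of_false (fun e => hgM (inv_mem_iff.1 e)) huM)
        have hc : Commute (y * g * y⁻¹) ((MulAut.conj y).toMonoidHom r') :=
          (show Commute g r' from hMab g hg r' hr'm).map (MulAut.conj y).toMonoidHom
        have hc' := hc.mul_left (show Commute ((y * g * y⁻¹)⁻¹ * u) _ from hMab _ hm _ hr)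
        rw [mul_inv_cancel_left] at hc'
        exact hc'.eq
    have h5 : Nat.card Z ≤ 2 := by
      classical
      refine (Nat.card_le_card_of_injective (fun r : Z => decide ((r : G) = 1)) fun r s e => ?_).trans (by simp)
      simp only [decide_eq_decide] at e
      rcases hmem _ r.2 with h1 | h1 <;> rcases hmem _ s.2 with h2 | h2
      · exact Subtype.ext (h1.trans h2.symm)
      · exact Subtype.ext (h1.trans (e.1 h1).symm)
      · exact Subtype.ext ((e.2 h2).trans h2.symm)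
      · exact Subtype.ext (h1.trans h2.symm)
    have := card_le_of_le hle
    omega
  -- the involutions of the half
  let K : Subgroup G :=
    { carrier := {g | g ∈ M ∧ g * g = 1}
      one_mem' := ⟨one_mem _, one_mul 1⟩
      mul_mem' := fun {s t} hs ht => ⟨mul_mem hs.1 ht.1, by
        rw [mul_assoc, ← mul_assoc t s t, hMab t ht.1 s hs.1, mul_assoc s t t, ht.2, mul_one, hs.2]⟩
      inv_mem' := fun {s} hs => ⟨inv_mem hs.1, by rw [← mul_inv_rev, hs.2, inv_one]⟩ }
  have hKM : K ≤ M := fun g hg => hg.1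
  have hyK : y ∈ normalizer (K : Set G) := by
    refine mem_normalizer_fintype fun g hg => ⟨(mem_normalizer_iff.1 hyM g).1 hg.1, ?_⟩
    rw [show y * g * y⁻¹ * (y * g * y⁻¹) = y * (g * g) * y⁻¹ by group, hg.2, mul_one, mul_inv_cancel]
  have hK4 : Nat.card K ≤ 4 := by
    by_contra hlt
    have hKeq : K = M := eq_of_le_of_card_ge hKM (by
      obtain ⟨m, hm⟩ := card_dvd_of_le hKM
      rw [hM8] at hm ⊢
      rcases m with _ | _ | m <;> nlinarith)
    -- the fixed points of `p` on the elementary half are central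
    obtain ⟨e, he, heM⟩ : ∃ e ∈ U, e ∉ M := ⟨b, hbU, fun e => hbx (mem_centralizer_singleton_iff.1 e.2)⟩
    haveI : (M.subgroupOf U).Normal := normal_of_index_eq_two hiM
    have heM' : ∀ g ∈ M, e * g * e⁻¹ ∈ M := fun g hg =>
      (‹(M.subgroupOf U).Normal›.conj_mem ⟨g, hg.1⟩ hg ⟨e, he⟩)
    let d : M →* M :=
      { toFun := fun g => ⟨e * g * e⁻¹ * g, mul_mem (heM' g g.2) g.2⟩
        map_one' := Subtype.ext (by simp)
        map_mul' := fun s t => Subtype.ext (by
          show e * ((s : G) * t) * e⁻¹ * ((s : G) * t) = (e * s * e⁻¹ * s) * (e * t * e⁻¹ * t)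
          calc e * ((s : G) * t) * e⁻¹ * ((s : G) * t) = e * s * e⁻¹ * ((e * t * e⁻¹) * s) * t := by group
            _ = e * s * e⁻¹ * (s * (e * t * e⁻¹)) * t := by rw [hMab _ (heM' t t.2) _ s.2]
            _ = _ := by group) }
    have hM2 : ∀ g ∈ M, g * g = 1 := fun g hg => (hKeq.ge hg).2
    have hfix : ∀ g : M, e * g * e⁻¹ = g → (g : G) ∈ Z := fun g hg => ⟨g.2.1, mem_centralizer_iff.2 fun u hu => by
      by_cases huM : u ∈ M
      · exact hMab u huM g g.2
      · have hm : e⁻¹ * u ∈ M := (rel_mul hiM (inv_mem he) hu).2 (iff_of_false (fun h => heM (inv_mem_iff.1 h)) huM)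
        have hc := (show Commute e (g : G) from mul_inv_eq_iff_eq_mul.1 hg).mul_left
          (show Commute (e⁻¹ * u) g from hMab _ hm g g.2)
        rw [mul_inv_cancel_left] at hc
        exact hc.eq⟩
    have hin : ∀ s : M, d s ∈ d.ker := fun s => by
      refine Subtype.ext ?_
      have he2 : e * e ∈ M := rel_sq hiM he
      show e * (e * s * e⁻¹ * s) * e⁻¹ * (e * s * e⁻¹ * s) = 1
      calc e * (e * s * e⁻¹ * s) * e⁻¹ * (e * s * e⁻¹ * s)
          = (e * e) * s * (e * e)⁻¹ * ((e * s * e⁻¹) * (e * s * e⁻¹)) * s := by group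
        _ = 1 := by
          rw [hMab _ he2 _ s.2, mul_inv_cancel_right, hM2 _ (heM' s s.2), mul_one]
          exact hM2 _ s.2
    have h1 := d.ker.card_mul_index
    rw [hM8, index_ker] at h1
    have h2 : Nat.card d.range ≤ Nat.card d.ker := card_le_of_le (by rintro _ ⟨s, rfl⟩; exact hin s)
    have h3 : Nat.card d.ker ≤ 2 := by
      classical
      refine (Nat.card_le_card_of_injective (fun r : d.ker => decide (((r : M) : G) = 1)) fun r s he' => ?_).trans
        (by simp)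
      simp only [decide_eq_decide] at he'
      have hk : ∀ r : d.ker, e * ((r : M) : G) * e⁻¹ = (r : M) := fun r => by
        have h0 : e * ((r : M) : G) * e⁻¹ * (r : M) = 1 := congrArg Subtype.val (MonoidHom.mem_ker.1 r.2)
        rw [eq_inv_of_mul_eq_one_left h0]
        exact inv_eq_of_mul_eq_one_right (hM2 _ (r : M).2)
      refine Subtype.ext (Subtype.ext ?_)
      rcases hmem _ (hfix _ (hk r)) with h | h <;> rcases hmem _ (hfix _ (hk s)) with h' | h'
      · rw [h, h']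
      · rw [h, he'.1 h]
      · rw [h', he'.2 h']
      · rw [h, h']
    nlinarith
  have hzK : z ∈ K := ⟨⟨hzU, mem_centralizer_singleton_iff.2 (hzc x hxU).symm⟩, hzz⟩
  have hKfix := fix_four (hU.pgroup.to_le (hKM.trans inf_le_left)) hK4 hyK hyo hzK hz1
    (fix_center hU.pgroup h16 ⟨p, hp, q, hq, hpq⟩ hyN hyo hzU hzc)
  have hMfix := fix_of_invols (hU.pgroup.to_le inf_le_left) hMab hyM hyo fun g hg h2 => hKfix g ⟨hg, h2⟩
  exact hyC (mem_centralizer_iff.2 fun g hg => (fix_index_two hU.pgroup inf_le_left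
    (by rw [h16, hM8]) hyN hyo hMfix g hg).symm)

/-- The centraliser of a central involution is the normalizer of a nonabelian `U` fixing it. -/
theorem Ess.eq_centralizer (h32 : Nat.card (nS S U) = 32) {z : G} (hz : z ≠ 1)
    (hzN : ∀ n ∈ normalizer (U : Set G), n * z = z * n) :
    normalizer (U : Set G) = centralizer ({z} : Set G) :=
  hU.maximal hb h32 (fun n hn => mem_centralizer_singleton_iff.2 (hzN n hn)) (hb.toHyp.centralizer_ne_top hz)

/-- No element of odd order of the normalizer normalises the Sylow subgroup. -/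
theorem Ess.not_normalizes (h32 : Nat.card (nS S U) = 32) (hS : nS S U = (S : Subgroup G)) {y : G}
    (hy : y ∈ normalizer (U : Set G)) (hyS : y ∈ normalizer ((S : Subgroup G) : Set G)) (hyo : Odd (orderOf y)) :
    y = 1 := by
  by_contra hy1
  haveI : Fact (Nat.Prime 2) := ⟨Nat.prime_two⟩
  obtain ⟨k, hk, hk2, hN, -⟩ := hU.prime_part hb h32
  set N := normalizer (U : Set G)
  have hSN : (S : Subgroup G) ≤ N := hS ▸ inf_le_right
  have hle : N ≤ normalizer ((S : Subgroup G) : Set G) := by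
    have hj : (S : Subgroup G) ⊔ zpowers y ≤ N := sup_le hSN (zpowers_le.2 hy)
    have hlt : (S : Subgroup G) < (S : Subgroup G) ⊔ zpowers y := lt_of_le_of_ne le_sup_left fun e =>
      not_mem_of_odd S.isPGroup' hyo hy1 (e.ge (mem_sup_right (mem_zpowers y)))
    have hd := card_dvd_of_le hj
    obtain ⟨m, hm⟩ := card_dvd_of_le hlt.le
    rw [hS] at h32
    rw [h32] at hm
    rw [hm, hN] at hd
    rcases (Nat.dvd_prime hk).1 ((Nat.mul_dvd_mul_iff_left (by norm_num : 0 < 32)).1 hd) with e | e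
    · exact absurd (eq_of_le_of_card_ge hlt.le (by rw [h32, hm, e, mul_one])) hlt.ne
    · exact (eq_of_le_of_card_ge hj (by rw [hm, e, hN])).ge.trans (sup_le le_normalizer (zpowers_le.2 hyS))
  have hSU : (S : Subgroup G) ≤ U := by
    refine hU.normal_le hb h32 hSN (fun n hn s hs => (mem_normalizer_iff.1 (hle hn) s).1 hs) fun s hs hso => ?_
    by_contra h1
    exact not_mem_of_odd S.isPGroup' hso h1 hs
  exact hU.ne (le_antisymm hU.le hSU)

end Cfsg.Agent.Fus.LenSeven
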