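import Cfsg.Agent.Lib.Fus.LengthSeven.Small
import Cfsg.Agent.S0516
import Cfsg.Agent.S1240

/-!
# Simple groups of length at most seven (for S3249)
-/

set_option autoImplicit false
set_option linter.style.haveILetI false

namespace Cfsg.Agent.Fus.LenSeven

open Subgroup LenEight

universe u

variable {G : Type u} [Group G] [Finite G]

/-- The centraliser section in a group with one class of involutions. -/
theorem Hyp.exists_section (h : Hyp G) {S : Sylow 2 G}
    (hS : Cfsg.IsQuasiDihedral (S : Subgroup G) ∨ Cfsg.IsWreathed (S : Subgroup G)) {u : G}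
    (hu : ∀ a : G, orderOf a = 2 → IsConj u a) {t : G} (ht : orderOf t = 2) :
    (∃ (F : Type) (_ : Field F) (_ : Fintype F), Odd (Fintype.card F) ∧ 3 < Fintype.card F ∧
      Nonempty (↥(commutator (↥(centralizer ({t} : Set G)) ⧸ Cfsg.oddCore ↥(centralizer ({t} : Set G)))) ≃*
        Matrix.SpecialLinearGroup (Fin 2) F)) ∨
      Nonempty (↥(commutator (↥(centralizer ({t} : Set G)) ⧸ Cfsg.oddCore ↥(centralizer ({t} : Set G)))) ≃*
        Matrix.SpecialLinearGroup (Fin 2) (ZMod 3)) := by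
  obtain ⟨F, i1, i2, hodd, ⟨e⟩⟩ :=
    S1240.result S hS h.no_index_two (fun a b ha hb => (hu a ha).symm.trans (hu b hb)) t ht
  by_cases h3 : 3 < Fintype.card F
  · exact Or.inl ⟨F, i1, i2, hodd, h3, ⟨e⟩⟩
  · have hF : Fintype.card F = 3 := by
      obtain ⟨k, hk⟩ := hodd
      have := Fintype.one_lt_card (α := F)
      omega
    obtain ⟨es⟩ := exists_sl_zmod hF
    exact Or.inr ⟨e.trans es.symm⟩

theorem Hyp.qd_case (h : Hyp G) {S : Sylow 2 G} (hS : Cfsg.IsQuasiDihedral (S : Subgroup G)) : Concl G := by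
  obtain ⟨n, x, y, hq⟩ := Invol.exists_qd hS
  have ht : orderOf ((x ^ (2 * Invol.qq n) : ↥(S : Subgroup G)) : G) = 2 := (orderOf_coe _).trans hq.orderOf_z
  rcases h.exists_section (Or.inl hS) (fun a => hq.all_conj h.no_index_two) ht with
    ⟨F, i1, i2, hodd, h3, ⟨e⟩⟩ | he
  · exact Or.inr (Or.inr (Or.inr (Or.inr (Or.inr (h.qd_large hq rfl hodd h3 e)))))
  · obtain ⟨e⟩ := he
    exact Or.inr (Or.inr (Or.inr (Or.inl (h.qd_small hq rfl e))))

theorem Hyp.wr_case (h : Hyp G) {S : Sylow 2 G} (hS : Cfsg.IsWreathed (S : Subgroup G)) : Concl G := by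
  obtain ⟨n, x, y, z, hw⟩ := Invol.exists_wr hS
  have ht : orderOf (hw.gE (Invol.hh n) (Invol.hh n)) = 2 := (orderOf_coe _).trans hw.orderOf_w
  rcases h.exists_section (Or.inr hS) (fun a => hw.all_conj h.no_index_two) ht with
    ⟨F, i1, i2, hodd, h3, ⟨e⟩⟩ | he
  · exact (h.wr_large hw rfl hodd h3 e).elim
  · obtain ⟨e⟩ := he
    exact Or.inr (Or.inl (h.wr_small hw rfl e))

theorem Hyp.main (h : Hyp G) : Concl G := by
  classical
  haveI : Fact (Nat.Prime 2) := ⟨Nat.prime_two⟩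
  haveI := h.simple
  by_cases h2 : Cfsg.PRankLE 2 2 G
  · obtain ⟨S⟩ : Nonempty (Sylow 2 G) := inferInstance
    letI : Fintype (GaloisField 2 4) := Fintype.ofFinite _
    have hF : Fintype.card (GaloisField 2 4) = 16 := by
      rw [← Nat.card_eq_fintype_card, GaloisField.card 2 4 (by norm_num)]; norm_num
    obtain ⟨P⟩ : Nonempty (Sylow 2 (Cfsg.PSU 3 (GaloisField 2 4) 4)) := inferInstance
    rcases S0516.result h.nonab h2 S hF P with ⟨n, hn, hd⟩ | hq | hw | hU
    · exact h.dihedral_case hn hd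
    · exact h.qd_case hq
    · exact h.wr_case hw
    · obtain ⟨e⟩ := hU
      obtain ⟨hc, hcen⟩ := unitary_data hF P e
      exact (h.unitary_case hc hcen).elim
  · obtain ⟨A, hAc, hA2, hA⟩ : ∃ A : Subgroup G, IsMulCommutative A ∧ (∀ a ∈ A, a ^ 2 = 1) ∧ 2 ^ 2 < Nat.card A := by
      by_contra hno
      exact h2 fun A hAc hA2 => not_lt.1 fun hlt => hno ⟨A, hAc, hA2, hlt⟩
    have hAp : IsPGroup 2 A := fun a => ⟨1, Subtype.ext (by simpa using hA2 a a.2)⟩
    obtain ⟨k, hk⟩ := IsPGroup.iff_card.1 hAp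
    have hk3 : 3 ≤ k := by
      rw [hk] at hA
      exact (Nat.pow_lt_pow_iff_right one_lt_two).1 hA
    obtain ⟨E, hE⟩ := Sylow.exists_subgroup_card_pow_prime (G := A) 2 (n := 3) (hk ▸ pow_dvd_pow 2 hk3)
    set E' := E.map A.subtype with hE'
    have hE8 : Nat.card E' = 8 := by rw [hE', card_map_of_injective A.subtype_injective, hE]; norm_num
    have hEA : E' ≤ A := map_subtype_le E
    obtain ⟨S, hS⟩ := (hAp.to_le hEA).exists_le_sylow
    by_cases hSab : IsMulCommutative (S : Subgroup G)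
    · exact h.abelian_case hSab
    · exfalso
      refine Big.false_big (S := S) ⟨h, ?_, E', hS, hE8, fun x hx => by rw [← sq]; exact hA2 x (hEA hx), fun x hx y hy => ?_⟩
      · by_contra hno
        push Not at hno
        exact hSab ⟨⟨fun a b => Subtype.ext (hno a a.2 b b.2)⟩⟩
      · exact congrArg Subtype.val (hAc.is_comm.comm ⟨x, hEA hx⟩ ⟨y, hEA hy⟩)

end Cfsg.Agent.Fus.LenSeven
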