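import Cfsg.Agent.Lib.Fus.LengthSeven.Base
import Cfsg.Agent.Lib.Fus.LengthEight.EssBasics
import Cfsg.Agent.S0080
import Cfsg.Agent.S3072

/-!
# Transfer and the subgroups that move parities (for S3249)
-/

set_option autoImplicit false
set_option linter.style.haveILetI false

namespace Cfsg.Agent.Fus.LenSeven

open Subgroup LenEight
open scoped commutatorElement

universe u

variable {G : Type u} [Group G] [Finite G] {S : Sylow 2 G}

/-- A tame intersection below `S` with a non-trivial automorphism of odd order. -/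
structure Ess (S : Sylow 2 G) (U : Subgroup G) : Prop where
  le : U ≤ (S : Subgroup G)
  ne : U ≠ (S : Subgroup G)
  cent : (S : Subgroup G) ⊓ centralizer (U : Set G) ≤ U
  syl : ¬ 2 ∣ ((S : Subgroup G) ⊓ normalizer (U : Set G)).relIndex (normalizer (U : Set G))
  core : (Cfsg.pPrimePCore 2 ↥(normalizer (U : Set G))).map (normalizer (U : Set G)).subtype =
    U ⊔ centralizer (U : Set G)
  act : ∃ y ∈ normalizer (U : Set G), Odd (orderOf y) ∧ y ∉ centralizer (U : Set G)

/-- An element of odd order of the normalizer changes a parity. -/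
def Moves (U M : Subgroup G) : Prop :=
  ∃ y ∈ normalizer (U : Set G), Odd (orderOf y) ∧ ∃ x ∈ U, ¬ (y * x * y⁻¹ ∈ M ↔ x ∈ M)

theorem pres_all {U M : Subgroup G} (hi : M.relIndex (S : Subgroup G) = 2) (hUS : U ≤ (S : Subgroup G))
    (hsyl : ¬ 2 ∣ ((S : Subgroup G) ⊓ normalizer (U : Set G)).relIndex (normalizer (U : Set G)))
    (hno : ¬ Moves U M) {n : G} (hn : n ∈ normalizer (U : Set G)) :
    ∀ x ∈ U, (n * x * n⁻¹ ∈ M ↔ x ∈ M) := by
  set N := normalizer (U : Set G)
  let K : Subgroup G :=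
    { carrier := {g | g ∈ N ∧ ∀ x ∈ U, (g * x * g⁻¹ ∈ M ↔ x ∈ M)}
      one_mem' := ⟨one_mem _, fun x _ => by simp⟩
      mul_mem' := fun {a b} ha hb => ⟨mul_mem ha.1 hb.1, fun x hx => by
        rw [show a * b * x * (a * b)⁻¹ = a * (b * x * b⁻¹) * a⁻¹ by group]
        exact (ha.2 _ ((mem_normalizer_iff.1 hb.1 x).1 hx)).trans (hb.2 x hx)⟩
      inv_mem' := fun {a} ha => ⟨inv_mem ha.1, fun x hx => by
        have := ha.2 (a⁻¹ * x * a⁻¹⁻¹) ((mem_normalizer_iff.1 (inv_mem ha.1) x).1 hx)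
        rw [show a * (a⁻¹ * x * a⁻¹⁻¹) * a⁻¹ = x by group] at this
        exact this.symm⟩ }
  have hTK : (S : Subgroup G) ⊓ N ≤ K := fun t ht => ⟨ht.2, fun x hx => half_conj hi (hUS hx) ht.1⟩
  have hKN : K ≤ N := fun g hg => hg.1
  suffices hall : K.relIndex N = 1 from ((relIndex_eq_one.1 hall) hn).2
  by_contra hne
  obtain ⟨p, hp, hpd⟩ := Nat.exists_prime_and_dvd hne
  haveI : Fact p.Prime := ⟨hp⟩
  have hp2 : p ≠ 2 := by
    rintro rfl
    exact hsyl (hpd.trans (relIndex_dvd_of_le_left N hTK))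
  obtain ⟨P⟩ : Nonempty (Sylow p N) := inferInstance
  have hle : (P : Subgroup N) ≤ K.subgroupOf N := fun g hg => by
    refine mem_subgroupOf.2 ⟨g.2, fun x hx => ?_⟩
    by_contra hm
    refine hno ⟨g, g.2, ?_, x, hx, hm⟩
    obtain ⟨i, hi'⟩ := P.isPGroup'.exists_orderOf_eq_pow ⟨g, hg⟩
    rw [Subgroup.orderOf_mk] at hi'
    rw [Subgroup.orderOf_coe, hi']
    exact (hp.odd_of_ne_two hp2).pow
  exact P.not_dvd_index (hpd.trans (index_dvd_of_le hle))

/-- Transfer: every half is moved, by an essential subgroup or by the normalizer of `S`. -/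
theorem Hyp.exists_moving (h : Hyp G) {M : Subgroup G} (hi : M.relIndex (S : Subgroup G) = 2) :
    (∃ U, Ess S U ∧ Moves U M) ∨ Moves (S : Subgroup G) M := by
  haveI : Fact (Nat.Prime 2) := ⟨Nat.prime_two⟩
  haveI := h.simple
  by_contra! hno
  obtain ⟨hno, hnoS⟩ := hno
  have hsylS : ¬ 2 ∣ ((S : Subgroup G) ⊓ normalizer ((S : Subgroup G) : Set G)).relIndex
      (normalizer ((S : Subgroup G) : Set G)) := by
    rw [inf_eq_left.2 le_normalizer]
    exact fun hd => S.not_dvd_index (hd.trans (relIndex_dvd_index_of_le le_normalizer))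
  -- conjugation preserves the parity
  have key : ∀ a ∈ (S : Subgroup G), a ≠ 1 → ∀ u : G, u * a * u⁻¹ ∈ (S : Subgroup G) →
      (u * a * u⁻¹ ∈ M ↔ a ∈ M) := by
    intro a ha ha1 u hu
    obtain ⟨n, H, X, x, c, y, hc, hy, hg, hdata⟩ := S3072.result S {a} (Set.singleton_subset_iff.2 ha)
      ⟨a, rfl, ha1⟩ u⁻¹ (by rintro _ ⟨b, hb, rfl⟩; rw [Set.mem_singleton_iff.1 hb, inv_inv]; exact hu)
    set q : ℕ → G := fun i => (((List.ofFn x).take i).prod)⁻¹ * a * ((List.ofFn x).take i).prod with hq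
    have hstep : ∀ i, i ≤ n → q i ∈ (S : Subgroup G) ∧ (q i ∈ M ↔ a ∈ M) := by
      intro i
      induction i with
      | zero => intro _; simp [hq, ha]
      | succ i ih =>
        intro hi'
        obtain ⟨hS, hM⟩ := ih (by omega)
        obtain ⟨hHle, hsyl, hcen, hcore, -, ⟨hHX, hXN, -, -, -⟩, hx, himg⟩ := hdata ⟨i, by omega⟩
        have hqH : q i ∈ H ⟨i, by omega⟩ := himg ⟨a, rfl, rfl⟩
        have hxN : x ⟨i, by omega⟩ ∈ normalizer (H ⟨i, by omega⟩ : Set G) := hXN ((map_subtype_le _) hx)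
        have hnext : q (i + 1) = (x ⟨i, by omega⟩)⁻¹ * q i * x ⟨i, by omega⟩ := by
          simp only [hq]
          rw [List.take_add_one, List.getElem?_ofFn, dif_pos (show i < n by omega), Option.toList_some, List.prod_append,
            List.prod_singleton, mul_inv_rev]
          group
        have hqH' : q (i + 1) ∈ H ⟨i, by omega⟩ := by
          rw [hnext]
          simpa using (mem_normalizer_iff.1 (inv_mem hxN) _).1 hqH
        refine ⟨hHle hqH', Iff.trans ?_ hM⟩
        have hnm : ¬ Moves (H ⟨i, by omega⟩) M := fun hm => by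
          by_cases he : H ⟨i, by omega⟩ = (S : Subgroup G)
          · exact hnoS (he ▸ hm)
          refine hno _ ⟨hHle, he, hcen, hsyl, hcore, ?_⟩ hm
          obtain ⟨y, hy, hodd, x', hx', hne⟩ := hm
          refine ⟨y, hy, hodd, fun hyc => hne ?_⟩
          rw [show y * x' * y⁻¹ = x' from mul_inv_eq_iff_eq_mul.2 (mem_centralizer_iff.1 hyc x' hx').symm]
        rw [hnext]
        simpa using pres_all hi hHle hsyl hnm (inv_mem hxN) _ hqH
    obtain ⟨hqS, hqM⟩ := hstep n le_rfl
    have hca : c⁻¹ * a * c = a := by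
      rw [mul_assoc, mem_centralizer_iff.1 hc a rfl, inv_mul_cancel_left]
    have he : u * a * u⁻¹ = y⁻¹ * q n * y := by
      simp only [hq]
      rw [List.take_of_length_le (by simp)]
      have hu' : u = (c * (List.ofFn x).prod * y)⁻¹ := by rw [← hg, inv_inv]
      rw [hu']
      conv_rhs => rw [← hca]
      group
    rw [he]
    have := (pres_all hi le_rfl hsylS hnoS (inv_mem hy) (q n) hqS).trans hqM
    simpa using this
  have hfoc : focalSubgroup (S : Subgroup G) ≤ M := by
    rw [focalSubgroup, closure_le]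
    rintro g ⟨hgS, x, hx, u, rfl⟩
    by_cases hx1 : x = 1
    · simp [hx1]
    have e : ⁅x, u⁆ = x * (u * x⁻¹ * u⁻¹) := by rw [commutatorElement_def]; group
    have hy : u * x⁻¹ * u⁻¹ ∈ (S : Subgroup G) := by
      rw [e] at hgS
      simpa using mul_mem (inv_mem hx) hgS
    rw [SetLike.mem_coe, e, half_mul hi hx hy, key x⁻¹ (inv_mem hx) (by simpa using hx1) u hy, inv_mem_iff]
  have hcop : Nat.Coprime (S : Subgroup G).index (⁅(S : Subgroup G), (S : Subgroup G)⁆.relIndex S) := by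
    obtain ⟨k, hk⟩ := IsPGroup.iff_card.1 S.isPGroup'
    obtain ⟨j, -, hj⟩ := (Nat.dvd_prime_pow Nat.prime_two).1
      (hk ▸ relIndex_dvd_card ⁅(S : Subgroup G), (S : Subgroup G)⁆ (S : Subgroup G))
    rw [hj]
    exact ((Nat.prime_two.coprime_iff_not_dvd).2 S.not_dvd_index).symm.pow_right j
  obtain ⟨hf, -⟩ := S0080.result (S : Subgroup G) hcop
  have hperf : commutator G = ⊤ := (h.normal_eq (commutator G) inferInstance).resolve_left fun e =>
    h.nonab ⟨⟨fun a b => commutatorElement_eq_one_iff_mul_comm.1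
      (mem_bot.1 (e ▸ commutator_mem_commutator (mem_top a) (mem_top b)))⟩⟩
  rw [hperf, top_inf_eq] at hf
  rw [hf] at hfoc
  have := relIndex_eq_one.2 hfoc
  omega

/-- An element of odd order fixing a half pointwise fixes everything. -/
theorem fix_index_two {H L : Subgroup G} (hH : IsPGroup 2 H) (hLH : L ≤ H)
    (hc : Nat.card H ≤ 2 * Nat.card L) {y : G} (hy : y ∈ normalizer (H : Set G)) (hyo : Odd (orderOf y))
    (hL : ∀ l ∈ L, y * l = l * y) : ∀ x ∈ H, y * x = x * y := by
  intro x hx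
  by_cases hxL : x ∈ L
  · exact hL x hxL
  haveI : Fact (Nat.Prime 2) := ⟨Nat.prime_two⟩
  have hlt : L < H := lt_of_le_of_ne hLH fun e => hxL (e ▸ hx)
  obtain ⟨m, hm⟩ := card_dvd_of_le hLH
  have h2 : m = 2 := by
    have h0 := Nat.card_pos (α := ↥H)
    have h1 := Nat.card_pos (α := ↥L)
    rcases Nat.lt_or_ge m 2 with hm2 | hm2
    · exfalso
      interval_cases m
      · omega
      · exact hlt.ne (eq_of_le_of_card_ge hLH (by omega))
    · nlinarith
  have hi : L.relIndex H = 2 := rel_two hLH (by rw [hm, h2, mul_comm])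
  have hyx : y * x * y⁻¹ ∈ H := (mem_normalizer_iff.1 hy x).1 hx
  have hnL : y * x * y⁻¹ ∉ L := fun e => hxL (by
    have h1 := hL _ e
    have h2 : y * x = x * y := by
      calc y * x = y⁻¹ * (y * (y * x * y⁻¹)) * y := by group
        _ = y⁻¹ * (y * x * y⁻¹ * y) * y := by rw [h1]
        _ = x * y := by group
    rwa [h2, mul_inv_cancel_right] at e)
  have hcL : x⁻¹ * (y * x * y⁻¹) ∈ L :=
    (rel_mul hi (inv_mem hx) hyx).2 (iff_of_false (fun e => hxL (inv_mem_iff.1 e)) hnL)
  exact fix_of_step hyo (two_elt_of_mem hH (hLH hcL)) (hL _ hcL) (by group)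

/-- A subgroup of order at most two is fixed. -/
theorem fix_two {L : Subgroup G} (hL : Nat.card L ≤ 2) {y : G} (hy : y ∈ normalizer (L : Set G)) :
    ∀ x ∈ L, y * x = x * y := by
  intro x hx
  by_cases h1 : x = 1
  · rw [h1, mul_one, one_mul]
  have h2 : Nat.card L = 2 := le_antisymm hL (by
    haveI : Nontrivial L := ⟨⟨⟨x, hx⟩, 1, fun e => h1 (congrArg Subtype.val e)⟩⟩
    exact Finite.one_lt_card)
  obtain ⟨o, ho⟩ := (Nat.card_eq_two_iff' (1 : L)).1 h2
  have e1 := congrArg Subtype.val ((ho.2 ⟨_, (mem_normalizer_iff.1 hy x).1 hx⟩ fun e => h1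
    (conj_eq_one_iff.1 (congrArg Subtype.val e))).trans (ho.2 ⟨x, hx⟩ fun e => h1 (congrArg Subtype.val e)).symm)
  exact mul_inv_eq_iff_eq_mul.1 e1

/-- A subgroup of order four with a fixed non-identity element is fixed. -/
theorem fix_four {H : Subgroup G} (hH : IsPGroup 2 H) (h4 : Nat.card H ≤ 4) {y : G}
    (hy : y ∈ normalizer (H : Set G)) (hyo : Odd (orderOf y)) {e : G} (he : e ∈ H) (he1 : e ≠ 1)
    (hye : y * e = e * y) : ∀ x ∈ H, y * x = x * y := by
  refine fix_index_two hH (L := H ⊓ centralizer ({y} : Set G)) inf_le_left ?_ hy hyo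
    fun l hl => (mem_centralizer_singleton_iff.1 hl.2).symm
  haveI : Nontrivial ↥(H ⊓ centralizer ({y} : Set G)) :=
    ⟨⟨⟨e, he, mem_centralizer_singleton_iff.2 hye.symm⟩, 1, fun h => he1 (congrArg Subtype.val h)⟩⟩
  have := Finite.one_lt_card (α := ↥(H ⊓ centralizer ({y} : Set G)))
  omega

end Cfsg.Agent.Fus.LenSeven
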