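import Cfsg.Agent.Lib.Fus.LengthSeven.DStruct

/-!
# Normal essential subgroups of order 16 in a Sylow subgroup of order 32 (for S3249)
-/

set_option autoImplicit false
set_option linter.style.haveILetI false

namespace Cfsg.Agent.Fus.LenSeven

open Subgroup LenEight

universe u

variable {G : Type u} [Group G] [Finite G] {S : Sylow 2 G}

omit [Finite G] in
theorem mem_sup_sq {H : Subgroup G} {g : G} (hg : g * g ∈ H) (hn : g ∈ normalizer (H : Set G)) {x : G}
    (hx : x ∈ H ⊔ zpowers g) : x ∈ H ∨ x * g ∈ H := by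
  have hn1 : ∀ h ∈ H, g * h * g⁻¹ ∈ H := fun h hh => (mem_normalizer_iff.1 hn h).1 hh
  have hn2 : ∀ h ∈ H, g⁻¹ * h * g ∈ H := fun h hh => by
    simpa using (mem_normalizer_iff.1 (inv_mem hn) h).1 hh
  let K : Subgroup G :=
    { carrier := {y | y ∈ H ∨ y * g ∈ H}
      one_mem' := Or.inl H.one_mem
      mul_mem' := fun {a b} ha hb => by
        rcases ha with ha | ha <;> rcases hb with hb | hb
        · exact Or.inl (mul_mem ha hb)
        · exact Or.inr (by rw [mul_assoc]; exact mul_mem ha hb)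
        · refine Or.inr ?_
          rw [show a * b * g = (a * g) * (g⁻¹ * b * g) by group]
          exact mul_mem ha (hn2 b hb)
        · refine Or.inl ?_
          rw [show a * b = (a * g) * (g⁻¹ * (b * g) * g) * (g * g)⁻¹ by group]
          exact mul_mem (mul_mem ha (hn2 _ hb)) (inv_mem hg)
      inv_mem' := fun {a} ha => by
        rcases ha with ha | ha
        · exact Or.inl (inv_mem ha)
        · refine Or.inr ?_
          rw [show a⁻¹ * g = g * (a * g)⁻¹ * g⁻¹ * (g * g) by group]
          exact mul_mem (hn1 _ (inv_mem ha)) hg }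
  exact (sup_le (fun h hh => Or.inl hh) (zpowers_le.2 (Or.inr hg)) : H ⊔ zpowers g ≤ K) hx

theorem card_sup_sq {H : Subgroup G} {g : G} (hg : g * g ∈ H) (hn : g ∈ normalizer (H : Set G)) :
    Nat.card ↥(H ⊔ zpowers g) ≤ 2 * Nat.card H := by
  classical
  refine (Nat.card_le_card_of_injective (fun x : ↥(H ⊔ zpowers g) => if h : (x : G) ∈ H then (true, (⟨x, h⟩ : H))
    else (false, ⟨(x : G) * g, (mem_sup_sq hg hn x.2).resolve_left h⟩)) ?_).trans
    (by rw [Nat.card_prod, Nat.card_eq_fintype_card (α := Bool), Fintype.card_bool])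
  intro x y e
  dsimp only at e
  by_cases hx : (x : G) ∈ H <;> by_cases hy : (y : G) ∈ H
  · rw [dif_pos hx, dif_pos hy] at e
    exact Subtype.ext (congrArg (fun p => ((p.2 : H) : G)) e)
  · rw [dif_pos hx, dif_neg hy] at e
    exact Bool.noConfusion (congrArg Prod.fst e)
  · rw [dif_neg hx, dif_pos hy] at e
    exact Bool.noConfusion (congrArg Prod.fst e)
  · rw [dif_neg hx, dif_neg hy] at e
    exact Subtype.ext (mul_right_cancel (congrArg (fun p => ((p.2 : H) : G)) e))

variable {U : Subgroup G}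

theorem Ess.nS_eq (hU : Ess S U) (h5 : Nat.card (S : Subgroup G) = 32) (h16 : Nat.card U = 16) :
    nS S U = (S : Subgroup G) ∧ U.relIndex (S : Subgroup G) = 2 := by
  have h := double_le (S := S) inf_le_left hU.lt_nS
  refine ⟨eq_of_le_of_card_ge inf_le_left ?_, rel_two hU.le (by rw [h5, h16])⟩
  rw [h16] at h
  rw [h5]
  exact h

/-- The normalizer fixes what a Sylow subgroup and one further element fix. -/
theorem Ess.fix_of (hb : Big G S) (hU : Ess S U) (h5 : Nat.card (S : Subgroup G) = 32) (h16 : Nat.card U = 16)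
    {k : G} (hk : k ∈ normalizer (U : Set G)) (hkS : k ∉ (S : Subgroup G)) {g : G}
    (hg : ∀ s ∈ (S : Subgroup G), s * g = g * s) (hkg : k * g = g * k) :
    ∀ n ∈ normalizer (U : Set G), n * g = g * n := by
  obtain ⟨hS, -⟩ := hU.nS_eq h5 h16
  obtain ⟨p, hp, -, hN, -⟩ := hU.prime_part hb (by rw [hS, h5])
  set N := normalizer (U : Set G)
  set K := N ⊓ centralizer ({g} : Set G)
  have hSK : (S : Subgroup G) ≤ K := fun s hs =>
    ⟨(hS.ge hs).2, mem_centralizer_singleton_iff.2 (hg s hs)⟩
  have hlt : (S : Subgroup G) < K := lt_of_le_of_ne hSK fun e =>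
    hkS (e.ge ⟨hk, mem_centralizer_singleton_iff.2 hkg⟩)
  obtain ⟨m, hm⟩ := card_dvd_of_le hSK
  have hd := card_dvd_of_le (inf_le_left : K ≤ N)
  rw [hm, hN, h5] at hd
  have hKN : K = N := by
    rcases (Nat.dvd_prime hp).1 ((Nat.mul_dvd_mul_iff_left (by norm_num : 0 < 32)).1 hd) with e | e
    · exact absurd (eq_of_le_of_card_ge hSK (by rw [hm, e, mul_one])) hlt.ne
    · exact eq_of_le_of_card_ge inf_le_left (by rw [hm, e, hN, h5])
  intro n hn
  exact mem_centralizer_singleton_iff.1 (hKN.ge hn).2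

/-- The normalizer fixes what a Sylow subgroup and one element of odd order fix. -/
theorem Ess.fix_all (hb : Big G S) (hU : Ess S U) (h5 : Nat.card (S : Subgroup G) = 32) (h16 : Nat.card U = 16)
    {y : G} (hy : y ∈ normalizer (U : Set G)) (hyo : Odd (orderOf y)) (hy1 : y ≠ 1) {g : G}
    (hg : ∀ s ∈ (S : Subgroup G), s * g = g * s) (hyg : y * g = g * y) :
    ∀ n ∈ normalizer (U : Set G), n * g = g * n :=
  hU.fix_of hb h5 h16 hy (not_mem_of_odd S.isPGroup' hyo hy1) hg hyg

/-- The normalizer of a nonabelian essential subgroup of order 16 fixes the centre of `S`. -/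
theorem Ess.fix_centre (hb : Big G S) (hU : Ess S U) (h5 : Nat.card (S : Subgroup G) = 32) (h16 : Nat.card U = 16)
    (hna : ∃ p ∈ U, ∃ q ∈ U, p * q ≠ q * p) {z : G} (hzS : z ∈ (S : Subgroup G))
    (hz : ∀ s ∈ (S : Subgroup G), s * z = z * s) : ∀ n ∈ normalizer (U : Set G), n * z = z * n := by
  obtain ⟨y, hy, hyo, hyC⟩ := hU.act
  exact hU.fix_all hb h5 h16 hy hyo (fun e => hyC (e ▸ one_mem _)) hz
    (fix_center hU.pgroup h16 hna hy hyo (hU.center_le hzS hz) fun x hx => hz x (hU.le hx))

/-- Two essential subgroups of order 16 fixing a common element are equal. -/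
theorem Ess.eq_of_fix (hb : Big G S) (hU : Ess S U) {V : Subgroup G} (hV : Ess S V)
    (h5 : Nat.card (S : Subgroup G) = 32) (hU16 : Nat.card U = 16) (hV16 : Nat.card V = 16) {z : G} (hz : z ≠ 1)
    (hUz : ∀ n ∈ normalizer (U : Set G), n * z = z * n) (hVz : ∀ n ∈ normalizer (V : Set G), n * z = z * n) :
    U = V := by
  have h32U : Nat.card (nS S U) = 32 := by rw [(hU.nS_eq h5 hU16).1, h5]
  have h32V : Nat.card (nS S V) = 32 := by rw [(hV.nS_eq h5 hV16).1, h5]
  have hN : normalizer (U : Set G) = normalizer (V : Set G) :=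
    (hU.eq_centralizer hb h32U hz hUz).trans (hV.eq_centralizer hb h32V hz hVz).symm
  have hVU : V ≤ U := hU.normal_le hb h32U (hN ▸ le_normalizer)
    (fun n hn x hx => (mem_normalizer_iff.1 (hN ▸ hn) x).1 hx) fun x hx hxo => by
      by_contra h1
      exact not_mem_of_odd hV.pgroup hxo h1 hx
  exact (eq_of_le_of_card_ge hVU (by omega)).symm

end Cfsg.Agent.Fus.LenSeven
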