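import Cfsg.Agent.Lib.Fus.LengthSeven.ThirtyTwoSylow
import Cfsg.Agent.Lib.Recog.SU3Sylow
import Cfsg.Agent.Lib.Spor.J1.Structure
import Cfsg.Agent.S0506
import Cfsg.Agent.S0205
import Cfsg.Agent.S0483
import Cfsg.Agent.S4273

/-!
# Simple groups of length at most seven: abelian, dihedral and `U₃(4)`-type Sylow 2-subgroups (for S3249)
-/

set_option autoImplicit false
set_option linter.style.haveILetI false

namespace Cfsg.Agent.Fus.LenSeven

open Subgroup LenEight

universe u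

variable {G : Type u} [Group G] [Finite G]

/-- The conclusion of S3249. -/
def Concl (G : Type u) [Group G] : Prop :=
  (∃ (F : Type) (_ : Field F) (_ : Fintype F), Nonempty (G ≃* Matrix.ProjectiveSpecialLinearGroup (Fin 2) F)) ∨
    (∃ (F : Type) (_ : Field F) (_ : Fintype F), Fintype.card F = 9 ∧ Nonempty (G ≃* Cfsg.PSU 3 F 3)) ∨
    Nonempty (G ≃* ↥(alternatingGroup (Fin 7))) ∨ Cfsg.Spor.IsoM11 G ∨ Cfsg.Spor.IsoJ1 G ∨ Nat.card G = 126000

theorem Hyp.perfect (h : Hyp G) : Group.IsPerfect G :=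
  ⟨(h.normal_eq (commutator G) inferInstance).resolve_left fun e =>
    h.nonab ⟨⟨fun a b => commutatorElement_eq_one_iff_mul_comm.1
      (mem_bot.1 (e ▸ commutator_mem_commutator (mem_top a) (mem_top b)))⟩⟩⟩

theorem Hyp.no_index_two (h : Hyp G) (H : Subgroup G) : H.index ≠ 2 := fun e => by
  haveI := normal_of_index_eq_two e
  rcases h.normal_eq H inferInstance with rfl | rfl
  · rw [index_bot] at e
    haveI : Fact (Nat.Prime 2) := ⟨Nat.prime_two⟩
    exact h.not_solvable (by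
      haveI := (IsPGroup.of_card (p := 2) (n := 1) (G := G) (by rw [e]; rfl)).isNilpotent
      infer_instance)
  · rw [index_top] at e; omega

/-- A normal subgroup of odd order is trivial. -/
theorem Hyp.odd_normal (h : Hyp G) {N : Subgroup G} (hN : N.Normal) (ho : Odd (Nat.card N)) : N = ⊥ := by
  refine (h.normal_eq N hN).resolve_right fun e => h.not_solvable ?_
  subst e
  rw [card_top] at ho
  exact S0205.result ho

theorem Hyp.abelian_case (h : Hyp G) {S : Sylow 2 G} (hS : IsMulCommutative (S : Subgroup G)) : Concl G := by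
  haveI := h.simple
  haveI : Fact (Nat.Prime 3) := ⟨by norm_num⟩
  rcases S0506.result h.nonab S hS with ⟨a, -, F, i1, i2, -, he⟩ | ⟨F, i1, i2, -, he⟩ | ⟨-, m, hm, hc⟩ | ⟨-, hc⟩
  · exact Or.inl ⟨F, i1, i2, he⟩
  · exact Or.inl ⟨F, i1, i2, he⟩
  · exfalso
    have h39 : 3 ^ 9 ∣ Nat.card G := by
      rw [hc, ← pow_mul, mul_assoc]
      exact (pow_dvd_pow 3 (show 9 ≤ (2 * m + 1) * 3 by omega)).mul_right _
    obtain ⟨P, hP⟩ := Sylow.exists_subgroup_card_pow_prime 3 h39
    haveI := (IsPGroup.of_card (p := 3) hP).isNilpotent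
    have h6 := h.solvable_len (H := P) inferInstance (h.ne_top_of_solvable inferInstance)
    rw [hP, Nat.Prime.primeFactorsList_pow (by norm_num), List.length_replicate] at h6
    omega
  · haveI := J1Cert.simple_J1
    exact Or.inr (Or.inr (Or.inr (Or.inr (Or.inl (S4273.result hc J1Cert.card_J1)))))

theorem Hyp.dihedral_case (h : Hyp G) {S : Sylow 2 G} {n : ℕ} (hn : 2 ≤ n)
    (hd : Nonempty ((S : Subgroup G) ≃* DihedralGroup n)) : Concl G := by
  haveI := h.perfect
  have hodd : Cfsg.oddCore G = ⊥ :=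
    h.odd_normal Grp.pPrimeCore_isNormal (Nat.coprime_two_right.1 Grp.pPrimeCore_coprime)
  let q0 : G ⧸ Cfsg.oddCore G ≃* G :=
    (QuotientGroup.quotientMulEquivOfEq hodd).trans (QuotientGroup.quotientBot (G := G))
  rcases S0483.result S n hn hd with ⟨F, iF, iFF, -, -, ⟨e⟩⟩ | he
  · exact Or.inl ⟨F, iF, iFF, ⟨q0.symm.trans e⟩⟩
  · obtain ⟨e⟩ := he
    exact Or.inr (Or.inr (Or.inl ⟨q0.symm.trans e⟩))

omit [Finite G] in
/-- In a Sylow 2-subgroup of the shape of `PSU₃(4)` every involution is central. -/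
theorem unitary_data {S : Sylow 2 G} {F : Type} [Field F] [Fintype F] (hF : Fintype.card F = 16)
    (P : Sylow 2 (Cfsg.PSU 3 F 4)) (e : (S : Subgroup G) ≃* (P : Subgroup (Cfsg.PSU 3 F 4))) :
    Nat.card (S : Subgroup G) = 2 ^ 6 ∧
      ∀ z ∈ (S : Subgroup G), z * z = 1 → ∀ x ∈ (S : Subgroup G), x * z = z * x := by
  haveI : CharP F 2 := Recog.SU3Two.charP_two (m := 4) (by rw [hF]; norm_num)
  haveI : Fact (Fintype.card F = 4 ^ 2) := ⟨by rw [hF]; norm_num⟩
  obtain ⟨a⟩ := Recog.SU3Two.sylow_psu (n := 2) (q := 4) rfl (by norm_num) P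
  let b : ↥(S : Subgroup G) ≃* Recog.SU3Two.UT F 4 := e.trans a.symm
  refine ⟨by rw [Nat.card_congr b.toEquiv, Recog.SU3Two.UT.card]; norm_num, fun z hz hz2 x hx => ?_⟩
  have hu : b ⟨z, hz⟩ * b ⟨z, hz⟩ = 1 := by
    rw [← map_mul, ← map_one b]
    exact congrArg b (Subtype.ext hz2)
  have hb := congrArg Recog.SU3Two.UT.b hu
  rw [Recog.SU3Two.UT.mul_b, CharTwo.add_self_eq_zero, zero_add, Recog.SU3Two.UT.one_b] at hb
  have ha : (b ⟨z, hz⟩).a = 0 := by
    rcases mul_eq_zero.1 hb with h0 | h0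
    · exact pow_eq_zero_iff (n := 4) (by norm_num) |>.1 h0
    · exact h0
  have hc := mem_center_iff.1 ((Recog.SU3Two.UT.mem_center_iff _).2 ha) (b ⟨x, hx⟩)
  rw [← map_mul, ← map_mul] at hc
  exact congrArg Subtype.val (b.injective hc)

theorem Hyp.unitary_case (h : Hyp G) {S : Sylow 2 G} (hc : Nat.card (S : Subgroup G) = 2 ^ 6)
    (hcen : ∀ z ∈ (S : Subgroup G), z * z = 1 → ∀ x ∈ (S : Subgroup G), x * z = z * x) : False := by
  haveI : Fact (Nat.Prime 2) := ⟨Nat.prime_two⟩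
  have hN : normalizer ((S : Subgroup G) : Set G) = S :=
    h.max_of_six hc le_normalizer (h.normalizer_ne_top (fun e => by
      rw [e, card_bot] at hc; norm_num at hc) S.isPGroup')
  haveI : Nontrivial (S : Subgroup G) := Finite.one_lt_card_iff_nontrivial.1 (by rw [hc]; norm_num)
  obtain ⟨z', hz'⟩ := exists_prime_orderOf_dvd_card' (G := (S : Subgroup G)) 2 (by rw [hc]; norm_num)
  have hz : orderOf (z' : G) = 2 := by rw [orderOf_coe, hz']
  have hz2 : (z' : G) * z' = 1 := by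
    have h2 := pow_orderOf_eq_one (z' : G)
    rwa [hz, sq] at h2
  have hiso : ∀ g : G, g * z' * g⁻¹ ∈ (S : Subgroup G) → g * z' * g⁻¹ = z' := by
    intro g hg
    have hx : (z' : G) ∈ centralizer ((S : Subgroup G) : Set G) :=
      mem_centralizer_iff.2 fun s hs => hcen _ z'.2 hz2 s hs
    have hy : (g⁻¹)⁻¹ * z' * g⁻¹ ∈ centralizer ((S : Subgroup G) : Set G) := by
      rw [inv_inv]
      refine mem_centralizer_iff.2 fun s hs => hcen _ hg ?_ s hs
      rw [show g * z' * g⁻¹ * (g * z' * g⁻¹) = g * (z' * z') * g⁻¹ by group, hz2]; group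
    obtain ⟨n, hn, he⟩ := S.conj_eq_normalizer_conj_of_mem_centralizer _ _ hx hy
    rw [inv_inv] at he
    have hns : n ∈ (S : Subgroup G) := hN ▸ hn
    rw [he, mul_assoc, ← hcen _ z'.2 hz2 n hns, inv_mul_cancel_left]
  obtain ⟨N, hN', hNo, hNc⟩ := S0215.result S (z' : G) hz z'.2 hiso
  have hb := h.odd_normal hN' hNo
  refine h.centralizer_ne_top (z := (z' : G)) (fun e => by rw [e, orderOf_one] at hz; norm_num at hz) ?_
  rw [eq_top_iff]
  intro g _
  refine mem_centralizer_singleton_iff.2 ?_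
  have h1 := mem_bot.1 (hb ▸ hNc g)
  rw [mul_inv_eq_one, mul_inv_eq_iff_eq_mul] at h1
  exact h1.symm

end Cfsg.Agent.Fus.LenSeven
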