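import Cfsg.Agent.Lib.Fus.LengthSeven.Moves
import Cfsg.Agent.Lib.Fus.LengthEight.EssQuad
import Cfsg.Agent.Lib.Recog.MaxClassSelfCentral

/-!
# The two possible shapes of an essential subgroup (for S3249)
-/

set_option autoImplicit false
set_option linter.style.haveILetI false

namespace Cfsg.Agent.Fus.LenSeven

open Subgroup LenEight
open scoped Pointwise

universe u

variable {G : Type u} [Group G] [Finite G] {S : Sylow 2 G} {U : Subgroup G}

omit [Finite G] in
theorem Ess.pgroup (hU : Ess S U) : IsPGroup 2 U := S.isPGroup'.to_le hU.le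

omit [Finite G] in
theorem Ess.center_le (hU : Ess S U) {c : G} (hcS : c ∈ (S : Subgroup G))
    (hc : ∀ x ∈ (S : Subgroup G), x * c = c * x) : c ∈ U :=
  hU.cent ⟨hcS, mem_centralizer_iff.2 fun u hu => hc u (hU.le hu)⟩

omit [Finite G] in
theorem Ess.le_nS (hU : Ess S U) : U ≤ nS S U := le_inf hU.le le_normalizer

theorem Ess.lt_nS (hU : Ess S U) : U < nS S U := by
  obtain ⟨x, hxS, hxU, hxN⟩ := exists_normalizing (S := S) le_rfl (lt_of_le_of_ne hU.le hU.ne)
  exact lt_of_le_of_ne hU.le_nS fun e => hxU (e ▸ ⟨hxS, hxN⟩)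

omit [Finite G] in
theorem Ess.mem_of_mem_sup (hU : Ess S U) {t : G} (htS : t ∈ (S : Subgroup G))
    (ht : t ∈ U ⊔ centralizer (U : Set G)) : t ∈ U := by
  have ht' : t ∈ ((U ⊔ centralizer (U : Set G) : Subgroup G) : Set G) := ht
  rw [coe_mul_of_right_le_normalizer_left U _ (centralizer_le_normalizer _)] at ht'
  obtain ⟨a, ha, c, hc, rfl⟩ := ht'
  refine mul_mem ha (hU.cent ⟨?_, hc⟩)
  have := mul_mem (inv_mem (hU.le ha)) htS
  rwa [inv_mul_cancel_left] at this

/-- A normal 2-subgroup of the normalizer modulo `U C(U)` is trivial. -/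
theorem Ess.core_bot [Fact (Nat.Prime 2)] :
    ∀ [(Cfsg.pPrimePCore 2 ↥(normalizer (U : Set G))).Normal]
      (R : Subgroup (↥(normalizer (U : Set G)) ⧸ Cfsg.pPrimePCore 2 ↥(normalizer (U : Set G)))),
      R.Normal → IsPGroup 2 R → R = ⊥ := by
  intro _ R hR hRp
  set N := normalizer (U : Set G)
  set P := Cfsg.pPrimePCore 2 ↥N with hP
  haveI : (Cfsg.pPrimeCore 2 ↥N).Normal := Grp.pPrimeCore_isNormal
  set f := QuotientGroup.mk' (Cfsg.pPrimeCore 2 ↥N) with hf
  set π := QuotientGroup.mk' P with hπ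
  have hOP : Cfsg.pPrimeCore 2 ↥N ≤ P := fun x hx => by
    show f x ∈ Cfsg.pCore 2 _
    rw [show f x = 1 from (QuotientGroup.eq_one_iff x).2 hx]
    exact one_mem _
  have hle : P ≤ R.comap π := fun x hx => by
    show π x ∈ R
    rw [show π x = 1 from (QuotientGroup.eq_one_iff x).2 hx]
    exact one_mem R
  -- the preimage is a 2-group modulo the odd core
  have hp : IsPGroup 2 ((R.comap π).map f) := by
    rintro ⟨_, x, hx, rfl⟩
    obtain ⟨i, hi⟩ := hRp ⟨π x, hx⟩
    have h1 : x ^ 2 ^ i ∈ P := (QuotientGroup.eq_one_iff _).1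
      (show π (x ^ 2 ^ i) = 1 by rw [map_pow]; exact congrArg Subtype.val hi)
    obtain ⟨j, hj⟩ := Grp.pCore_isPGroup (p := 2) ⟨f (x ^ 2 ^ i), h1⟩
    refine ⟨i + j, Subtype.ext ?_⟩
    have := congrArg Subtype.val hj
    simpa [← map_pow, ← pow_mul, ← pow_add] using this
  have h2 : (R.comap π).map f ≤ Cfsg.pCore 2 _ :=
    Grp.le_pCore ((hR.comap π).map f (QuotientGroup.mk'_surjective _)) hp
  rw [eq_bot_iff]
  intro r hr
  obtain ⟨x, rfl⟩ := QuotientGroup.mk'_surjective P r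
  exact mem_bot.2 ((QuotientGroup.eq_one_iff x).2 (h2 ⟨x, hr, rfl⟩ : x ∈ P))

theorem Ess.map_core (hU : Ess S U) {n : G} (hn : n ∈ normalizer (U : Set G)) :
    (⟨n, hn⟩ : ↥(normalizer (U : Set G))) ∈ Cfsg.pPrimePCore 2 ↥(normalizer (U : Set G)) ↔
      n ∈ U ⊔ centralizer (U : Set G) := by
  rw [← hU.core, mem_map]
  exact ⟨fun h => ⟨_, h, rfl⟩, fun ⟨m, hm, e⟩ => by
    rwa [show (⟨n, hn⟩ : ↥(normalizer (U : Set G))) = m from Subtype.ext e.symm]⟩

theorem Ess.exists_not_mem (hU : Ess S U) : ∃ t ∈ nS S U, t ∉ U ⊔ centralizer (U : Set G) := by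
  obtain ⟨t, ht, htU⟩ := Set.exists_of_ssubset hU.lt_nS
  exact ⟨t, ht, fun h => htU (hU.mem_of_mem_sup ht.1 h)⟩

/-- An automorphism of odd order of an abelian 2-group is trivial if it fixes the involutions. -/
theorem fix_of_invols {H : Subgroup G} (hH : IsPGroup 2 H) (hab : ∀ a ∈ H, ∀ b ∈ H, a * b = b * a) {y : G}
    (hy : y ∈ normalizer (H : Set G)) (hyo : Odd (orderOf y))
    (hfix : ∀ k ∈ H, k * k = 1 → y * k = k * y) : ∀ g ∈ H, y * g = g * y := by
  suffices key : ∀ n : ℕ, ∀ g ∈ H, g ^ 2 ^ n = 1 → y * g = g * y by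
    intro g hg
    obtain ⟨n, hn⟩ := hH ⟨g, hg⟩
    exact key n g hg (by simpa using congrArg Subtype.val hn)
  intro n
  induction n with
  | zero => intro g _ h1; rw [pow_zero, pow_one] at h1; rw [h1, mul_one, one_mul]
  | succ n ih =>
    intro g hg h1
    have hm : y * g * y⁻¹ ∈ H := (mem_normalizer_iff.1 hy g).1 hg
    have h2 : y * (g * g) = g * g * y := ih _ (mul_mem hg hg) (by rw [← sq, ← pow_mul, ← pow_succ', h1])
    have hc : g⁻¹ * (y * g * y⁻¹) * (g⁻¹ * (y * g * y⁻¹)) = 1 := by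
      calc g⁻¹ * (y * g * y⁻¹) * (g⁻¹ * (y * g * y⁻¹))
          = g⁻¹ * (y * g * y⁻¹ * g⁻¹) * (y * g * y⁻¹) := by group
        _ = g⁻¹ * (g⁻¹ * (y * g * y⁻¹)) * (y * g * y⁻¹) := by rw [hab _ hm _ (inv_mem hg)]
        _ = g⁻¹ * g⁻¹ * (y * (g * g)) * y⁻¹ := by group
        _ = 1 := by rw [h2]; group
    exact fix_of_step hyo (two_elt_of_mem hH (mul_mem (inv_mem hg) hm))
      (hfix _ (mul_mem (inv_mem hg) hm) hc) (by group)

variable (hb : Big G S) (hU : Ess S U)
include hb hU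

theorem Ess.ne_bot : U ≠ ⊥ := fun e => by
  obtain ⟨x, hx, y, hy, hxy⟩ := hb.sna
  have h1 := hU.cent ⟨hx, mem_centralizer_iff.2 fun u hu => by
    have hu1 : u = 1 := mem_bot.1 (e ▸ (hu : u ∈ U))
    rw [hu1, one_mul, mul_one]⟩
  rw [e, mem_bot] at h1
  exact hxy (by rw [h1, one_mul, mul_one])

theorem Ess.N_ne_top : normalizer (U : Set G) ≠ ⊤ := hb.toHyp.normalizer_ne_top (hU.ne_bot hb) hU.pgroup

theorem Ess.eight_le : 8 ≤ Nat.card U := by
  haveI : Fact (Nat.Prime 2) := ⟨Nat.prime_two⟩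
  obtain ⟨u, hu⟩ := IsPGroup.iff_card.1 hU.pgroup
  obtain ⟨a, ha, ha4, -⟩ := hb.card
  by_contra hlt
  have hu2 : u ≤ 2 := by
    by_contra hu2
    have := Nat.pow_le_pow_right (show 0 < 2 by norm_num) (show 3 ≤ u by omega)
    omega
  obtain ⟨z, hzS, hz1, -, hzc⟩ : ∃ z ∈ (S : Subgroup G), z ≠ 1 ∧ z * z = 1 ∧
      ∀ x ∈ (S : Subgroup G), x * z = z * x := by
    haveI : Nontrivial (S : Subgroup G) :=
      Finite.one_lt_card_iff_nontrivial.1 (ha ▸ Nat.one_lt_two_pow (by omega))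
    haveI := S.isPGroup'.center_nontrivial
    obtain ⟨z, hz⟩ := exists_prime_orderOf_dvd_card' (G := center (S : Subgroup G)) 2 (by
      obtain ⟨j, hj⟩ := IsPGroup.iff_card.1 (S.isPGroup'.to_subgroup (center (S : Subgroup G)))
      rw [hj]
      refine dvd_pow_self 2 fun e => ?_
      rw [e, pow_zero] at hj
      exact (Finite.one_lt_card (α := center (S : Subgroup G))).ne' hj)
    refine ⟨((z : (S : Subgroup G)) : G), (z : (S : Subgroup G)).2, fun e => ?_, ?_, fun x hx =>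
      congrArg Subtype.val (mem_center_iff.1 z.2 ⟨x, hx⟩)⟩
    · rw [← Subgroup.orderOf_coe, ← Subgroup.orderOf_coe, e, orderOf_one] at hz
      omega
    · have := pow_orderOf_eq_one z
      rw [hz, sq] at this
      exact_mod_cast congrArg (fun y : center (S : Subgroup G) => ((y : (S : Subgroup G)) : G)) this
  obtain ⟨y, hyN, hyo, hyC⟩ := hU.act
  have hzU := hU.center_le hzS hzc
  rcases (show u ≤ 1 ∨ u = 2 by omega) with hu1 | rfl
  · refine hyC (mem_centralizer_iff.2 fun x hx => (fix_two ?_ hyN x hx).symm)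
    rw [hu]
    exact (Nat.pow_le_pow_right two_pos hu1).trans (by norm_num)
  · refine hb.commutator_index ?_
    have hA : Nat.card (U.subgroupOf (S : Subgroup G)) = 2 ^ 2 := by
      rw [Nat.card_congr (subgroupOfEquivOfLe hU.le).toEquiv, hu]
    refine (Transfer.MaxClass.commutator_index_of_class (p := 2) ha (by omega)
      (MaxClass.class_of_self_centralizing ha _ hA ?_)).trans (by norm_num)
    refine le_antisymm (fun s hs => mem_subgroupOf.2 (hU.cent ⟨s.2, mem_centralizer_iff.2 fun x hx => ?_⟩))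
      fun s hs => mem_centralizer_iff.2 fun x hx => Subtype.ext (commute_of_card_four hu hx hs)
    exact congrArg Subtype.val (mem_centralizer_iff.1 hs ⟨x, hU.le hx⟩ (mem_subgroupOf.2 hx))

/-- A subgroup of order 8 is elementary abelian. -/
theorem Ess.elementary (h8 : Nat.card U = 8) :
    (∀ x ∈ U, x * x = 1) ∧ ∀ x ∈ U, ∀ y ∈ U, x * y = y * x := by
  haveI : Fact (Nat.Prime 2) := ⟨Nat.prime_two⟩
  obtain ⟨a, ha, ha4, -⟩ := hb.card
  have hab : ∀ x ∈ U, ∀ y ∈ U, x * y = y * x := by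
    by_contra hna
    refine hb.commutator_index ?_
    refine (Transfer.MaxClass.commutator_index_of_class (p := 2) ha (by omega)
      (MaxClass.class_of_cube ha (U.subgroupOf (S : Subgroup G))
        (by rw [Nat.card_congr (subgroupOfEquivOfLe hU.le).toEquiv, h8]; norm_num) ?_ ?_)).trans (by norm_num)
    · intro hc
      refine hna fun x hx y hy => ?_
      exact congrArg (fun t : U.subgroupOf (S : Subgroup G) => ((t : (S : Subgroup G)) : G))
        (hc.is_comm.comm ⟨⟨x, hU.le hx⟩, mem_subgroupOf.2 hx⟩ ⟨⟨y, hU.le hy⟩, mem_subgroupOf.2 hy⟩)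
    · intro s hs
      refine mem_subgroupOf.2 (hU.cent ⟨s.2, mem_centralizer_iff.2 fun x hx => ?_⟩)
      exact congrArg Subtype.val (mem_centralizer_iff.1 hs ⟨x, hU.le hx⟩ (mem_subgroupOf.2 hx))
  refine ⟨?_, hab⟩
  by_contra hel
  push Not at hel
  obtain ⟨x, hx, hxx⟩ := hel
  obtain ⟨y, hyN, hyo, hyC⟩ := hU.act
  have hyx : ∀ {g}, g ∈ U → y * g * y⁻¹ ∈ U := fun {g} hg => (mem_normalizer_iff.1 hyN g).1 hg
  have hfix : ∀ L : Subgroup G, L ≤ U → Nat.card U ≤ 2 * Nat.card L → (∀ l ∈ L, y * l = l * y) → False :=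
    fun L h1 h2 h3 => hyC (mem_centralizer_iff.2 fun g hg =>
      (fix_index_two hU.pgroup h1 h2 hyN hyo h3 g hg).symm)
  -- the elements of order at most two and the squares
  let K : Subgroup G :=
    { carrier := {g | g ∈ U ∧ g * g = 1}
      one_mem' := ⟨one_mem _, one_mul 1⟩
      mul_mem' := fun {p q} hp hq => ⟨mul_mem hp.1 hq.1, by
        rw [mul_assoc, ← mul_assoc q p q, hab q hq.1 p hp.1, mul_assoc p q q, hq.2, mul_one, hp.2]⟩
      inv_mem' := fun {p} hp => ⟨inv_mem hp.1, by rw [← mul_inv_rev, hp.2, inv_one]⟩ }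
  have hKU : K ≤ U := fun g hg => hg.1
  have hKlt : Nat.card K ≤ 4 := by
    have := double_le (S := S) hU.le (lt_of_le_of_ne hKU fun e => hxx (e.ge hx).2)
    omega
  have hyK : y ∈ normalizer (K : Set G) := by
    refine mem_normalizer_fintype fun g hg => ⟨hyx hg.1, ?_⟩
    rw [show y * g * y⁻¹ * (y * g * y⁻¹) = y * (g * g) * y⁻¹ by group, hg.2, mul_one, mul_inv_cancel]
  obtain ⟨e, he, he1, hye⟩ : ∃ e ∈ K, e ≠ 1 ∧ y * e = e * y := by
    obtain ⟨f, hf, hf1, hf2⟩ : ∃ f ∈ K, f ≠ 1 ∧ ∃ g ∈ U, g * g = f := by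
      by_cases h4 : x * x * (x * x) = 1
      · exact ⟨x * x, ⟨mul_mem hx hx, h4⟩, hxx, x, hx, rfl⟩
      · refine ⟨x * x * (x * x), ⟨mul_mem (mul_mem hx hx) (mul_mem hx hx), ?_⟩, h4, x * x, mul_mem hx hx, rfl⟩
        have h9 := pow_card_eq_one' (x := (⟨x, hx⟩ : U))
        rw [h8] at h9
        have := congrArg Subtype.val h9
        simpa [pow_succ, mul_assoc] using this
    -- all squares of order two agree
    by_cases hK2 : Nat.card K ≤ 2
    · exact ⟨f, hf, hf1, fix_two hK2 hyK f hf⟩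
    have hiK : K.relIndex U = 2 := rel_two hKU (by
      obtain ⟨i, hi⟩ := IsPGroup.iff_card.1 (hU.pgroup.to_le hKU)
      have h2i : i = 2 := by
        rw [hi] at hKlt hK2
        have : i ≤ 2 := by
          by_contra hh
          have := Nat.pow_le_pow_right (show 0 < 2 by norm_num) (show 3 ≤ i by omega)
          omega
        interval_cases i <;> omega
      rw [hi, h2i, h8]; norm_num)
    obtain ⟨g, hg, rfl⟩ := hf2
    have hgK : g ∉ K := fun h => hf1 h.2
    have hgy : y * g * y⁻¹ ∉ K := fun h => hgK (by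
      have := (mem_normalizer_iff.1 hyK g).2 h
      exact this)
    obtain ⟨k, hk, hk'⟩ : ∃ k ∈ K, y * g * y⁻¹ = g * k :=
      ⟨g⁻¹ * (y * g * y⁻¹), (rel_mul hiK (inv_mem hg) (hyx hg)).2 (iff_of_false
        (fun h => hgK (inv_mem_iff.1 h)) hgy), by group⟩
    refine ⟨g * g, hf, hf1, ?_⟩
    refine mul_inv_eq_iff_eq_mul.1 ?_
    rw [show y * (g * g) * y⁻¹ = y * g * y⁻¹ * (y * g * y⁻¹) by group, hk', mul_assoc g k (g * k),
      ← mul_assoc k g k, hab k hk.1 g hg, mul_assoc g k k, hk.2, mul_one]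
  exact hyC (mem_centralizer_iff.2 fun g hg => (fix_of_invols hU.pgroup hab hyN hyo
    (fun k hk hk2 => fix_four (hU.pgroup.to_le hKU) hKlt hyK hyo he he1 hye k ⟨hk, hk2⟩) g hg).symm)

theorem Ess.solvable : Group.IsSolvable (normalizer (U : Set G)) := by
  haveI : Fact (Nat.Prime 2) := ⟨Nat.prime_two⟩
  by_contra hns
  set N := normalizer (U : Set G)
  obtain ⟨u, hu⟩ := IsPGroup.iff_card.1 hU.pgroup
  haveI : (U.subgroupOf N).Normal := Subgroup.normal_in_normalizer
  have hUsolv : Group.IsSolvable (U.subgroupOf N) := by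
    haveI := hU.pgroup.isNilpotent
    exact Group.isSolvable_of_isSolvable_injective
      (f := (subgroupOfEquivOfLe (le_normalizer : U ≤ N)).toMonoidHom) (MulEquiv.injective _)
  have hq : ¬ Group.IsSolvable (N ⧸ U.subgroupOf N) := fun hh =>
    hns ((Group.isSolvable_iff_subgroup_quotient _).2 ⟨hUsolv, hh⟩)
  have h1 : Len u (U.subgroupOf N) :=
    len_two_group (by rw [Nat.card_congr (subgroupOfEquivOfLe (le_normalizer : U ≤ N)).toEquiv, hu])
  have h2 := Len.comap (QuotientGroup.mk' (U.subgroupOf N)) (QuotientGroup.mk'_surjective _)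
    (m := u) (by rwa [QuotientGroup.ker_mk']) (len_four _ _ rfl hq)
  rw [comap_top] at h2
  have h3 := hb.toHyp.proper_len h2.of_top (hU.N_ne_top hb)
  have h4 := hU.eight_le hb
  have := Nat.pow_le_pow_right (show 0 < 2 by norm_num) (show u ≤ 2 by omega)
  omega

end Cfsg.Agent.Fus.LenSeven
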