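import Cfsg.Agent.Lib.Fus.LengthSeven.Types
import Cfsg.Agent.Lib.Fus.LengthEight.EssAbelian

/-!
# Essential subgroups of order 16 (for S3249)
-/

set_option autoImplicit false
set_option linter.style.haveILetI false

namespace Cfsg.Agent.Fus.LenSeven

open Subgroup LenEight

universe u

variable {G : Type u} [Group G] [Finite G] {S : Sylow 2 G} {U : Subgroup G}

/-- An element of odd order of the normalizer fixes the centre of a nonabelian group of order 16. -/
theorem fix_center {H : Subgroup G} (hH : IsPGroup 2 H) (h16 : Nat.card H = 16)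
    (hna : ∃ p ∈ H, ∃ q ∈ H, p * q ≠ q * p) {y : G} (hy : y ∈ normalizer (H : Set G)) (hyo : Odd (orderOf y))
    {g : G} (hg : g ∈ H) (hgc : ∀ x ∈ H, x * g = g * x) : y * g = g * y := by
  haveI : Fact (Nat.Prime 2) := ⟨Nat.prime_two⟩
  obtain ⟨Z, hZd⟩ : ∃ Z, Z = H ⊓ centralizer (H : Set G) := ⟨_, rfl⟩
  have hmem : ∀ {r}, r ∈ Z ↔ r ∈ H ∧ ∀ x ∈ H, x * r = r * x := by
    intro r; rw [hZd, mem_inf, mem_centralizer_iff]; rfl
  have hZH : Z ≤ H := hZd ▸ inf_le_left
  have hyZ : y ∈ normalizer (Z : Set G) := by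
    refine mem_normalizer_fintype fun r hr => ?_
    obtain ⟨hrH, hrc⟩ := hmem.1 hr
    refine hmem.2 ⟨(mem_normalizer_iff.1 hy r).1 hrH, fun x hx => ?_⟩
    have h := hrc (y⁻¹ * x * y) (by simpa using (mem_normalizer_iff.1 (inv_mem hy) x).1 hx)
    have := congrArg (fun t => y * t * y⁻¹) h
    simpa [mul_assoc] using this
  obtain ⟨i, hi⟩ := IsPGroup.iff_card.1 (hH.to_le hZH)
  rcases (show i ≤ 1 ∨ i = 2 ∨ 3 ≤ i by omega) with h | h | h
  · exact fix_two (hi ▸ (Nat.pow_le_pow_right two_pos h).trans (by norm_num)) hyZ g (hmem.2 ⟨hg, hgc⟩)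
  · subst h
    obtain ⟨a, ha, b, hb, hab⟩ := hna
    have haZ : a ∉ Z := fun e => hab ((hmem.1 e).2 b hb).symm
    haveI : (Z.subgroupOf H).Normal := ⟨fun r hr x => by
      rw [mem_subgroupOf, coe_mul, coe_mul, coe_inv, (hmem.1 (mem_subgroupOf.1 hr)).2 x x.2, mul_inv_cancel_right]
      exact mem_subgroupOf.1 hr⟩
    have hq : Nat.card (↥H ⧸ Z.subgroupOf H) = 2 ^ 2 := by
      have h1 := (Z.subgroupOf H).card_eq_card_quotient_mul_card_subgroup
      rw [Nat.card_congr (subgroupOfEquivOfLe hZH).toEquiv, hi, h16] at h1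
      omega
    have hcomm : ∀ {p q}, p ∈ H → q ∈ H → p * q * p⁻¹ * q⁻¹ ∈ Z := by
      intro p q hp hq'
      have h1 : ((⟨p, hp⟩ * ⟨q, hq'⟩ * ⟨p, hp⟩⁻¹ * ⟨q, hq'⟩⁻¹ : H) : ↥H ⧸ Z.subgroupOf H) = 1 := by
        rw [QuotientGroup.mk_mul, QuotientGroup.mk_mul, QuotientGroup.mk_mul,
          (IsPGroup.commGroupOfCardEqPrimeSq hq).mul_comm ((⟨p, hp⟩ : H) : ↥H ⧸ Z.subgroupOf H) _,
          QuotientGroup.mk_inv, QuotientGroup.mk_inv, mul_inv_cancel_right, mul_inv_cancel]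
      exact mem_subgroupOf.1 ((QuotientGroup.eq_one_iff _).1 h1)
    obtain ⟨L, hLd⟩ : ∃ L, L = Z ⊔ zpowers a := ⟨_, rfl⟩
    have hLH : L ≤ H := hLd ▸ sup_le hZH (zpowers_le.2 ha)
    have hLc : ∀ l ∈ L, a * l = l * a := by
      have : L ≤ centralizer ({a} : Set G) := hLd ▸ sup_le
        (fun r hr => mem_centralizer_singleton_iff.2 ((hmem.1 hr).2 a ha).symm)
        (zpowers_le.2 (mem_centralizer_singleton_iff.2 rfl))
      exact fun l hl => (mem_centralizer_singleton_iff.1 (this hl)).symm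
    have hLne : L ≠ H := fun e => hab (hLc b (e ▸ hb))
    have hLlt : Z < L := lt_of_le_of_ne (hLd ▸ le_sup_left) fun e =>
      haZ (e.ge (hLd ▸ mem_sup_right (mem_zpowers a)))
    have hL8 : Nat.card L = 8 := by
      obtain ⟨j, hj⟩ := IsPGroup.iff_card.1 (hH.to_le hLH)
      have h1 : Nat.card Z < Nat.card L := Set.Finite.card_lt_card (Set.toFinite _) (SetLike.coe_ssubset_coe.2 hLlt)
      have h2 : Nat.card L < Nat.card H :=
        Set.Finite.card_lt_card (Set.toFinite _) (SetLike.coe_ssubset_coe.2 (lt_of_le_of_ne hLH hLne))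
      rw [hi, hj] at h1
      rw [hj, h16] at h2
      have h3 := (Nat.pow_lt_pow_iff_right (show 1 < 2 by norm_num)).1 h1
      have h4 : j < 4 := (Nat.pow_lt_pow_iff_right (show 1 < 2 by norm_num)).1 (show 2 ^ j < 2 ^ 4 by norm_num; exact h2)
      rw [hj, show j = 3 by omega]; norm_num
    have hiL := rel_two hLH (by rw [h16, hL8])
    have hiZ := rel_two (hLlt.le) (by rw [hL8, hi]; norm_num)
    have hbL : b ∉ L := fun e => hab (hLc b e)
    obtain ⟨c, hc⟩ : ∃ c, c = b * a * b⁻¹ * a⁻¹ := ⟨_, rfl⟩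
    have hcZ : c ∈ Z := hc ▸ hcomm hb ha
    have ha2 : a * a ∈ Z := rel_sq hiZ (hLd ▸ mem_sup_right (mem_zpowers a))
    have hba : b * a * b⁻¹ = c * a := by rw [hc]; group
    have hcc : c * c = 1 := by
      have h1 : b * (a * a) * b⁻¹ = a * a := mul_inv_eq_iff_eq_mul.2 ((hmem.1 ha2).2 b hb)
      rw [show b * (a * a) * b⁻¹ = b * a * b⁻¹ * (b * a * b⁻¹) by group, hba, mul_assoc c a (c * a),
        ← mul_assoc a c a, (hmem.1 hcZ).2 a ha, mul_assoc c a a, ← mul_assoc c c] at h1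
      exact mul_eq_right.1 h1
    have hc1 : c ≠ 1 := fun e => hab (by
      rw [e, eq_comm, mul_inv_eq_one, mul_inv_eq_iff_eq_mul] at hc
      exact hc.symm)
    have hyc : y * c * y⁻¹ = c := by
      have hk := comm_const hLH hiL hiZ hLlt.le (fun r hr v hv => (hmem.1 hr).2 v hv) (hLd ▸ mem_sup_right (mem_zpowers a))
        haZ hb hbL hc hcc hcZ ((mem_normalizer_iff.1 hy b).1 hb) ((mem_normalizer_iff.1 hy a).1 ha) (fun e => hab (by
          have := congrArg (fun t => y⁻¹ * t * y) e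
          simpa [mul_assoc] using this.symm))
      refine Eq.trans ?_ hk
      rw [hc]
      group
    exact fix_four (hH.to_le hZH) (by rw [hi]; norm_num) hyZ hyo hcZ hc1 (mul_inv_eq_iff_eq_mul.1 hyc) g
      (hmem.2 ⟨hg, hgc⟩)
  · exfalso
    obtain ⟨a, ha, b, hb, hab⟩ := hna
    have h8 : 8 ≤ Nat.card Z := hi ▸ (by norm_num : 8 = 2 ^ 3).trans_le (Nat.pow_le_pow_right two_pos h)
    have hne : Z ≠ H := fun e => hab ((hmem.1 (e ▸ ha)).2 b hb).symm
    have hz : Nat.card H = 2 * Nat.card Z := by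
      have hlt := lt_of_le_of_ne hZH hne
      obtain ⟨m, hm⟩ := card_dvd_of_le hZH
      have : m ≠ 1 := fun e => hne (eq_of_le_of_card_ge hZH (by rw [hm, e, mul_one]))
      have : m ≠ 0 := fun e => by rw [e, mul_zero] at hm; omega
      rw [h16] at hm
      have : Nat.card Z * 2 ≤ 16 := hm ▸ Nat.mul_le_mul_left _ (show 2 ≤ m by omega)
      omega
    have hiZ := rel_two hZH hz
    have haZ : a ∉ Z := fun e => hab ((hmem.1 e).2 b hb).symm
    have hbZ : b ∉ Z := fun e => hab ((hmem.1 e).2 a ha)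
    have hm : a⁻¹ * b ∈ Z := (rel_mul hiZ (inv_mem ha) hb).2 (iff_of_false (fun e => haZ (inv_mem_iff.1 e)) hbZ)
    have := (hmem.1 hm).2 a ha
    refine hab ?_
    calc a * b = a * (a * (a⁻¹ * b)) := by group
      _ = a * (a⁻¹ * b * a) := by rw [this]
      _ = b * a := by group

variable (hb : Big G S) (hU : Ess S U)
include hb hU

/-- An element of odd order centralising a large part of a centralised half. -/
theorem Ess.exists_fix (h32 : Nat.card (nS S U) = 32) (h16 : Nat.card U = 16) {b : G} (hbT : b ∈ nS S U)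
    (hbU : b ∉ U) {H : Subgroup G} (hHU : H ≤ U) (hH : Nat.card H = 8) (hbc : ∀ h ∈ H, b * h = h * b) :
    ∃ y ∈ normalizer (U : Set G), Odd (orderOf y) ∧ y ≠ 1 ∧
      ∃ C ≤ H, 4 ≤ Nat.card C ∧ ∀ c ∈ C, y * c = c * y := by
  haveI : Fact (Nat.Prime 2) := ⟨Nat.prime_two⟩
  obtain ⟨k, hk, hk2, hN, -⟩ := hU.prime_part hb h32
  set N := normalizer (U : Set G) with hNd
  haveI hUn : (U.subgroupOf N).Normal := Subgroup.normal_in_normalizer
  have hQ : Nat.card (↥N ⧸ U.subgroupOf N) = 2 * k := by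
    have h1 := (U.subgroupOf N).card_eq_card_quotient_mul_card_subgroup
    rw [Nat.card_congr (subgroupOfEquivOfLe (le_normalizer : U ≤ N)).toEquiv, h16, hN] at h1
    omega
  set B : ↥N ⧸ U.subgroupOf N := QuotientGroup.mk ⟨b, hbT.2⟩ with hB
  have hiU : U.relIndex (nS S U) = 2 := rel_two hU.le_nS (by rw [h32, h16])
  have hBB : B * B = 1 := by
    rw [hB, ← QuotientGroup.mk_mul, QuotientGroup.eq_one_iff]
    exact mem_subgroupOf.2 (rel_sq hiU hbT)
  have hB1 : B ≠ 1 := fun e => hbU (mem_subgroupOf.1 ((QuotientGroup.eq_one_iff _).1 e))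
  obtain ⟨g, hg⟩ : ∃ g, g * B * g⁻¹ ≠ B := by
    by_contra! hall
    have hle : ∀ x : ↥(normalizer (U : Set G)), x ∈ Cfsg.pPrimePCore 2 ↥(normalizer (U : Set G)) ↔
        (x : G) ∈ U := by
      intro x
      rw [hU.map_core x.2, sup_eq_left.2 (hU.cent_le hb h32)]
    haveI hP : (Cfsg.pPrimePCore 2 ↥N).Normal := by
      haveI : (Cfsg.pPrimeCore 2 ↥N).Normal := Grp.pPrimeCore_isNormal
      exact (Grp.pCore_isNormal (p := 2)).comap _
    obtain ⟨β, hβ⟩ : ∃ β, β = (QuotientGroup.mk ⟨b, hbT.2⟩ : ↥N ⧸ Cfsg.pPrimePCore 2 ↥N) := ⟨_, rfl⟩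
    have hR : (zpowers β).Normal := by
      refine ⟨fun r hr x => ?_⟩
      obtain ⟨j, rfl⟩ := mem_zpowers_iff.1 hr
      rw [← conj_zpow]
      refine zpow_mem ?_ _
      obtain ⟨n, rfl⟩ := QuotientGroup.mk_surjective x
      have := hall (QuotientGroup.mk n)
      rw [hB, ← QuotientGroup.mk_mul, ← QuotientGroup.mk_inv, ← QuotientGroup.mk_mul, QuotientGroup.eq,
        mem_subgroupOf] at this
      have e : (QuotientGroup.mk n * β * (QuotientGroup.mk n)⁻¹ : ↥N ⧸ Cfsg.pPrimePCore 2 ↥N) = β := by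
        rw [hβ, ← QuotientGroup.mk_mul, ← QuotientGroup.mk_inv, ← QuotientGroup.mk_mul, QuotientGroup.eq, hle]
        exact this
      rw [e]
      exact mem_zpowers β
    have hp : IsPGroup 2 (zpowers β) := by
      refine IsPGroup.of_card (n := 1) ?_
      rw [Nat.card_zpowers, pow_one]
      refine orderOf_eq_prime ?_ fun e => hbU ((hle _).1 ((QuotientGroup.eq_one_iff _).1 (hβ ▸ e)))
      rw [hβ, sq, ← QuotientGroup.mk_mul, QuotientGroup.eq_one_iff, hle]
      exact rel_sq hiU hbT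
    have h1 := Ess.core_bot (U := U) _ hR hp
    rw [zpowers_eq_bot] at h1
    exact hbU ((hle _).1 ((QuotientGroup.eq_one_iff _).1 (hβ ▸ h1)))
  obtain ⟨⟨g, hgN⟩, rfl⟩ := QuotientGroup.mk_surjective g
  obtain ⟨H1, hH1⟩ : ∃ H1, H1 = H.map (MulAut.conj g).toMonoidHom := ⟨_, rfl⟩
  set a := b * (g * b * g⁻¹) with had
  obtain ⟨i, r, hr, hir⟩ := Nat.exists_eq_two_pow_mul_odd (orderOf_pos a).ne'
  have hno : a ^ 2 ^ i ∉ U := by
    intro hm
    refine exists_pair_two hQ (hk.odd_of_ne_two hk2) hBB hB1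
      (B' := QuotientGroup.mk ⟨g, hgN⟩ * B * (QuotientGroup.mk ⟨g, hgN⟩)⁻¹) ?_ ?_ hg i ?_
    · rw [conj_mul, hBB, mul_one, mul_inv_cancel]
    · exact fun e => hB1 (conj_eq_one_iff.1 e)
    · rw [hB, ← QuotientGroup.mk_inv, ← QuotientGroup.mk_mul, ← QuotientGroup.mk_mul, ← QuotientGroup.mk_mul,
        ← QuotientGroup.mk_pow, QuotientGroup.eq_one_iff, mem_subgroupOf]
      simpa [had, mul_assoc] using hm
  have hbN : b ∈ N := hbT.2
  have haN : a ∈ N := mul_mem hbN (mul_mem (mul_mem hgN hbN) (inv_mem hgN))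
  refine ⟨a ^ 2 ^ i, pow_mem haN _, ?_,
    fun e => hno (e ▸ one_mem U), H ⊓ H1, inf_le_left, ?_, fun c hc => ?_⟩
  · exact hr.of_dvd_nat (orderOf_dvd_of_pow_eq_one (by rw [← pow_mul, ← hir, pow_orderOf_eq_one]))
  · have hH1U : H1 ≤ U := by
      rintro _ hx
      rw [hH1] at hx
      obtain ⟨x, hx, rfl⟩ := hx
      exact (mem_normalizer_iff.1 hgN x).1 (hHU hx)
    by_cases e : H1 = H
    · rw [e, inf_idem, hH]; norm_num
    · have := inf_card hHU hH1U (by rw [h16, hH]) (by rw [hH1, card_conj, h16, hH]) (Ne.symm e)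
      omega
  · obtain ⟨hc0, hc1⟩ := hc
    rw [hH1] at hc1
    obtain ⟨d, hd, rfl⟩ := hc1
    have h1 : Commute b ((MulAut.conj g).toMonoidHom d) := hbc _ hc0
    have h2 : Commute (g * b * g⁻¹) ((MulAut.conj g).toMonoidHom d) :=
      (show Commute b d from hbc d hd).map (MulAut.conj g).toMonoidHom
    exact ((h1.mul_left h2).pow_left _).eq

/-- With a Sylow subgroup of order 64 there is no essential subgroup of order 16. -/
theorem Ess.not_sixteen (h6 : Nat.card (S : Subgroup G) = 2 ^ 6) : Nat.card U ≠ 16 := by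
  intro h16
  haveI : Fact (Nat.Prime 2) := ⟨Nat.prime_two⟩
  have h32 : Nat.card (nS S U) = 32 := ((hU.eight_or hb).resolve_left fun e => by omega).2
  by_cases hna : ∃ p ∈ U, ∃ q ∈ U, p * q ≠ q * p
  · obtain ⟨z, hzS, hz1, -, hzc⟩ : ∃ z ∈ (S : Subgroup G), z ≠ 1 ∧ True ∧
        ∀ x ∈ (S : Subgroup G), x * z = z * x := by
      haveI : Nontrivial (S : Subgroup G) := Finite.one_lt_card_iff_nontrivial.1 (by rw [h6]; norm_num)
      haveI := S.isPGroup'.center_nontrivial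
      obtain ⟨z, hz⟩ := exists_ne (1 : center (S : Subgroup G))
      exact ⟨((z : (S : Subgroup G)) : G), (z : (S : Subgroup G)).2, fun e => hz (Subtype.ext (Subtype.ext e)),
        trivial, fun x hx => congrArg Subtype.val (mem_center_iff.1 z.2 ⟨x, hx⟩)⟩
    obtain ⟨y, hyN, hyo, hyC⟩ := hU.act
    have := fix_center hU.pgroup h16 hna hyN hyo (hU.center_le hzS hzc) fun x hx => hzc x (hU.le hx)
    refine not_mem_of_odd S.isPGroup' hyo (fun e => hyC (e ▸ one_mem _)) ?_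
    rw [← hb.centralizer_eq h6 hz1 hzc]
    exact mem_centralizer_singleton_iff.2 this
  · push Not at hna
    obtain ⟨T, hTd⟩ : ∃ T, T = nS S U := ⟨_, rfl⟩
    rw [← hTd] at h32
    have hTS : T ≤ (S : Subgroup G) := hTd ▸ inf_le_left
    have hlt : T < (S : Subgroup G) := lt_of_le_of_ne hTS fun e => by rw [e, h6] at h32; norm_num at h32
    obtain ⟨x, hxS, hxT, hxN⟩ := exists_normalizing (S := S) le_rfl hlt
    have hiT : T.relIndex (S : Subgroup G) = 2 := rel_two hTS (by rw [h6, h32]; norm_num)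
    have hx2 : x * x ∈ T := rel_sq hiT hxS
    have hUT : U ≤ T := hTd ▸ hU.le_nS
    obtain ⟨V, hV⟩ : ∃ V, V = U.map (MulAut.conj x).toMonoidHom := ⟨_, rfl⟩
    have hVT : V ≤ T := by
      rw [hV]; rintro _ ⟨r, hr, rfl⟩; exact (mem_normalizer_iff.1 hxN r).1 (hUT hr)
    have hVab : ∀ p ∈ V, ∀ q ∈ V, p * q = q * p := by
      rw [hV]; rintro _ ⟨p, hp, rfl⟩ _ ⟨q, hq, rfl⟩
      rw [← map_mul, ← map_mul, hna p hp q hq]
    have hVU : V ≠ U := fun e => hxT (hTd ▸ ⟨hxS, mem_normalizer_fintype fun r hr =>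
      e ▸ hV ▸ mem_map_of_mem _ hr⟩)
    have hV16 : Nat.card V = 16 := by rw [hV, card_conj, h16]
    have hI := inf_card hUT hVT (by rw [h32, h16]) (by rw [h32, hV16]) (Ne.symm hVU)
    have hI8 : Nat.card ↥(U ⊓ V) = 8 := by omega
    obtain ⟨b, hbV, hbU⟩ : ∃ b ∈ V, b ∉ U := by
      by_contra! hle
      exact hVU (eq_of_le_of_card_ge hle (by omega))
    have hbc : ∀ r ∈ U ⊓ V, b * r = r * b := fun r hr => hVab b hbV r hr.2
    obtain ⟨y, hyN, hyo, hy1, C, hC, hC4, hyC⟩ :=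
      hU.exists_fix hb (hTd ▸ h32) h16 (hTd ▸ hVT hbV) hbU inf_le_left hI8 hbc
    -- `T` centralises the intersection
    have hiU : U.relIndex T = 2 := rel_two hUT (by rw [h32, h16])
    have hTI : ∀ t ∈ T, ∀ r ∈ U ⊓ V, t * r = r * t := by
      intro t ht r hr
      by_cases htU : t ∈ U
      · exact hna t htU r hr.1
      · have hm : b⁻¹ * t ∈ U := (rel_mul hiU (inv_mem (hVT hbV)) ht).2
          (iff_of_false (fun e => hbU (inv_mem_iff.1 e)) htU)
        calc t * r = b * ((b⁻¹ * t) * r) := by group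
          _ = b * (r * (b⁻¹ * t)) := by rw [hna _ hm r hr.1]
          _ = (b * r) * (b⁻¹ * t) := by group
          _ = r * t := by rw [hbc r hr]; group
    have hxx : ∀ r ∈ U ⊓ V, x * (x * r * x⁻¹) * x⁻¹ = r := fun r hr => by
      calc x * (x * r * x⁻¹) * x⁻¹ = (x * x) * r * (x * x)⁻¹ := by group
        _ = r := by rw [hTI _ hx2 r hr, mul_inv_cancel_right]
    have hxI : ∀ r ∈ U ⊓ V, x * r * x⁻¹ ∈ U ⊓ V := by
      rintro r ⟨hrU, hrV⟩
      rw [hV] at hrV ⊢
      refine ⟨?_, mem_map_of_mem _ hrU⟩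
      obtain ⟨q, hq, rfl⟩ := hrV
      show x * (x * q * x⁻¹) * x⁻¹ ∈ U
      rw [show x * (x * q * x⁻¹) * x⁻¹ = (x * x) * q * (x * x)⁻¹ by group]
      exact (mem_normalizer_iff.1 (hTd ▸ hx2 : x * x ∈ nS S U).2 q).1 hq
    obtain ⟨D, hD⟩ : ∃ D, D = C ⊓ C.map (MulAut.conj x).toMonoidHom := ⟨_, rfl⟩
    have hCI : C.map (MulAut.conj x).toMonoidHom ≤ U ⊓ V := by
      rintro _ ⟨r, hr, rfl⟩; exact hxI r (hC hr)
    have hD1 : D ≠ ⊥ := by
      intro e
      have hnorm : C ≤ normalizer ((C.map (MulAut.conj x).toMonoidHom : Subgroup G) : Set G) := fun r hr =>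
        mem_normalizer_fintype fun q hq => by
          rw [hna r (hC hr).1 q (hCI hq).1, mul_inv_cancel_right]; exact hq
      have h1 := Grp.card_sup_mul_card_inf hnorm
      rw [← hD, e, card_bot, mul_one, card_conj] at h1
      have h2 := card_le_of_le (sup_le hC hCI)
      rw [hI8, h1] at h2
      nlinarith
    obtain ⟨e, heD, he1, hee⟩ : ∃ e ∈ D, e ≠ 1 ∧ e * e = 1 := by
      haveI : Nontrivial D := (nontrivial_iff_ne_bot _).2 hD1
      obtain ⟨j, hj⟩ := card_two_pow (S := S) (H := D)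
        (hD ▸ inf_le_left.trans (hC.trans (inf_le_left.trans hU.le)))
      obtain ⟨e, he⟩ := exists_prime_orderOf_dvd_card' (G := D) 2 (by
        rw [hj]; refine dvd_pow_self 2 fun e => ?_
        have := Finite.one_lt_card (α := D); rw [hj, e] at this; simp at this)
      refine ⟨e, e.2, fun h => ?_, ?_⟩
      · rw [← Subgroup.orderOf_coe, h, orderOf_one] at he; omega
      · have := congrArg (fun d : D => (d : G)) (pow_orderOf_eq_one e)
        rw [he] at this
        simpa [sq] using this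
    have hDinv : ∀ r ∈ D, x * r * x⁻¹ ∈ D := by
      intro r hr
      rw [hD] at hr ⊢
      refine ⟨?_, mem_map_of_mem _ hr.1⟩
      obtain ⟨q, hq, rfl⟩ := hr.2
      show x * (x * q * x⁻¹) * x⁻¹ ∈ C
      rw [hxx q (hC hq)]
      exact hq
    have hDI : ∀ r ∈ D, r ∈ C ∧ r ∈ U ⊓ V := fun r hr => by rw [hD] at hr; exact ⟨hr.1, hC hr.1⟩
    obtain ⟨r, hrD, hr1, hrx⟩ : ∃ r ∈ D, r ≠ 1 ∧ x * r * x⁻¹ = r := by
      by_cases h : x * e * x⁻¹ = e
      · exact ⟨e, heD, he1, h⟩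
      refine ⟨e * (x * e * x⁻¹), mul_mem heD (hDinv e heD), fun h1 => h ?_, ?_⟩
      · rw [← inv_eq_of_mul_eq_one_right h1, inv_eq_of_mul_eq_one_right hee]
      · rw [← conj_mul, hxx e (hDI e heD).2]
        exact hna _ (hDI _ (hDinv e heD)).2.1 e (hDI e heD).2.1
    refine not_mem_of_odd S.isPGroup' hyo hy1 ?_
    rw [← hb.centralizer_eq h6 hr1 fun s hs => ?_]
    · exact mem_centralizer_singleton_iff.2 (hyC r (hDI r hrD).1)
    by_cases hsT : s ∈ T
    · exact hTI s hsT r (hDI r hrD).2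
    have hm : x⁻¹ * s ∈ T := (rel_mul hiT (inv_mem hxS) hs).2
      (iff_of_false (fun e => hxT (inv_mem_iff.1 e)) hsT)
    calc s * r = x * ((x⁻¹ * s) * r) := by group
      _ = x * (r * (x⁻¹ * s)) := by rw [hTI _ hm r (hDI r hrD).2]
      _ = (x * r * x⁻¹) * s := by group
      _ = r * s := by rw [hrx]

end Cfsg.Agent.Fus.LenSeven
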