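import Cfsg.Agent.Lib.Fus.LengthSeven.DStruct

/-!
# Three classes of elementary essential subgroups; no Sylow subgroup of order 64 (for S3249)
-/

set_option autoImplicit false
set_option linter.style.haveILetI false

namespace Cfsg.Agent.Fus.LenSeven

open Subgroup LenEight

universe u

variable {G : Type u} [Group G] [Finite G] {S : Sylow 2 G}

theorem Ety.not_mem_of_moves {U M : Subgroup G} {c w v : G} (he : Ety S U c w v)
    (hi : M.relIndex (S : Subgroup G) = 2) (hm : Moves U M) : v ∉ M := fun hv =>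
  he.not_moves (der_le hi) hv hm

/-- An outer element in the class of a moving outer element. -/
theorem Ety.no_glue (hb : Big G S) {U1 U2 M : Subgroup G} {c1 w1 v1 c2 w2 v2 : G} (hU1 : Ess S U1)
    (he1 : Ety S U1 c1 w1 v1) (hU2 : Ess S U2) (he2 : Ety S U2 c2 w2 v2) (hi : M.relIndex (S : Subgroup G) = 2)
    (hm : Moves U2 M) (hv1 : v1 ∈ M) {x : G} (hx : x ∈ U1) (hxI : x ∉ ({1, c1, w1, c1 * w1} : Set G))
    (hd : x * v2⁻¹ ∈ ⁅(S : Subgroup G), (S : Subgroup G)⁆) : False := by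
  obtain ⟨s, hs, hsx⟩ := (he2.class_eq hb hU2 he2.hv he2.vI).2 _ hd
  rw [inv_mul_cancel_right] at hsx
  refine he1.not_moves (der_le hi) hv1 (moves_conj hi hU2.le hs ?_ hm)
  ext g
  rw [mem_conj, ← he2.cent_outer hU2 he2.hv he2.vI, ← he1.cent_outer hU1 hx hxI, mem_inf, mem_inf,
    mem_centralizer_singleton_iff, mem_centralizer_singleton_iff, ← hsx]
  refine and_congr ⟨fun h => mul_mem (mul_mem (inv_mem hs) h) hs, fun h => ?_⟩ ⟨fun h => ?_, fun h => ?_⟩
  · simpa [mul_assoc] using mul_mem (mul_mem hs h) (inv_mem hs)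
  · have := congrArg (fun t => s⁻¹ * t * s) h
    simpa [mul_assoc] using this
  · have := congrArg (fun t => s * t * s⁻¹) h
    simpa [mul_assoc] using this

/-- If elementary essential subgroups move every half, the fixed involution is a central commutator. -/
theorem Ety.three (hb : Big G S) {U : Subgroup G} {c w v : G} (hU : Ess S U) (he : Ety S U c w v)
    (h32 : 32 ≤ Nat.card (S : Subgroup G))
    (hmove : ∀ M : Subgroup G, M.relIndex (S : Subgroup G) = 2 →
      ∃ (U2 : Subgroup G) (c2 w2 v2 : G), Ess S U2 ∧ Ety S U2 c2 w2 v2 ∧ Moves U2 M) :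
    c ∈ ⁅(S : Subgroup G), (S : Subgroup G)⁆ ∧ ∀ s ∈ (S : Subgroup G), s * c = c * s := by
  set D := ⁅(S : Subgroup G), (S : Subgroup G)⁆ with hDd
  have hcard := (he.class_eq hb hU he.hv he.vI).1
  rw [← hDd] at hcard
  have hDS : D ≤ (S : Subgroup G) := commutator_le_S
  have hD0 : 0 < Nat.card D := Nat.card_pos
  have hv1S := hU.le he.hv
  have hv12 := he.sq v he.hv
  -- the first half
  set J1 := D ⊔ zpowers v with hJ1
  have hJ1S : J1 ≤ (S : Subgroup G) := sup_le hDS (zpowers_le.2 hv1S)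
  have hn0 : ∀ s ∈ (S : Subgroup G), ∀ h ∈ D, s * h * s⁻¹ ∈ D := fun s hs h hh => conj_mem_of_der hDS le_rfl hs hh
  have hc1 := card_sup_invol hv12 (hn0 v hv1S)
  rw [← hJ1] at hc1
  obtain ⟨M1, hM1, -, hi1⟩ := exists_half hJ1S (fun e => by rw [e] at hc1; omega)
  obtain ⟨U2, c2, w2, v2, hU2, he2, hm2⟩ := hmove M1 hi1
  have hv2M := he2.not_mem_of_moves hi1 hm2
  have hv2S := hU2.le he2.hv
  have hv22 := he2.sq v2 he2.hv
  -- the second half
  set J2 := J1 ⊔ zpowers v2 with hJ2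
  have hJ2S : J2 ≤ (S : Subgroup G) := sup_le hJ1S (zpowers_le.2 hv2S)
  have hn1 : ∀ h ∈ J1, v2 * h * v2⁻¹ ∈ J1 := fun h hh => conj_mem_of_der hJ1S le_sup_left hv2S hh
  have hc2 := card_sup_invol hv22 hn1
  rw [← hJ2] at hc2
  obtain ⟨M2, hM2, -, hi2⟩ := exists_half hJ2S (fun e => by rw [e] at hc2; omega)
  obtain ⟨U3, c3, w3, v3, hU3, he3, hm3⟩ := hmove M2 hi2
  have hv3M := he3.not_mem_of_moves hi2 hm3
  have hv3S := hU3.le he3.hv
  have hv32 := he3.sq v3 he3.hv
  set J3 := J2 ⊔ zpowers v3 with hJ3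
  have hJ3S : J3 ≤ (S : Subgroup G) := sup_le hJ2S (zpowers_le.2 hv3S)
  have hn2 : ∀ h ∈ J2, v3 * h * v3⁻¹ ∈ J2 := fun h hh =>
    conj_mem_of_der hJ2S (le_sup_left.trans le_sup_left) hv3S hh
  -- the inversions
  have hinv1 : ∀ d ∈ D, v * d * v⁻¹ = d⁻¹ := fun d hd => he.inverts_v hb hU hd
  have hinv2 : ∀ d ∈ D, v2 * d * v2⁻¹ = d⁻¹ := fun d hd => he2.inverts_v hb hU2 hd
  have hinv3 : ∀ d ∈ D, v3 * d * v3⁻¹ = d⁻¹ := fun d hd => he3.inverts_v hb hU3 hd
  have hvD : ∀ g, (∀ d ∈ D, g * d * g⁻¹ = d⁻¹) → g ∉ D := fun g hg hgD => by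
    obtain ⟨d, hd, hd2⟩ := he.exists_not_sq hb hU h32
    have h1 := hg d hd
    rw [he.der_comm hb hU hgD hd, mul_inv_cancel_right] at h1
    exact hd2 (mul_eq_one_iff_eq_inv.2 h1)
  have hcc : ∀ d ∈ D, c * d * c⁻¹ = d := fun d hd => he.cent_I hb hU (by simp) hd
  have hci : ∀ g h : G, (∀ d ∈ D, g * d * g⁻¹ = d) → (∀ d ∈ D, h * d * h⁻¹ = d⁻¹) →
      ∀ d ∈ D, g * h * d * (g * h)⁻¹ = d⁻¹ := fun g h hg hh d hd => by
    rw [show g * h * d * (g * h)⁻¹ = g * (h * d * h⁻¹) * g⁻¹ by group, hh d hd, hg _ (inv_mem hd)]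
  have hii : ∀ g h : G, (∀ d ∈ D, g * d * g⁻¹ = d⁻¹) → (∀ d ∈ D, h * d * h⁻¹ = d⁻¹) →
      ∀ d ∈ D, g * h * d * (g * h)⁻¹ = d := fun g h hg hh d hd => by
    rw [show g * h * d * (g * h)⁻¹ = g * (h * d * h⁻¹) * g⁻¹ by group, hh d hd, hg _ (inv_mem hd), inv_inv]
  -- the three classes generate
  have hJ : J3 = (S : Subgroup G) := by
    refine eq_of_le_of_card_ge hJ3S ?_
    have l1 : D < J1 := lt_of_le_of_ne le_sup_left fun e =>
      hvD v hinv1 (e.ge (mem_sup_right (mem_zpowers v)))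
    have l2 : J1 < J2 := lt_of_le_of_ne le_sup_left fun e => hv2M (hM1 (e.ge (mem_sup_right (mem_zpowers v2))))
    have l3 : J2 < J3 := lt_of_le_of_ne le_sup_left fun e => hv3M (hM2 (e.ge (mem_sup_right (mem_zpowers v3))))
    have := double_le hJ1S l1
    have := double_le hJ2S l2
    have := double_le hJ3S l3
    omega
  have hcent : c * v2 = v2 * c → c * v3 = v3 * c → ∀ s ∈ (S : Subgroup G), s * c = c * s := by
    intro h2 h3 s hs
    have hle : J3 ≤ centralizer ({c} : Set G) := by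
      refine sup_le (sup_le (sup_le ?_ ?_) ?_) ?_
      · exact fun d hd => mem_centralizer_singleton_iff.2 (mul_inv_eq_iff_eq_mul.1 (hcc d hd)).symm
      · exact zpowers_le.2 (mem_centralizer_singleton_iff.2 (he.comm v he.hv c he.hc))
      · exact zpowers_le.2 (mem_centralizer_singleton_iff.2 h2.symm)
      · exact zpowers_le.2 (mem_centralizer_singleton_iff.2 h3.symm)
    exact mem_centralizer_singleton_iff.1 (hle (hJ.ge hs))
  -- a product in `D` may be reordered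
  have hswap : ∀ a b : G, a ∈ (S : Subgroup G) → b ∈ (S : Subgroup G) → a * a = 1 → b * b = 1 →
      ∀ g, g * a * b ∈ D → g * b * a ∈ D := fun a b ha hb' ha2 hb2 g hg => by
    have h := mul_mem hg (commutator_mem_commutator hb' ha)
    rw [commutatorElement_def, inv_eq_of_mul_eq_one_right ha2, inv_eq_of_mul_eq_one_right hb2] at h
    rwa [show g * a * b * (b * a * b * a) = g * b * a by
      simp only [mul_assoc]; rw [← mul_assoc b b, hb2, one_mul, ← mul_assoc a a, ha2, one_mul]] at h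
  have hcI : c ∈ ({1, c, w, c * w} : Set G) := by simp
  have hcv : c * v ∈ U ∧ c * v ∉ ({1, c, w, c * w} : Set G) := by
    refine ⟨mul_mem he.hc he.hv, fun h => ?_⟩
    obtain ⟨d, hd, hd2⟩ := he.exists_not_sq hb hU h32
    have h1 := he.cent_I hb hU h hd
    rw [hci c v hcc hinv1 d hd] at h1
    exact hd2 (mul_eq_one_iff_eq_inv.2 h1.symm)
  have hc2' := he.sq c he.hc
  have hmem := mem_sup_invol hv32 hn2 (hJ.ge (hU.le he.hc))
  rcases hmem with hm | hm <;> rcases mem_sup_invol hv22 hn1 hm with h | h <;>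
    rcases mem_sup_invol hv12 (hn0 v hv1S) h with hd | hd
  · -- `c` lies in `D`
    refine ⟨hd, hcent ?_ ?_⟩
    · have h1 := hinv2 c hd
      rw [inv_eq_of_mul_eq_one_right hc2', mul_inv_eq_iff_eq_mul] at h1
      exact h1.symm
    · have h1 := hinv3 c hd
      rw [inv_eq_of_mul_eq_one_right hc2', mul_inv_eq_iff_eq_mul] at h1
      exact h1.symm
  · exact absurd hd (hvD _ (hci c v hcc hinv1))
  · exact absurd hd (hvD _ (hci c v2 hcc hinv2))
  · exact (he.no_glue hb hU hU2 he2 hi1 hm2 (hM1 (mem_sup_right (mem_zpowers v))) hcv.1 hcv.2 (by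
      rw [inv_eq_of_mul_eq_one_right hv22]; exact hswap v2 v hv2S hv1S hv22 hv12 c hd)).elim
  · exact absurd hd (hvD _ (hci c v3 hcc hinv3))
  · exact (he.no_glue hb hU hU3 he3 hi2 hm3 (hM2 (mem_sup_left (mem_sup_right (mem_zpowers v)))) hcv.1 hcv.2 (by
      rw [inv_eq_of_mul_eq_one_right hv32]; exact hswap v3 v hv3S hv1S hv32 hv12 c hd)).elim
  · exfalso
    have hd' : c * v2 * v3 ∈ D := hswap v3 v2 hv3S hv2S hv32 hv22 c hd
    -- both products are involutions
    have hsq : ∀ a b : G, b * b = 1 → a * a = 1 → (∀ d ∈ D, b * d * b⁻¹ = d⁻¹) → c * a * b ∈ D →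
        c * a = a * c := fun a b hb2 ha2 hbi hg => by
      have h1 := hbi _ hg
      rw [mul_inv_eq_iff_eq_mul] at h1
      have h2 : c * a * (c * a) = 1 := by
        calc c * a * (c * a) = (c * a * b) * (b * (c * a * b)) * b := by
              simp only [mul_assoc]; rw [← mul_assoc b b, hb2, one_mul, mul_one]
          _ = 1 := by rw [h1, mul_inv_cancel_left, hb2]
      rw [← inv_eq_of_mul_eq_one_right h2, mul_inv_rev, inv_eq_of_mul_eq_one_right hc2',
        inv_eq_of_mul_eq_one_right ha2]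
    have hcS := hcent (hsq v2 v3 hv32 hv22 hinv3 hd') (hsq v3 v2 hv22 hv32 hinv2 hd)
    have hcU2 : c ∈ U2 := hU2.center_le (hU.le he.hc) hcS
    refine he2.no_glue hb hU2 hU3 he3 hi2 hm3 (hM2 (mem_sup_right (mem_zpowers v2)))
      (x := c * v2) (mul_mem hcU2 he2.hv) (fun h => ?_) (by rw [inv_eq_of_mul_eq_one_right hv32]; exact hd')
    obtain ⟨d, hdD, hd2⟩ := he.exists_not_sq hb hU h32
    have h1 := he2.cent_I hb hU2 h hdD
    rw [hci c v2 hcc hinv2 d hdD] at h1
    exact hd2 (mul_eq_one_iff_eq_inv.2 h1.symm)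
  · exact absurd hd (hvD _ (hci (c * v3 * v2) v (hii (c * v3) v2 (hci c v3 hcc hinv3) hinv2) hinv1))

/-- The Sylow subgroup has order at most 32. -/
theorem Big.not_six (hb : Big G S) : Nat.card (S : Subgroup G) ≠ 2 ^ 6 := fun h6 => by
  have hmove : ∀ M : Subgroup G, M.relIndex (S : Subgroup G) = 2 →
      ∃ (U2 : Subgroup G) (c2 w2 v2 : G), Ess S U2 ∧ Ety S U2 c2 w2 v2 ∧ Moves U2 M := by
    intro M hi
    rcases hb.toHyp.exists_moving hi with ⟨U, hU, hm⟩ | ⟨y, hy, hyo, x, hx, hne⟩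
    · rcases hU.eight_or hb with ⟨h8, -⟩ | ⟨h16, -⟩
      · obtain ⟨c, w, v, he⟩ := hU.exists_ety hb h8
        exact ⟨U, c, w, v, hU, he, hm⟩
      · exact absurd h16 (hU.not_sixteen hb h6)
    · exfalso
      have hne' : normalizer ((S : Subgroup G) : Set G) ≠ ⊤ := hb.toHyp.normalizer_ne_top (fun e => by
        rw [e] at h6; simp at h6) S.isPGroup'
      rw [hb.toHyp.max_of_six h6 le_normalizer hne'] at hy
      exact hne (half_conj hi hx hy)
  obtain ⟨M, -, -, hi⟩ := exists_half (S := S) bot_le (fun e => by rw [← e] at h6; simp at h6)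
  obtain ⟨U, c, w, v, hU, he, -⟩ := hmove M hi
  obtain ⟨-, hcS⟩ := he.three hb hU (by rw [h6]; norm_num) hmove
  obtain ⟨y, hy, hyo, hyC⟩ := hU.act
  have hyS : y ∈ (S : Subgroup G) := by
    rw [← hb.centralizer_eq h6 he.c1 hcS, mem_centralizer_singleton_iff]
    exact mul_inv_eq_iff_eq_mul.1 (he.fix y hy)
  exact not_mem_of_odd S.isPGroup' hyo (fun e => hyC (e ▸ one_mem _)) hyS

end Cfsg.Agent.Fus.LenSeven
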