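import Cfsg.Agent.Lib.Fus.LengthSeven.Centre
import Cfsg.Agent.Lib.Fus.LengthSeven.SixtyFour

/-!
# No Sylow subgroup of order 16 (for S3249)
-/

set_option autoImplicit false
set_option linter.style.haveILetI false

namespace Cfsg.Agent.Fus.LenSeven

open Subgroup LenEight
open scoped commutatorElement

universe u

variable {G : Type u} [Group G] [Finite G] {S : Sylow 2 G} (hb : Big G S)
  (h4 : Nat.card (S : Subgroup G) = 16)
include hb h4

theorem Big.card_der_four : Nat.card ↥⁅(S : Subgroup G), (S : Subgroup G)⁆ = 2 := by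
  have h := hb.der_index
  rw [h4] at h
  obtain ⟨x, hx, y, hy, hxy⟩ := hb.sna
  haveI : Nontrivial ↥⁅(S : Subgroup G), (S : Subgroup G)⁆ :=
    ⟨⟨⟨_, commutator_mem_commutator hx hy⟩, 1, fun e =>
      hxy (commutatorElement_eq_one_iff_mul_comm.1 (congrArg Subtype.val e))⟩⟩
  have := Finite.one_lt_card (α := ↥⁅(S : Subgroup G), (S : Subgroup G)⁆)
  omega

/-- An elementary half contains the centre, which has order 4. -/
theorem Big.half_centre {H : Subgroup G} (hH : H ≤ (S : Subgroup G)) (h8 : Nat.card H = 8)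
    (hsq : ∀ x ∈ H, x * x = 1) (hc : ∀ x ∈ H, ∀ y ∈ H, x * y = y * x) :
    cenS S ≤ H ∧ Nat.card (cenS S) = 4 := by
  have hi : H.relIndex (S : Subgroup G) = 2 := rel_two hH (by omega)
  have hle : cenS S ≤ H := by
    intro z hz
    by_contra hzH
    obtain ⟨x, hx, y, hy, hxy⟩ := hb.sna
    have hA := comm_of_sup (g := z) hc fun a ha => ((mem_cenS.1 hz).2 a (hH ha)).symm
    have hS : H ⊔ zpowers z = (S : Subgroup G) := by
      refine eq_of_le_of_card_ge (sup_le hH (zpowers_le.2 hz.1)) ?_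
      have := double_le (S := S) (sup_le hH (zpowers_le.2 hz.1)) (lt_of_le_of_ne le_sup_left fun e =>
        hzH (e.ge (mem_sup_right (mem_zpowers z))) : H < H ⊔ zpowers z)
      omega
    exact hxy (hA x (hS.ge hx) y (hS.ge hy))
  refine ⟨hle, ?_⟩
  obtain ⟨b, hbS, hbH⟩ : ∃ b ∈ (S : Subgroup G), b ∉ H := by
    by_contra! hall
    have := card_le_of_le (show (S : Subgroup G) ≤ H from hall)
    omega
  have hbn : ∀ x ∈ H, b * x * b⁻¹ ∈ H := fun x hx => conj_mem_of_der hH (der_le hi) hbS hx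
  let f : H →* G :=
    { toFun := fun x => b * x * b⁻¹ * (x : G)⁻¹
      map_one' := by simp
      map_mul' := fun x y => by
        rw [coe_mul, mul_inv_rev]
        calc b * ((x : G) * y) * b⁻¹ * ((y : G)⁻¹ * (x : G)⁻¹)
            = b * x * b⁻¹ * ((b * y * b⁻¹ * (y : G)⁻¹) * (x : G)⁻¹) := by group
          _ = b * x * b⁻¹ * ((x : G)⁻¹ * (b * y * b⁻¹ * (y : G)⁻¹)) := by
              rw [hc _ (mul_mem (hbn y y.2) (inv_mem y.2)) _ (inv_mem x.2)]
          _ = _ := by group }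
  have hr : f.range ≤ ⁅(S : Subgroup G), (S : Subgroup G)⁆ := by
    rintro _ ⟨x, rfl⟩
    exact commutator_mem_commutator hbS (hH x.2)
  have h1 := card_le_of_le hr
  rw [hb.card_der_four h4] at h1
  have h2 := f.ker.card_mul_index
  rw [index_ker, h8] at h2
  have hk : f.ker.map H.subtype ≤ cenS S := by
    rintro _ ⟨x, hx, rfl⟩
    refine mem_cenS.2 ⟨hH x.2, fun s hs => ?_⟩
    have hbx : b * (x : G) = x * b := by
      have e : b * (x : G) * b⁻¹ * (x : G)⁻¹ = 1 := hx
      exact mul_inv_eq_iff_eq_mul.1 (mul_inv_eq_one.1 e)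
    by_cases hsH : s ∈ H
    · exact hc s hsH x x.2
    · have hm : b⁻¹ * s ∈ H := (rel_mul hi (inv_mem hbS) hs).2
        (iff_of_false (fun e => hbH (inv_mem_iff.1 e)) hsH)
      have := (show Commute b (x : G) from hbx).mul_left (show Commute (b⁻¹ * s) (x : G) from hc _ hm x x.2)
      rw [mul_inv_cancel_left] at this
      exact this.eq
  have h3 := card_le_of_le hk
  rw [card_map_of_injective (subtype_injective _)] at h3
  have h4' := hb.cenS_index
  rw [h4] at h4'
  have h5 : Nat.card f.ker * 2 ≥ 8 := h2 ▸ Nat.mul_le_mul_left _ h1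
  omega

/-- At most two elementary halves. -/
theorem Big.two_halves {A B C : Subgroup G} (hA : A ≤ (S : Subgroup G)) (hB : B ≤ (S : Subgroup G))
    (hC : C ≤ (S : Subgroup G)) (cA : Nat.card A = 8) (cB : Nat.card B = 8) (cC : Nat.card C = 8)
    (sA : ∀ x ∈ A, x * x = 1) (sB : ∀ x ∈ B, x * x = 1) (sC : ∀ x ∈ C, x * x = 1) :
    A = B ∨ A = C ∨ B = C := by
  by_contra! hne
  have hcomm : ∀ H : Subgroup G, (∀ x ∈ H, x * x = 1) → ∀ x ∈ H, ∀ y ∈ H, x * y = y * x := fun H hH x hx y hy => by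
    rw [← inv_eq_of_mul_eq_one_right (hH _ (mul_mem hx hy)), mul_inv_rev, inv_eq_of_mul_eq_one_right (hH x hx),
      inv_eq_of_mul_eq_one_right (hH y hy)]
  obtain ⟨zA, hz4⟩ := hb.half_centre h4 hA cA sA (hcomm A sA)
  obtain ⟨zB, -⟩ := hb.half_centre h4 hB cB sB (hcomm B sB)
  obtain ⟨zC, -⟩ := hb.half_centre h4 hC cC sC (hcomm C sC)
  obtain ⟨x, hx, y, hy, hxy⟩ := hb.sna
  refine hxy (hcomm (S : Subgroup G) (fun g hg => ?_) x hx y hy)
  rcases three_halves hA hB hC (by omega) (by omega) (by omega) (by omega) zA zB zC hne.1 hne.2.1 hne.2.2 hg with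
    h | h | h
  exacts [sA g h, sB g h, sC g h]

/-- Elements of odd order normalising `S` centralise it. -/
theorem Big.fix_S_four {y : G} (hy : y ∈ normalizer ((S : Subgroup G) : Set G)) (hyo : Odd (orderOf y)) :
    ∀ x ∈ (S : Subgroup G), y * x = x * y := by
  obtain ⟨F, hF, h8, hsq, hc⟩ := hb.eight
  obtain ⟨hZF, hZ4⟩ := hb.half_centre h4 hF h8 hsq hc
  have hyS : ∀ x ∈ (S : Subgroup G), y * x * y⁻¹ ∈ (S : Subgroup G) := fun x hx => (mem_normalizer_iff.1 hy x).1 hx
  have hmapS : (S : Subgroup G).map (MulAut.conj y).toMonoidHom = S := Grp.mem_normalizer_of_map_eq.1 hy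
  have hyF : y ∈ normalizer (F : Set G) := by
    refine odd_perm hyo fun A B hA hB => ?_
    have hAS : A ≤ (S : Subgroup G) := hA ▸ (map_mono hF).trans hmapS.le
    have hBS : B ≤ (S : Subgroup G) := hB ▸ (map_mono hAS).trans hmapS.le
    have sA : ∀ x ∈ A, x * x = 1 := by
      rw [hA]
      rintro _ ⟨g, hg, rfl⟩
      rw [← map_mul, hsq g hg, map_one]
    refine hb.two_halves h4 hF hAS hBS h8 (by rw [hA, card_conj, h8]) (by rw [hB, card_conj, hA, card_conj, h8])
      hsq sA ?_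
    rw [hB]
    rintro _ ⟨g, hg, rfl⟩
    rw [← map_mul, sA g hg, map_one]
  have hFp : IsPGroup 2 F := S.isPGroup'.to_le hF
  have hyZ : y ∈ normalizer (cenS S : Set G) := mem_normalizer_fintype fun z hz => by
    refine mem_cenS.2 ⟨hyS z hz.1, fun s hs => ?_⟩
    have h1 := (mem_cenS.1 hz).2 _ ((mem_normalizer_iff.1 (inv_mem hy) s).1 hs)
    have h2 := congrArg (fun t => y * t * y⁻¹) h1
    simpa [mul_assoc] using h2
  obtain ⟨q, hq, hq1⟩ : ∃ q ∈ ⁅(S : Subgroup G), (S : Subgroup G)⁆, q ≠ 1 := by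
    obtain ⟨x, hx, z, hz, hxz⟩ := hb.sna
    exact ⟨_, commutator_mem_commutator hx hz, fun e => hxz (commutatorElement_eq_one_iff_mul_comm.1 e)⟩
  have hyD : y ∈ normalizer ((⁅(S : Subgroup G), (S : Subgroup G)⁆ : Subgroup G) : Set G) :=
    Grp.mem_normalizer_of_map_eq.2 (by rw [map_commutator, hmapS])
  have hyq := fix_two (hb.card_der_four h4).le hyD q hq
  have hqZ : q ∈ cenS S := by
    refine mem_cenS.2 ⟨commutator_le_S hq, fun s hs => ?_⟩
    have hsD : s ∈ normalizer ((⁅(S : Subgroup G), (S : Subgroup G)⁆ : Subgroup G) : Set G) :=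
      mem_normalizer_fintype fun d hd => commutator_conj hs hd
    exact fix_two (hb.card_der_four h4).le hsD q hq
  have hfZ := fix_four (S.isPGroup'.to_le inf_le_left) hZ4.le hyZ hyo hqZ hq1 hyq
  have hfF := fix_index_two hFp hZF (by omega) hyF hyo hfZ
  exact fix_index_two S.isPGroup' hF (by omega) hy hyo hfF

/-- The Sylow subgroup does not have order 16. -/
theorem Big.false_four : False := by
  have hmove : ∀ M : Subgroup G, M.relIndex (S : Subgroup G) = 2 →
      ∃ (U2 : Subgroup G) (c2 w2 v2 : G), Ess S U2 ∧ Ety S U2 c2 w2 v2 ∧ Moves U2 M := by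
    intro M hi
    rcases hb.toHyp.exists_moving hi with ⟨V, hV, hm⟩ | ⟨y, hy, hyo, x, hx, hne⟩
    · rcases hV.eight_or hb with ⟨h8, -⟩ | ⟨h16, -⟩
      · obtain ⟨c2, w2, v2, he2⟩ := hV.exists_ety hb h8
        exact ⟨V, c2, w2, v2, hV, he2, hm⟩
      · exact absurd (eq_of_le_of_card_ge hV.le (by omega)) hV.ne
    · refine absurd ?_ hne
      rw [mul_inv_eq_iff_eq_mul.2 (hb.fix_S_four h4 hy hyo x hx)]
  have hDS : ⁅(S : Subgroup G), (S : Subgroup G)⁆ ≤ (S : Subgroup G) := commutator_le_S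
  obtain ⟨M0, -, -, hi0⟩ := exists_half (S := S) bot_le (fun e => by rw [← e] at h4; simp at h4)
  obtain ⟨U1, c1, w1, v1, hU1, he1, -⟩ := hmove M0 hi0
  set J1 := ⁅(S : Subgroup G), (S : Subgroup G)⁆ ⊔ zpowers v1 with hJ1
  have hJ1S : J1 ≤ (S : Subgroup G) := sup_le hDS (zpowers_le.2 (hU1.le he1.hv))
  have hc1 := card_sup_invol (he1.sq v1 he1.hv) (fun h hh => commutator_conj (hU1.le he1.hv) hh)
  rw [← hJ1, hb.card_der_four h4] at hc1
  obtain ⟨M1, hM1, -, hi1⟩ := exists_half hJ1S (fun e => by rw [e, h4] at hc1; omega)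
  obtain ⟨U2, c2, w2, v2, hU2, he2, hm2⟩ := hmove M1 hi1
  have h12 : U1 ≠ U2 := fun e => by
    subst e
    exact he1.not_moves (der_le hi1) (hM1 (mem_sup_right (mem_zpowers v1))) hm2
  set J2 := J1 ⊔ zpowers v2 with hJ2
  have hJ2S : J2 ≤ (S : Subgroup G) := sup_le hJ1S (zpowers_le.2 (hU2.le he2.hv))
  have hc2 := card_sup_invol (he2.sq v2 he2.hv) (fun h hh => conj_mem_of_der hJ1S le_sup_left (hU2.le he2.hv) hh)
  rw [← hJ2] at hc2
  obtain ⟨M2, hM2, -, hi2⟩ := exists_half hJ2S (fun e => by rw [e, h4] at hc2; omega)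
  obtain ⟨U3, c3, w3, v3, hU3, he3, hm3⟩ := hmove M2 hi2
  rcases hb.two_halves h4 hU1.le hU2.le hU3.le he1.card he2.card he3.card he1.sq he2.sq he3.sq with e | e | e
  · exact h12 e
  · subst e
    exact he1.not_moves (der_le hi2) (hM2 (mem_sup_left (mem_sup_right (mem_zpowers v1)))) hm3
  · subst e
    exact he2.not_moves (der_le hi2) (hM2 (mem_sup_right (mem_zpowers v2))) hm3

end Cfsg.Agent.Fus.LenSeven
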