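import Cfsg.Agent.Lib.Fus.LengthSeven.Three
import Cfsg.Agent.Lib.Fus.LengthSeven.Large
import Cfsg.Agent.Lib.Invol.SD16Core.Main
import Cfsg.Agent.Lib.Invol.SmallCent.Local
import Cfsg.Agent.Lib.Invol.TwoSylowGLTwo
import Cfsg.Agent.Lib.Transfer.FiveOrbits.Normalizer
import Cfsg.Agent.S2916

/-!
# Simple groups of length at most seven: quasi-dihedral and wreathed Sylow subgroups, `q = 3` (for S3249)
-/

set_option autoImplicit false
set_option linter.style.haveILetI false

namespace Cfsg.Agent.Fus.LenSeven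

open Subgroup LenEight Matrix
open scoped commutatorElement

universe u

local instance fact_three_small : Fact (Nat.Prime 3) := ⟨Nat.prime_three⟩

local notation "S₃" => Matrix.SpecialLinearGroup (Fin 2) (ZMod 3)
local notation "G₃" => GL (Fin 2) (ZMod 3)
local notation "toG" => (Matrix.SpecialLinearGroup.toGL : S₃ →* G₃)

theorem exists_sl_zmod {F : Type} [Field F] [Fintype F] (hF : Fintype.card F = 3) :
    Nonempty (S₃ ≃* Matrix.SpecialLinearGroup (Fin 2) F) := by
  obtain ⟨e⟩ : Nonempty (ZMod 3 ≃+* F) := ⟨ZMod.ringEquivOfPrime F Nat.prime_three hF⟩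
  refine ⟨MonoidHom.toMulEquiv (Matrix.SpecialLinearGroup.map e.toRingHom)
    (Matrix.SpecialLinearGroup.map e.symm.toRingHom) ?_ ?_⟩ <;>
  · refine MonoidHom.ext fun s => Subtype.ext (Matrix.ext fun i j => ?_)
    simp [Matrix.SpecialLinearGroup.map_apply_coe]

theorem card_sl_three : Nat.card S₃ = 24 := by rw [Nat.card_eq_fintype_card, three_card]

theorem pow_card_of_mem {A : Type u} [Group A] [Finite A] {H : Subgroup A} {a : A} (ha : a ∈ H) :
    a ^ Nat.card H = 1 :=
  congrArg Subtype.val (pow_card_eq_one' (x := (⟨a, ha⟩ : H)))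

theorem len_sl_three : Len 4 (⊤ : Subgroup S₃) := by
  haveI : Fact (Nat.Prime 2) := ⟨Nat.prime_two⟩
  obtain ⟨Q, hQ⟩ := Sylow.exists_subgroup_card_pow_prime (G := S₃) 2 (n := 3) (by rw [card_sl_three]; norm_num)
  refine (len_two_group hQ).succ (lt_top_iff_ne_top.2 fun e => ?_)
  rw [e, card_top, card_sl_three] at hQ
  norm_num at hQ

variable {G : Type u} [Group G] [Finite G]

/-- The centraliser is solvable when `q = 3`. -/
theorem three_solvable {C : Type u} [Group C] [Finite C]
    (e : ↥(commutator (C ⧸ Cfsg.oddCore C)) ≃* S₃) : Group.IsSolvable C := by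
  haveI : (Cfsg.oddCore C).Normal := Grp.pPrimeCore_isNormal
  haveI : Group.IsSolvable (Cfsg.oddCore C) := S0205.result (Nat.coprime_two_right.1 Grp.pPrimeCore_coprime)
  haveI hS : Group.IsSolvable S₃ := Transfer.FiveOrbits.isSolvable_of_two_primes Nat.prime_two Nat.prime_three
    fun l hl hd => by
      rw [card_sl_three, show 24 = 2 ^ 3 * 3 by norm_num] at hd
      rcases hl.dvd_mul.1 hd with h | h
      · exact Or.inl ((Nat.prime_dvd_prime_iff_eq hl Nat.prime_two).1 (hl.dvd_of_dvd_pow h))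
      · exact Or.inr ((Nat.prime_dvd_prime_iff_eq hl Nat.prime_three).1 h)
  haveI : Group.IsSolvable (commutator (C ⧸ Cfsg.oddCore C)) :=
    Group.isSolvable_of_surjective (f := e.symm.toMonoidHom) e.symm.surjective
  haveI : Group.IsSolvable ((C ⧸ Cfsg.oddCore C) ⧸ commutator (C ⧸ Cfsg.oddCore C)) :=
    Group.isSolvable_of_comm fun a b => QuotientGroup.induction_on a fun a => QuotientGroup.induction_on b fun b =>
      QuotientGroup.eq.2 (by
        rw [show (a * b)⁻¹ * (b * a) = ⁅b⁻¹, a⁻¹⁆ by rw [commutatorElement_def]; group]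
        exact commutator_mem_commutator (mem_top _) (mem_top _))
  haveI : Group.IsSolvable (C ⧸ Cfsg.oddCore C) :=
    (Group.isSolvable_iff_subgroup_quotient (commutator (C ⧸ Cfsg.oddCore C))).2 ⟨inferInstance, inferInstance⟩
  exact (Group.isSolvable_iff_subgroup_quotient (Cfsg.oddCore C)).2 ⟨inferInstance, inferInstance⟩

theorem Hyp.qd_small (h : Hyp G) {S : Sylow 2 G} {n : ℕ} {x y : ↥(S : Subgroup G)}
    (hq : Invol.QD _ n x y) {t : G} (hu : ((x ^ (2 * Invol.qq n) : ↥(S : Subgroup G)) : G) = t)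
    (e : ↥(commutator (↥(centralizer ({t} : Set G)) ⧸ Cfsg.oddCore ↥(centralizer ({t} : Set G)))) ≃* S₃) :
    Cfsg.Spor.IsoM11 G := by
  classical
  haveI : Fact (Nat.Prime 2) := ⟨Nat.prime_two⟩
  haveI := h.simple
  have hSC : (S : Subgroup G) ≤ centralizer {t} := fun s hs => by
    rw [mem_centralizer_singleton_iff, ← hu]
    exact congrArg Subtype.val (hq.z_central ⟨s, hs⟩)
  have ht : orderOf t = 2 := by rw [← hu]; exact (orderOf_coe _).trans hq.orderOf_z
  set O := Cfsg.oddCore ↥(centralizer ({t} : Set G)) with hO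
  haveI hOn : O.Normal := Grp.pPrimeCore_isNormal
  have hOodd : Odd (Nat.card O) := Nat.coprime_two_right.1 Grp.pPrimeCore_coprime
  let j : ↥(S : Subgroup G) →* ↥(centralizer ({t} : Set G)) ⧸ O :=
    (QuotientGroup.mk' O).comp (Subgroup.inclusion hSC)
  have hj : Function.Injective j := by
    refine (injective_iff_map_eq_one _).2 fun s hs => ?_
    obtain ⟨k, hk⟩ := IsPGroup.iff_orderOf.1 S.isPGroup' s
    rw [← orderOf_eq_one_iff]
    refine Nat.eq_one_of_dvd_coprimes ((Nat.coprime_two_right.2 hOodd).pow_right k) ?_ hk.dvd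
    rw [← orderOf_injective (Subgroup.inclusion hSC) (Subgroup.inclusion_injective hSC)]
    exact orderOf_dvd_natCard O ((QuotientGroup.eq_one_iff _).1 hs)
  let φ : S₃ →* ↥(centralizer ({t} : Set G)) ⧸ O :=
    (commutator (↥(centralizer ({t} : Set G)) ⧸ O)).subtype.comp e.symm.toMonoidHom
  have hφ : Function.Injective φ := (Subgroup.subtype_injective _).comp e.symm.injective
  have hφr : φ.range = commutator (↥(centralizer ({t} : Set G)) ⧸ O) := by
    rw [MonoidHom.range_comp, MonoidHom.range_eq_top.2 e.symm.surjective, ← MonoidHom.range_eq_map, range_subtype]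
  haveI hLn : φ.range.Normal := hφr ▸ inferInstance
  have hx2 : j (x ^ (2 : ℤ)) ∈ φ.range := by
    rw [hφr]
    have h1 := mem_map_of_mem j hq.commutator_eq
    rw [_root_.commutator_def, Subgroup.map_commutator] at h1
    exact commutator_mono le_top le_top h1
  -- the Sylow subgroup has order 16
  have hn3 : n = 3 := by
    by_contra hne
    obtain ⟨r, hr⟩ : ∃ r, n = r + 4 := ⟨n - 4, by have := hq.hn; omega⟩
    have hmem : j (x ^ (2 ^ (r + 1))) ∈ φ.range := by
      rw [show x ^ (2 ^ (r + 1)) = (x ^ (2 : ℤ)) ^ (2 ^ r) by rw [zpow_two, ← sq, ← pow_mul, pow_succ'], map_pow]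
      exact pow_mem hx2 _
    obtain ⟨a, ha⟩ := hmem
    have ho : orderOf (x ^ (2 ^ (r + 1))) = 8 := by
      rw [orderOf_pow, hq.ox, hr, Nat.gcd_eq_right (pow_dvd_pow 2 (by omega)),
        Nat.pow_div (by omega) two_pos, show r + 4 - (r + 1) = 3 by omega]
      norm_num
    rw [← orderOf_injective j hj, ← ha, orderOf_injective φ hφ] at ho
    have h4 := three_no_eight a (by rw [← ho, pow_orderOf_eq_one])
    have := Nat.le_of_dvd (by norm_num) (orderOf_dvd_of_pow_eq_one h4)
    omega
  subst hn3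
  have hqq : Invol.qq 3 = 2 := by norm_num [Invol.qq]
  have h2 : (2 : ZMod 3) ≠ 0 := by decide
  set tb := j (x ^ (2 * Invol.qq 3)) with htb
  have htb2 : orderOf tb = 2 := (orderOf_injective j hj _).trans hq.orderOf_z
  have htmem : tb ∈ φ.range := by
    rw [htb, show 2 * Invol.qq 3 = (2 : ℤ) * Invol.qq 3 from rfl, _root_.zpow_mul, map_zpow]
    exact zpow_mem hx2 _
  have htcen : ∀ c, c * tb = tb * c := fun c => by
    obtain ⟨c, rfl⟩ := QuotientGroup.mk'_surjective O c
    rw [htb, show j (x ^ (2 * Invol.qq 3)) = QuotientGroup.mk' O (Subgroup.inclusion hSC (x ^ (2 * Invol.qq 3))) from rfl,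
      ← map_mul, ← map_mul]
    refine congrArg _ (Subtype.ext ?_)
    show (c : G) * ((x ^ (2 * Invol.qq 3) : ↥(S : Subgroup G)) : G) = ((x ^ (2 * Invol.qq 3) : ↥(S : Subgroup G)) : G) * c
    rw [hu]
    exact mem_centralizer_singleton_iff.1 c.2
  have hyL : j y ∉ φ.range := fun hy => hq.zpow_mul_y_ne 0 (2 * Invol.qq 3) (by
    rw [zpow_zero, one_mul]
    exact hj (range_involution_eq h2 φ hφ hy htmem ((orderOf_injective j hj y).trans hq.oy) htb2))
  have hkey : ∀ a : S₃, (∀ c : φ.range, (φ a) * c = c * φ a) → φ a * φ a = 1 := fun a ha => by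
    rw [← map_mul, three_central_sq a (fun r => (hφ (by
      rw [map_mul, map_mul]; exact (ha ⟨φ r, r, rfl⟩))).symm), map_one]
  -- the elements of two-power order centralising the derived group
  set K := centralizer (φ.range : Set (↥(centralizer ({t} : Set G)) ⧸ O)) with hK
  haveI hKn : K.Normal := inferInstance
  have hSK : ∀ s, j s ∈ K → j s ∈ zpowers tb := by
    intro s hs
    have hc := mem_centralizer_iff.1 hs _ hx2
    obtain ⟨i, rfl | rfl⟩ := hq.cases' s
    · rcases Int.even_or_odd i with ⟨c, rfl⟩ | ⟨c, rfl⟩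
      · have hm : j (x ^ (c + c)) ∈ φ.range := by
          rw [← two_mul, _root_.zpow_mul, map_zpow]; exact zpow_mem hx2 _
        obtain ⟨a, ha⟩ := hm
        have h1 := hkey a (fun d => ha ▸ (mem_centralizer_iff.1 hs d d.2).symm)
        rw [ha, ← map_mul, ← _root_.zpow_add] at h1
        have h1' := hj (h1.trans (map_one j).symm)
        rw [hq.zpow_eq_one, hqq] at h1'
        obtain ⟨d, rfl⟩ : ∃ d, c = 2 * d := ⟨c / 2, by omega⟩
        refine Subgroup.mem_zpowers_iff.2 ⟨d, ?_⟩
        rw [htb, ← map_zpow, ← _root_.zpow_mul]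
        refine congrArg j (hq.zpow_eq.2 ⟨0, ?_⟩)
        rw [hqq]; ring
      · exfalso
        have hm : j (x ^ (2 * (2 * c + 1))) ∈ φ.range := by
          rw [_root_.zpow_mul, map_zpow]; exact zpow_mem hx2 _
        obtain ⟨a, ha⟩ := hm
        have hsq : φ a ∈ K := by
          rw [ha, two_mul (2 * c + 1), _root_.zpow_add, map_mul]; exact mul_mem hs hs
        have h1 := hkey a (fun d => (mem_centralizer_iff.1 hsq d d.2).symm)
        rw [ha, ← map_mul, ← _root_.zpow_add] at h1
        have h1' := hj (h1.trans (map_one j).symm)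
        rw [hq.zpow_eq_one, hqq] at h1'
        omega
    · exfalso
      rw [← map_mul, ← map_mul] at hc
      have h1 := hj hc
      rw [← mul_assoc, ← _root_.zpow_add, mul_assoc (x ^ i), hq.y_mul_zpow, ← mul_assoc, ← _root_.zpow_add, hq.mul_y_eq, hqq] at h1
      omega
  have hKT : ∀ k ∈ K, (∃ b, k ^ 2 ^ b = 1) → k ∈ zpowers tb := by
    intro k hk ⟨b, hb⟩
    obtain ⟨d, -, hd⟩ := (Nat.dvd_prime_pow Nat.prime_two).1 (orderOf_dvd_of_pow_eq_one hb)
    obtain ⟨P, hP⟩ := (IsPGroup.of_card (p := 2) (n := d) (G := zpowers k) (by rw [Nat.card_zpowers, hd])).exists_le_sylow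
    let R := (S.subtype hSC).mapSurjective (QuotientGroup.mk'_surjective O)
    obtain ⟨g, hg⟩ := MulAction.exists_smul_eq (↥(centralizer ({t} : Set G)) ⧸ O) P R
    have hgk : g * k * g⁻¹ ∈ (R : Subgroup _) := by
      rw [← hg, Sylow.coe_subgroup_smul]
      exact Subgroup.smul_mem_pointwise_smul k (MulAut.conj g) P (hP (mem_zpowers k))
    obtain ⟨c, hc, hce⟩ := hgk
    have hcS : (c : G) ∈ (S : Subgroup G) := by
      have : c ∈ ((S.subtype hSC : Sylow 2 _) : Subgroup _) := hc
      rw [Sylow.coe_subtype] at this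
      exact mem_subgroupOf.1 this
    have hjc : j ⟨c, hcS⟩ = g * k * g⁻¹ := hce
    have h1 := hSK ⟨c, hcS⟩ (by rw [hjc]; exact hKn.conj_mem k hk g)
    rw [hjc] at h1
    obtain ⟨i, hi⟩ := Subgroup.mem_zpowers_iff.1 h1
    refine Subgroup.mem_zpowers_iff.2 ⟨i, ?_⟩
    have : k = g⁻¹ * tb ^ i * g := by rw [hi]; group
    rw [this, mul_assoc, ← ((Commute.zpow_right (htcen g) i)).eq, inv_mul_cancel_left]
  have hTK : zpowers tb ≤ K := zpowers_le.2 (mem_centralizer_iff.2 fun c _ => htcen c)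
  have hK2 : Nat.card K = 2 := by
    set T := (zpowers tb).subgroupOf K with hT
    have hTc : Nat.card T = 2 := by
      rw [hT, Nat.card_congr (subgroupOfEquivOfLe hTK).toEquiv, Nat.card_zpowers, htb2]
    haveI : T.Normal := ⟨fun a ha g => by
      obtain ⟨i, hi⟩ := Subgroup.mem_zpowers_iff.1 (mem_subgroupOf.1 ha)
      have hcm : Commute (g : ↥(centralizer ({t} : Set G)) ⧸ O) (a : _) := hi ▸ (Commute.zpow_right (htcen _) i)
      rw [show g * a * g⁻¹ = a from Subtype.ext (by
        simp only [Subgroup.coe_mul, InvMemClass.coe_inv]; rw [hcm.eq, mul_inv_cancel_right])]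
      exact ha⟩
    obtain ⟨P⟩ : Nonempty (Sylow 2 K) := inferInstance
    have hPT : (P : Subgroup K) ≤ T := fun a ha => mem_subgroupOf.2 (hKT a a.2 (by
      obtain ⟨b, hb⟩ := P.isPGroup' ⟨a, ha⟩
      exact ⟨b, congrArg Subtype.val (congrArg Subtype.val hb)⟩))
    have hidx : ¬ 2 ∣ T.index := fun hd => P.not_dvd_index (hd.trans (index_dvd_of_le hPT))
    obtain ⟨H, hH⟩ := exists_right_complement'_of_coprime (N := T)
      (by rw [hTc]; exact Nat.prime_two.coprime_iff_not_dvd.2 hidx)
    have hHc : Nat.card H = T.index := hH.symm.index_eq_card.symm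
    have hHodd : Odd (Nat.card H) := hHc ▸ Nat.odd_iff.2 (Nat.two_dvd_ne_zero.1 hidx)
    set H' := H.map K.subtype with hH'
    have hH'c : Nat.card H' = Nat.card H := card_map_of_injective K.subtype_injective
    have hH'n : H'.Normal := by
      refine ⟨fun a ha g => ?_⟩
      obtain ⟨b, hb, rfl⟩ := ha
      obtain ⟨⟨⟨τ, hτ⟩, ⟨c, hc⟩⟩, hprod⟩ := hH.2 (⟨g * b * g⁻¹, hKn.conj_mem _ b.2 g⟩ : K)
      refine ⟨c, hc, ?_⟩
      have e1 : (τ : _) * (c : _) = g * (b : ↥(centralizer ({t} : Set G)) ⧸ O) * g⁻¹ := congrArg Subtype.val hprod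
      have hτc : Commute (τ : ↥(centralizer ({t} : Set G)) ⧸ O) c := by
        obtain ⟨i, hi⟩ := Subgroup.mem_zpowers_iff.1 (mem_subgroupOf.1 hτ)
        exact hi ▸ (Commute.zpow_right (htcen _) i).symm
      have hb1 : (b : ↥(centralizer ({t} : Set G)) ⧸ O) ^ Nat.card H = 1 :=
        congrArg Subtype.val (pow_card_of_mem hb)
      have hc1 : (c : ↥(centralizer ({t} : Set G)) ⧸ O) ^ Nat.card H = 1 :=
        congrArg Subtype.val (pow_card_of_mem hc)
      have h2' : (τ : ↥(centralizer ({t} : Set G)) ⧸ O) ^ Nat.card H = 1 := by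
        have := congrArg (· ^ Nat.card H) e1
        simp only [conj_pow, hb1, hτc.mul_pow, hc1, mul_one, mul_inv_cancel] at this
        exact this
      have hτ2 : (τ : ↥(centralizer ({t} : Set G)) ⧸ O) ^ 2 = 1 :=
        congrArg Subtype.val (show τ ^ 2 = 1 by rw [← hTc]; exact pow_card_of_mem hτ)
      have hτ1 : (τ : ↥(centralizer ({t} : Set G)) ⧸ O) = 1 := by
        have := pow_gcd_eq_one.2 ⟨hτ2, h2'⟩
        rwa [Nat.coprime_two_left.2 hHodd, pow_one] at this
      rw [hτ1, one_mul] at e1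
      exact e1
    have hOq : Cfsg.oddCore (↥(centralizer ({t} : Set G)) ⧸ O) = ⊥ := Grp.pPrimeCore_quotient_eq_bot
    have hbot : H' = ⊥ := le_bot_iff.1 (hOq ▸ Grp.le_pPrimeCore hH'n (Nat.coprime_two_right.2 (hH'c ▸ hHodd)))
    have h1 := T.card_mul_index
    rw [hTc, ← hHc, ← hH'c, hbot, card_bot] at h1
    exact h1.symm
  -- the quotient is `GL(2,3)`
  let θ : ↥(centralizer ({t} : Set G)) ⧸ O →* MulAut S₃ :=
    (MulAut.congr (MonoidHom.ofInjective hφ).symm).toMonoidHom.comp (MulAut.conjNormal (H := φ.range))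
  have hθ : ∀ c k, c * φ k * c⁻¹ = φ (θ c k) := fun c k => by
    have := congrArg Subtype.val
      ((MonoidHom.ofInjective hφ).apply_symm_apply (MulAut.conjNormal c (MonoidHom.ofInjective hφ k)))
    rw [MonoidHom.ofInjective_apply, MulAut.conjNormal_apply, MonoidHom.ofInjective_apply] at this
    exact this.symm
  have hθk : θ.ker ≤ K := fun c hc => mem_centralizer_iff.2 fun d hd => by
    obtain ⟨k, rfl⟩ := hd
    have h1 := hθ c k
    rw [MonoidHom.mem_ker.1 hc, MulAut.one_apply, mul_inv_eq_iff_eq_mul] at h1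
    exact h1.symm
  have hQ48 : Nat.card (↥(centralizer ({t} : Set G)) ⧸ O) = 48 := by
    refine le_antisymm ?_ ?_
    · rw [← θ.ker.card_mul_index, Subgroup.index_ker]
      calc Nat.card θ.ker * Nat.card θ.range ≤ 2 * 24 := Nat.mul_le_mul ((card_le_of_le hθk).trans_eq hK2)
            ((card_le_card_group _).trans card_aut_three)
        _ = 48 := rfl
    · have h1 := φ.range.card_mul_index
      rw [← Nat.card_congr (MonoidHom.ofInjective hφ).toEquiv, card_sl_three] at h1
      have h3 : 2 ≤ φ.range.index := by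
        rw [index_eq_card]
        exact Finite.one_lt_card_iff_nontrivial.2 ⟨QuotientGroup.mk (j y), 1, fun e1 => hyL ((QuotientGroup.eq_one_iff _).1 e1)⟩
      omega
  have hidx : φ.range.index = 2 := by
    have h1 := φ.range.card_mul_index
    rw [← Nat.card_congr (MonoidHom.ofInjective hφ).toEquiv, card_sl_three, hQ48] at h1
    omega
  obtain ⟨m, hm⟩ := exists_conj_three (θ (j y))
  have hjy : j y * j y = 1 := by rw [← map_mul, hq.y_mul_self, map_one]
  have hdet : GeneralLinearGroup.det m ≠ 1 := fun hd => by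
    let u : S₃ := ⟨(m : Matrix (Fin 2) (Fin 2) (ZMod 3)), by rw [← GeneralLinearGroup.val_det_apply, hd, Units.val_one]⟩
    have hu' : toG u = m := Units.ext rfl
    have hw : (φ u)⁻¹ * j y ∈ K := mem_centralizer_iff.2 fun d hd => by
      obtain ⟨k, rfl⟩ := hd
      have h1 := hθ (j y) k
      have hcu : θ (j y) k = u * k * u⁻¹ := Matrix.SpecialLinearGroup.toGL_injective (by
        rw [hm, map_mul, map_mul, map_inv, hu'])
      rw [hcu, map_mul, map_mul, map_inv, mul_inv_eq_iff_eq_mul] at h1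
      rw [mul_assoc _ (j y), h1]
      group
    have hKe : K = zpowers tb := (eq_of_le_of_card_ge hTK (by rw [hK2, Nat.card_zpowers, htb2])).symm
    rw [hKe] at hw
    exact hyL (by
      have := φ.range.mul_mem (⟨u, rfl⟩ : φ u ∈ φ.range) (zpowers_le.2 htmem hw)
      rwa [mul_inv_cancel_left] at this)
  have hmm : ∃ l, m * m = GeneralLinearGroup.scalar (Fin 2) l := scalar_of_commute fun s => by
    have hyy : θ (j y) (θ (j y) s) = s := by
      rw [← MulAut.mul_apply, ← map_mul, hjy, map_one, MulAut.one_apply]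
    have := congrArg (fun z => toG z) hyy
    simp only [hm] at this
    conv_rhs => rw [← this]
    group
  obtain ⟨l, hl⟩ := hmm
  have hns : ∀ z, m ≠ GeneralLinearGroup.scalar (Fin 2) z := fun z e1 => hdet (by
    have key : ∀ z : (ZMod 3)ˣ, z * z = 1 := by decide
    rw [e1, scalar_det, key])
  have hdl := det_of_sq_scalar hl hns
  have hl1 : l = 1 := by
    have : ∀ a : (ZMod 3)ˣ, -a ≠ 1 → a = 1 := by decide
    exact this l (hdl ▸ hdet)
  subst hl1
  rw [map_one] at hl
  obtain ⟨e48⟩ := iso_of_index_two φ hφ hidx hjy hyL toG Matrix.SpecialLinearGroup.toGL_injective hl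
    (fun ⟨k, hk⟩ => hdet (hk ▸ Units.ext k.2)) (fun k => θ (j y) k) (fun k => hθ _ k) (fun k => (hm k).symm)
    (by rw [card_GL_eq])
  obtain ⟨eC⟩ := Invol.SD16Core.ker_eq_bot h.nonab ht (e48.toMonoidHom.comp (QuotientGroup.mk' O))
    (e48.surjective.comp (QuotientGroup.mk'_surjective O)) (by
      have : (e48.toMonoidHom.comp (QuotientGroup.mk' O)).ker = O := by
        ext c; simp
      rw [this]
      exact fun hd => by obtain ⟨a, ha⟩ := hOodd; omega)
  have hres : Cfsg.pResidual 2 G = ⊤ := Invol.SmallCent.pResidual_eq_top fun hc => h.nonab (by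
    haveI := hc; exact ⟨⟨fun a b => (IsCyclic.commGroup (α := G)).mul_comm a b⟩⟩)
  rcases S2916.result hres t ht ⟨eC⟩ with ⟨F, iF, iFf, hF, ⟨eG⟩⟩ | hM
  swap
  · exact hM
  exfalso
  obtain ⟨es⟩ := exists_sl_zmod hF
  refine h.false_psl_three (by rw [hF]; decide) ?_ eG
  have := len_map_any es.toMonoidHom es.injective len_sl_three
  rwa [map_top_of_surjective _ es.surjective] at this

theorem Hyp.wr_small (h : Hyp G) {S : Sylow 2 G} {n : ℕ} {x y z : ↥(S : Subgroup G)}
    (hw : Invol.WR _ n x y z) {t : G} (hu : hw.gE (Invol.hh n) (Invol.hh n) = t)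
    (e : ↥(commutator (↥(centralizer ({t} : Set G)) ⧸ Cfsg.oddCore ↥(centralizer ({t} : Set G)))) ≃* S₃) :
    ∃ (F : Type) (_ : Field F) (_ : Fintype F), Fintype.card F = 9 ∧ Nonempty (G ≃* Cfsg.PSU 3 F 3) := by
  classical
  haveI : Fact (Nat.Prime 2) := ⟨Nat.prime_two⟩
  haveI := h.simple
  have hSC : (S : Subgroup G) ≤ centralizer {t} := fun s hs => by
    rw [mem_centralizer_singleton_iff, ← hu]
    exact congrArg Subtype.val (mem_center_iff.mp
      (hw.mem_center_el.mpr ⟨0, by ring⟩ : hw.el (Invol.hh n) (Invol.hh n) ∈ _) ⟨s, hs⟩)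
  have ht : orderOf t = 2 := by rw [← hu]; exact (orderOf_coe _).trans hw.orderOf_w
  set O := Cfsg.oddCore ↥(centralizer ({t} : Set G)) with hO
  haveI hOn : O.Normal := Grp.pPrimeCore_isNormal
  have hOodd : Odd (Nat.card O) := Nat.coprime_two_right.1 Grp.pPrimeCore_coprime
  -- the order is 96
  have hC6 := h.solvable_len (three_solvable e) (h.centralizer_ne_top (fun e => by
    rw [e, orderOf_one] at ht; norm_num at ht))
  have hd1 : 2 ^ (2 * n + 1) ∣ Nat.card ↥(centralizer ({t} : Set G)) := hw.card ▸ card_dvd_of_le hSC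
  have hq1 := O.card_mul_index
  have hq2 := (commutator (↥(centralizer ({t} : Set G)) ⧸ O)).card_mul_index
  rw [Nat.card_congr e.toEquiv, card_sl_three, ← index_eq_card] at hq2
  have hd3 : 3 ∣ Nat.card ↥(centralizer ({t} : Set G)) := by
    rw [← hq1, ← hq2]
    exact Dvd.dvd.mul_left (Dvd.dvd.mul_right (by norm_num) _) _
  have hd96 : 2 ^ (2 * n + 1) * 3 ∣ Nat.card ↥(centralizer ({t} : Set G)) :=
    Nat.Coprime.mul_dvd_of_dvd_of_dvd (Nat.Coprime.pow_left _ (by norm_num)) hd1 hd3
  obtain ⟨k, hk⟩ := hd96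
  have hk0 : k ≠ 0 := fun h0 => by rw [h0, mul_zero] at hk; exact (Nat.card_pos).ne' hk
  rw [hk, (Nat.perm_primeFactorsList_mul (by positivity) hk0).length_eq, List.length_append,
    (Nat.perm_primeFactorsList_mul (by positivity) (by norm_num)).length_eq, List.length_append,
    Nat.prime_two.primeFactorsList_pow, List.length_replicate, Nat.primeFactorsList_prime Nat.prime_three,
    List.length_singleton] at hC6
  have hn := hw.hn
  obtain rfl : n = 2 := by omega
  have hk1 : k = 1 := ((Nat.primeFactorsList_eq_nil k).1 (List.length_eq_zero_iff.1 (by omega))).resolve_left hk0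
  rw [hk1, mul_one] at hk
  norm_num at hk
  have hO1 : O = ⊥ := by
    rw [← Subgroup.card_eq_one]
    obtain ⟨a, ha⟩ := hOodd
    have hdvd : Nat.card O ∣ 32 * 3 := by norm_num; exact hk ▸ card_subgroup_dvd_card O
    have h3' : Nat.card O ∣ 3 := (Nat.Coprime.pow_right 5 (Nat.coprime_two_right.2 ⟨a, ha⟩)).dvd_of_dvd_mul_left hdvd
    rcases (Nat.dvd_prime Nat.prime_three).1 h3' with h1 | h1
    · exact h1
    · exfalso
      rw [h1, hk] at hq1
      omega
  let q0 : ↥(centralizer ({t} : Set G)) ⧸ O ≃* ↥(centralizer ({t} : Set G)) :=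
    (QuotientGroup.quotientMulEquivOfEq hO1).trans QuotientGroup.quotientBot
  let φ : S₃ →* ↥(centralizer ({t} : Set G)) :=
    q0.toMonoidHom.comp ((commutator (↥(centralizer ({t} : Set G)) ⧸ O)).subtype.comp e.symm.toMonoidHom)
  have hφ : Function.Injective φ := q0.injective.comp ((Subgroup.subtype_injective _).comp e.symm.injective)
  have hφr : φ.range = commutator ↥(centralizer ({t} : Set G)) := by
    rw [MonoidHom.range_comp, MonoidHom.range_comp, MonoidHom.range_eq_top.2 e.symm.surjective,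
      ← MonoidHom.range_eq_map, range_subtype, _root_.commutator_def, map_commutator,
      map_top_of_surjective _ q0.surjective, ← _root_.commutator_def]
  haveI hLn : φ.range.Normal := hφr ▸ inferInstance
  let inc : ↥(S : Subgroup G) →* ↥(centralizer ({t} : Set G)) := Subgroup.inclusion hSC
  have hinc : Function.Injective inc := Subgroup.inclusion_injective hSC
  have hh2 : Invol.hh 2 = 2 := by norm_num [Invol.hh]
  have htmem : inc (hw.el (Invol.hh 2) (Invol.hh 2)) ∈ φ.range := by
    have h1 : hw.el (Invol.hh 2) (Invol.hh 2) ∈ commutator ↥(S : Subgroup G) := by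
      rw [hw.commutator_eq, Subgroup.mem_zpowers_iff]
      exact ⟨2, by rw [hw.el_zpow, hw.el_eq, hh2]; exact ⟨⟨0, by ring⟩, ⟨-1, by ring⟩⟩⟩
    rw [hφr]
    have h2' := mem_map_of_mem inc h1
    rw [_root_.commutator_def, Subgroup.map_commutator] at h2'
    exact commutator_mono le_top le_top h2'
  set c0 := inc x with hc0
  have hc4 : c0 ^ 4 = 1 := by
    rw [hc0, ← map_pow, show (4 : ℕ) = 2 ^ 2 by norm_num, ← hw.ox, pow_orderOf_eq_one, map_one]
  have hc2 : c0 ^ 2 ∉ φ.range := fun hm => by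
    have e1 : x ^ 2 = hw.el (Invol.hh 2) 0 := by
      rw [hh2, Invol.WR.el, zpow_zero, mul_one, ← zpow_natCast]
      rfl
    rw [hc0, ← map_pow, e1] at hm
    exact hw.half_ne_w (hinc (range_involution_eq (by decide : (2 : ZMod 3) ≠ 0) φ hφ hm htmem
      ((orderOf_injective inc hinc _).trans hw.orderOf_half) ((orderOf_injective inc hinc _).trans hw.orderOf_w)))
  have hcL : ∀ i < 4, c0 ^ i ∈ φ.range → i = 0 := by
    intro i hi hm
    interval_cases i
    · rfl
    · exact absurd (pow_mem (pow_one c0 ▸ hm) 2) hc2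
    · exact absurd hm hc2
    · refine absurd ?_ hc2
      have := pow_mem hm 2
      rwa [← pow_mul, show 3 * 2 = 4 + 2 from rfl, pow_add, hc4, one_mul] at this
  let α : S₃ ≃* S₃ := (MonoidHom.ofInjective hφ).trans
    ((MulAut.conjNormal (H := φ.range) c0).trans (MonoidHom.ofInjective hφ).symm)
  have hα : ∀ k, c0 * φ k * c0⁻¹ = φ (α k) := fun k => by
    have := congrArg Subtype.val
      ((MonoidHom.ofInjective hφ).apply_symm_apply (MulAut.conjNormal c0 (MonoidHom.ofInjective hφ k)))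
    rw [MonoidHom.ofInjective_apply, MulAut.conjNormal_apply, MonoidHom.ofInjective_apply] at this
    exact this.symm
  obtain ⟨m, hm⟩ := exists_conj_three α
  have hC96 : Nat.card ↥(centralizer ({t} : Set G)) = 4 * Nat.card S₃ := by rw [card_sl_three, hk]
  -- every element is a power of `c0` times an element of the derived group
  have hdec : ∀ c, ∃ k, ∃ i < 4, c = φ k * c0 ^ i := by
    let g : S₃ × Fin 4 → ↥(centralizer ({t} : Set G)) := fun a => φ a.1 * c0 ^ (a.2 : ℕ)
    have key : ∀ (k l : S₃) (a b : Fin 4), (a : ℕ) ≤ b → φ k * c0 ^ (a : ℕ) = φ l * c0 ^ (b : ℕ) → k = l ∧ a = b := by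
      intro k l a b hab e1
      rw [show (b : ℕ) = (b - a) + a by omega, pow_add, ← mul_assoc, mul_left_inj] at e1
      have h0 := hcL ((b : ℕ) - a) (by omega) ⟨l⁻¹ * k, by rw [map_mul, map_inv, e1, inv_mul_cancel_left]⟩
      rw [h0, pow_zero, mul_one] at e1
      exact ⟨hφ e1, Fin.ext (by omega)⟩
    have hgi : Function.Injective g := by
      rintro ⟨k, i⟩ ⟨l, i'⟩ e1
      rcases le_total (i : ℕ) (i' : ℕ) with hle | hle
      · obtain ⟨rfl, rfl⟩ := key k l i i' hle e1; rfl
      · obtain ⟨rfl, rfl⟩ := key l k i' i hle e1.symm; rfl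
    have hgb := (Nat.bijective_iff_injective_and_card g).2 ⟨hgi, by rw [Nat.card_prod, Nat.card_fin, hC96, mul_comm]⟩
    intro c
    obtain ⟨⟨k, i⟩, rfl⟩ := hgb.2 c
    exact ⟨k, i, i.2, rfl⟩
  have hpow : ∀ (i : ℕ) (k : S₃), c0 ^ i * φ k * (c0 ^ i)⁻¹ = φ ((α : S₃ → S₃)^[i] k) := by
    intro i
    induction i with
    | zero => intro k; simp
    | succ i ih =>
      intro k
      rw [Function.iterate_succ_apply', ← hα, ← ih, pow_succ']
      group
  have hmi : ∀ (i : ℕ) (k : S₃), toG ((α : S₃ → S₃)^[i] k) = m ^ i * toG k * (m ^ i)⁻¹ := by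
    intro i
    induction i with
    | zero => intro k; simp
    | succ i ih =>
      intro k
      rw [Function.iterate_succ_apply', hm, ih, pow_succ']
      group
  obtain ⟨l, hl⟩ := scalar_of_commute (g := m ^ 4) fun s => by
    have h1 := hpow 4 s
    rw [hc4, inv_one, mul_one, one_mul] at h1
    have h2' := hmi 4 s
    rw [← hφ h1] at h2'
    exact (mul_inv_eq_iff_eq_mul.1 h2'.symm).trans rfl
  have hm2 : ∀ e' : (ZMod 3)ˣ, m * m ≠ GeneralLinearGroup.scalar (Fin 2) e' := by
    intro e' he'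
    have hcomm : ∀ k, c0 ^ 2 * φ k = φ k * c0 ^ 2 := fun k => by
      have h1 := hpow 2 k
      have h2' : (α : S₃ → S₃)^[2] k = k := Matrix.SpecialLinearGroup.toGL_injective (by
        rw [hmi, sq, he', ← scalar_comm, mul_inv_cancel_right])
      rw [h2'] at h1
      exact mul_inv_eq_iff_eq_mul.1 h1
    have hcen : ∀ c, c * c0 ^ 2 = c0 ^ 2 * c := fun c => by
      obtain ⟨k, i, -, rfl⟩ := hdec c
      rw [mul_assoc, ← pow_add, add_comm, pow_add, ← mul_assoc, ← mul_assoc, hcomm]
    have hS : x ^ 2 ∈ center ↥(S : Subgroup G) := mem_center_iff.2 fun s => hinc (by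
      rw [map_mul, map_mul, map_pow]; exact hcen _)
    rw [show x ^ 2 = hw.el 2 0 by rw [Invol.WR.el, zpow_zero, mul_one, ← zpow_natCast]; rfl, hw.mem_center_el] at hS
    rw [hh2] at hS
    omega
  obtain ⟨hdm, hz⟩ := three_order_four (m := m) (z := l) (by rw [← hl]; simp only [pow_succ, pow_zero, one_mul, mul_assoc]) hm2
  subst hz
  let L := GaloisField 3 2
  letI : Fintype L := Fintype.ofFinite _
  have hodd : Odd (Fintype.card (ZMod 3)) := by rw [ZMod.card]; decide
  have hL : Module.finrank (ZMod 3) L = 2 := GaloisField.finrank 3 two_ne_zero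
  have hcardL : Fintype.card L = 9 := by
    rw [← Nat.card_eq_fintype_card, GaloisField.card 3 2 two_ne_zero]; norm_num
  obtain ⟨c, hc⟩ := Invol.BrauerL3.GU.exists_root (A := Lˣ) (a := 2) (b := 4) (x := -1)
    (by rw [Invol.BrauerL3.GU.card_units_L hL, ZMod.card]) neg_one_sq
  have hemb : Block.SL2Char.emb (F := ZMod 3) L (-1) = -1 := Units.ext (by rw [Block.SL2Char.emb_val]; simp)
  have hmem : (c, m) ∈ Invol.BrauerL3.GU.Gam (ZMod 3) L := by
    rw [Invol.BrauerL3.GU.mem_Gam, ZMod.card, show (3 + 1 : ℕ) = 4 from rfl, hc,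
      show Block.SL2Char.detu m = -1 from hdm]
    rw [hemb, neg_mul_neg, one_mul]
  set Ψ := Invol.BrauerL3.GU.Psi (k := ZMod 3) (L := L) hL hodd with hΨ
  let up : S₃ →* Invol.BrauerL3.GU.Gam (ZMod 3) L :=
    ((MonoidHom.inr Lˣ G₃).comp toG).codRestrict _ fun s => by
      show ((1 : Lˣ), toG s) ∈ _
      rw [Invol.BrauerL3.GU.mem_Gam, show Block.SL2Char.detu (toG s) = 1 from Units.ext s.2, map_one, one_pow,
        mul_one]
  have hsc : ∀ w : (ZMod 3)ˣ, Block.SL2Char.sc w = GeneralLinearGroup.scalar (Fin 2) w := fun w =>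
    Units.ext (Matrix.ext fun i j => by fin_cases i <;> fin_cases j <;> simp [Block.SL2Char.sc_val])
  have hne : (-1 : Lˣ) ≠ 1 := fun e1 => by
    have h2L := Invol.BrauerL3.GU.two_ne (k := ZMod 3) (L := L) hL hodd
    have : (-1 : L) = 1 := by simpa using congrArg Units.val e1
    exact h2L (by linear_combination -this)
  suffices hiso : Nonempty (↥(centralizer ({t} : Set G)) ≃* Cfsg.GU 2 L (Fintype.card (ZMod 3))) by
    have key : ∀ q : ℕ, q = Fintype.card (ZMod 3) → Nonempty (↥(centralizer ({t} : Set G)) ≃* Cfsg.GU 2 L q) := by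
      rintro q rfl; exact hiso
    obtain ⟨eC⟩ := key 3 (ZMod.card 3).symm
    obtain ⟨eG⟩ := S0485.result 3 (by decide) (show Fintype.card L = 3 ^ 2 by rw [hcardL]; norm_num) ⊥ bot_le
      (by rw [card_bot]; exact odd_one) t ht ⟨eC.trans QuotientGroup.quotientBot.symm⟩
    exact ⟨L, inferInstance, inferInstance, hcardL, ⟨eG⟩⟩
  refine iso_of_cyclic (n := 4) φ hφ hc4 hcL (Ψ.comp up) ?_ (M := Ψ ⟨(c, m), hmem⟩) ?_ ?_ α hα ?_ hC96 ?_
  · refine (injective_iff_map_eq_one _).2 fun k hk => ?_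
    obtain ⟨w, hw1, hw2⟩ := (Invol.BrauerL3.GU.Psi_eq_one hL hodd).1 hk
    change (1 : Lˣ) * _ = 1 at hw2
    rw [one_mul] at hw2
    have hw' : w = 1 := Block.SL2Char.emb_injective L (hw2.trans (map_one _).symm)
    subst hw'
    rw [hsc, map_one] at hw1
    exact Matrix.SpecialLinearGroup.toGL_injective (hw1.trans (map_one _).symm)
  · rw [← map_pow, hΨ, Invol.BrauerL3.GU.Psi_eq_one hL hodd]
    refine ⟨-1, ?_, ?_⟩
    · show m ^ 4 = _
      rw [hsc, hl]
    · show c ^ 4 * _ = 1
      rw [hc]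
      rw [hemb, neg_mul_neg, one_mul]
  · intro i hi hm'
    obtain ⟨k, hk⟩ := hm'
    have h1 : Ψ ((up k)⁻¹ * ⟨(c, m), hmem⟩ ^ i) = 1 := by
      rw [map_mul, map_inv, map_pow]
      exact inv_mul_eq_one.2 hk
    obtain ⟨w, hw1, hw2⟩ := (Invol.BrauerL3.GU.Psi_eq_one hL hodd).1 h1
    change (toG k)⁻¹ * m ^ i = _ at hw1
    change (1 : Lˣ)⁻¹ * c ^ i * _ = 1 at hw2
    rw [inv_one, one_mul] at hw2
    have hd := congrArg GeneralLinearGroup.det hw1
    rw [hsc, scalar_det, map_mul, map_inv, map_pow, hdm, show GeneralLinearGroup.det (toG k) = 1 from Units.ext k.2,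
      inv_one, one_mul] at hd
    have hww : w * w = 1 := (by decide : ∀ z : (ZMod 3)ˣ, z * z = 1) w
    rw [hww] at hd
    interval_cases i
    · rfl
    · exact absurd hd (by decide)
    · exfalso
      have := congrArg (fun z : Lˣ => z * z) hw2
      simp only [mul_one] at this
      rw [mul_mul_mul_comm, ← map_mul, hww, map_one, mul_one, ← pow_add, show 2 + 2 = 4 from rfl, hc] at this
      exact hne this
    · exact absurd hd (by decide)
  · intro k
    rw [MonoidHom.comp_apply, MonoidHom.comp_apply, ← map_inv, ← map_mul, ← map_mul]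
    refine congrArg _ (Subtype.ext (Prod.ext ?_ ?_))
    · show c * 1 * c⁻¹ = 1
      rw [mul_one, mul_inv_cancel]
    · show m * toG k * m⁻¹ = toG (α k)
      rw [hm]
  · have hgu : (Nat.card (Cfsg.GU 2 L (Fintype.card (ZMod 3))) : ℤ) = 96 :=
      (Invol.TwoSylowGLTwo.card_GU_two (by rw [hcardL, ZMod.card]; norm_num)).trans (by rw [ZMod.card]; norm_num)
    rw [card_sl_three]
    exact_mod_cast hgu

end Cfsg.Agent.Fus.LenSeven
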