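import Cfsg.Agent.Lib.Fus.LengthSeven.SixtyFour
import Cfsg.Agent.Lib.Fus.LengthSeven.Normal

/-!
# An elementary essential subgroup of order 8 in a Sylow subgroup of order 32 (for S3249)
-/

set_option autoImplicit false
set_option linter.style.haveILetI false

namespace Cfsg.Agent.Fus.LenSeven

open Subgroup LenEight
open scoped commutatorElement

universe u

/-- The elements of `S` centralising the commutator subgroup of `S`. -/
abbrev cenD {G : Type u} [Group G] (S : Sylow 2 G) : Subgroup G :=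
  (S : Subgroup G) ⊓ centralizer ((⁅(S : Subgroup G), (S : Subgroup G)⁆ : Subgroup G) : Set G)

variable {G : Type u} [Group G] [Finite G] {S : Sylow 2 G} {U : Subgroup G} {c w v : G}
  (hb : Big G S) (h5 : Nat.card (S : Subgroup G) = 32) (hU : Ess S U) (he : Ety S U c w v)
include hb h5 hU he

theorem Ety.card_der : Nat.card ↥⁅(S : Subgroup G), (S : Subgroup G)⁆ = 4 := by
  have := (he.class_eq hb hU he.hv he.vI).1
  omega

theorem Ety.der_invol {d : G} (hd : d ∈ ⁅(S : Subgroup G), (S : Subgroup G)⁆) (hd2 : d * d = 1) :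
    d = 1 ∨ d = w := by
  set D := ⁅(S : Subgroup G), (S : Subgroup G)⁆ with hD
  have hmem : ∀ x ∈ D, x * x = 1 → x ∈ U := fun x hx hx2 => by
    rw [← he.cent_outer hU he.hv he.vI]
    refine ⟨commutator_le_S hx, mem_centralizer_singleton_iff.2 ?_⟩
    have h1 := he.inverts_v hb hU hx
    rw [inv_eq_of_mul_eq_one_right hx2, mul_inv_eq_iff_eq_mul] at h1
    exact h1.symm
  by_contra! hne
  have hlt : D ⊓ U < D := lt_of_le_of_ne inf_le_left fun e => he.not_der_le hU h5.ge (inf_eq_left.1 e)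
  have h1 := double_le (S := S) commutator_le_S hlt
  rw [he.card_der hb h5 hU] at h1
  have h3 : 2 < Nat.card ↥(D ⊓ U) := by
    classical
    haveI : Fintype ↥(D ⊓ U) := Fintype.ofFinite _
    rw [Nat.card_eq_fintype_card]
    exact Fintype.two_lt_card_iff.2 ⟨1, ⟨d, hd, hmem d hd hd2⟩, ⟨w, he.wD, he.hw⟩,
      fun e => hne.1 (congrArg Subtype.val e).symm, fun e => he.w1 (congrArg Subtype.val e).symm,
      fun e => hne.2 (congrArg Subtype.val e)⟩
  omega

theorem Ety.der_sq {d : G} (hd : d ∈ ⁅(S : Subgroup G), (S : Subgroup G)⁆) : d * d = 1 ∨ d * d = w := by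
  refine he.der_invol hb h5 hU (mul_mem hd hd) ?_
  have h := congrArg Subtype.val (pow_card_eq_one' (x := (⟨d, hd⟩ : ↥⁅(S : Subgroup G), (S : Subgroup G)⁆)))
  rw [he.card_der hb h5 hU] at h
  simpa [pow_succ, mul_assoc] using h

theorem Ety.der_cases {d e : G} (hd : d ∈ ⁅(S : Subgroup G), (S : Subgroup G)⁆) (hd2 : d * d ≠ 1)
    (hee : e ∈ ⁅(S : Subgroup G), (S : Subgroup G)⁆) (he2 : e * e ≠ 1) : e = d ∨ e = d * w := by
  have h1 : d⁻¹ * e * (d⁻¹ * e) = 1 := by
    calc d⁻¹ * e * (d⁻¹ * e) = d⁻¹ * (e * d⁻¹) * e := by group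
      _ = d⁻¹ * (d⁻¹ * e) * e := by rw [he.der_comm hb hU hee (inv_mem hd)]
      _ = (d * d)⁻¹ * (e * e) := by group
      _ = 1 := by rw [(he.der_sq hb h5 hU hd).resolve_left hd2, (he.der_sq hb h5 hU hee).resolve_left he2,
            inv_mul_cancel]
  rcases he.der_invol hb h5 hU (mul_mem (inv_mem hd) hee) h1 with h | h
  · exact Or.inl (inv_mul_eq_one.1 h).symm
  · exact Or.inr (inv_mul_eq_iff_eq_mul.1 h)

theorem Ety.w_central : ∀ s ∈ (S : Subgroup G), s * w = w * s := fun s hs => by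
  refine mul_inv_eq_iff_eq_mul.1 ((he.der_invol hb h5 hU (commutator_conj hs he.wD) ?_).resolve_left fun e =>
    he.w1 (conj_eq_one_iff.1 e))
  rw [show s * w * s⁻¹ * (s * w * s⁻¹) = s * (w * w) * s⁻¹ by group, he.sq w he.hw, mul_one, mul_inv_cancel]

theorem Ety.c_not_der : c ∉ ⁅(S : Subgroup G), (S : Subgroup G)⁆ := fun h => by
  rcases he.der_invol hb h5 hU h (he.sq c he.hc) with e | e
  · exact he.c1 e
  · exact he.wc e.symm

theorem Ety.act_cases {s : G} (hs : s ∈ (S : Subgroup G)) :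
    (∀ d ∈ ⁅(S : Subgroup G), (S : Subgroup G)⁆, s * d * s⁻¹ = d) ∨
      ∀ d ∈ ⁅(S : Subgroup G), (S : Subgroup G)⁆, s * d * s⁻¹ = d⁻¹ := by
  obtain ⟨d0, hd0, hd02⟩ := he.exists_not_sq hb hU h5.ge
  have hw := he.w_central hb h5 hU s hs
  have hww := he.sq w he.hw
  have hd0i : d0⁻¹ = d0 * w := by
    refine inv_eq_of_mul_eq_one_right ?_
    rw [← mul_assoc, (he.der_sq hb h5 hU hd0).resolve_left hd02, hww]
  have hcase := he.der_cases hb h5 hU hd0 hd02 (commutator_conj hs hd0) (fun e => hd02 (by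
    rwa [show s * d0 * s⁻¹ * (s * d0 * s⁻¹) = s * (d0 * d0) * s⁻¹ by group, conj_eq_one_iff] at e))
  have hgen : ∀ d ∈ ⁅(S : Subgroup G), (S : Subgroup G)⁆, d = 1 ∨ d = w ∨ d = d0 ∨ d = d0 * w := by
    intro d hd
    by_cases hd2 : d * d = 1
    · rcases he.der_invol hb h5 hU hd hd2 with h | h <;> simp [h]
    · rcases he.der_cases hb h5 hU hd0 hd02 hd hd2 with h | h <;> simp [h]
  have hwfix : s * w * s⁻¹ = w := mul_inv_eq_iff_eq_mul.2 hw
  rcases hcase with h | h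
  · refine Or.inl fun d hd => ?_
    rcases hgen d hd with rfl | rfl | rfl | rfl
    · simp
    · exact hwfix
    · exact h
    · rw [show s * (d0 * w) * s⁻¹ = s * d0 * s⁻¹ * (s * w * s⁻¹) by group, h, hwfix]
  · refine Or.inr fun d hd => ?_
    rcases hgen d hd with rfl | rfl | rfl | rfl
    · simp
    · rw [hwfix, inv_eq_of_mul_eq_one_right hww]
    · rw [h, hd0i]
    · rw [show s * (d0 * w) * s⁻¹ = s * d0 * s⁻¹ * (s * w * s⁻¹) by group, h, hwfix, mul_inv_rev, hd0i,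
        inv_eq_of_mul_eq_one_right hww, mul_assoc, hww, mul_one, ← mul_assoc,
        ← he.w_central hb h5 hU d0 (commutator_le_S hd0), mul_assoc, hww, mul_one]

theorem Ety.not_mem_A {s : G} (hinv : ∀ d ∈ ⁅(S : Subgroup G), (S : Subgroup G)⁆, s * d * s⁻¹ = d⁻¹) :
    s ∉ cenD S := fun h => by
  obtain ⟨d, hd, hd2⟩ := he.exists_not_sq hb hU h5.ge
  have h1 := hinv d hd
  rw [← mem_centralizer_iff.1 h.2 d hd, mul_inv_cancel_right] at h1
  exact hd2 (mul_eq_one_iff_eq_inv.2 h1)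

theorem Ety.mem_A {s : G} (hs : s ∈ (S : Subgroup G))
    (hc : ∀ d ∈ ⁅(S : Subgroup G), (S : Subgroup G)⁆, s * d * s⁻¹ = d) :
    s ∈ cenD S :=
  ⟨hs, mem_centralizer_iff.2 fun d hd => (mul_inv_eq_iff_eq_mul.1 (hc d hd)).symm⟩

theorem Ety.index_A :
    (cenD S).relIndex
      (S : Subgroup G) = 2 := by
  rw [relIndex, index_eq_two_iff]
  refine ⟨⟨v, hU.le he.hv⟩, fun g => ?_⟩
  rw [xor_def, mem_subgroupOf, mem_subgroupOf, coe_mul]
  rcases he.act_cases hb h5 hU g.2 with h | h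
  · refine Or.inr ⟨he.mem_A hb h5 hU g.2 h, he.not_mem_A hb h5 hU fun d hd => ?_⟩
    rw [show (g : G) * v * d * ((g : G) * v)⁻¹ = g * (v * d * v⁻¹) * (g : G)⁻¹ by group, he.inverts_v hb hU hd,
      h _ (inv_mem hd)]
  · refine Or.inl ⟨he.mem_A hb h5 hU (mul_mem g.2 (hU.le he.hv)) fun d hd => ?_, he.not_mem_A hb h5 hU h⟩
    rw [show (g : G) * v * d * ((g : G) * v)⁻¹ = g * (v * d * v⁻¹) * (g : G)⁻¹ by group, he.inverts_v hb hU hd,
      h _ (inv_mem hd), inv_inv]

theorem Ety.card_A :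
    Nat.card ↥(cenD S) = 16 := by
  have h := Grp.card_mul_relIndex (show cenD S ≤ (S : Subgroup G) from inf_le_left)
  rw [he.index_A hb h5 hU, h5] at h
  omega

theorem Ety.c_mem_A : c ∈ cenD S :=
  he.mem_A hb h5 hU (hU.le he.hc) fun _ hd => he.cent_I hb hU (by simp) hd

theorem Ety.der_le_A : ⁅(S : Subgroup G), (S : Subgroup G)⁆ ≤
    cenD S := fun _ hd =>
  ⟨commutator_le_S hd, mem_centralizer_iff.2 fun _ he' => he.der_comm hb hU he' hd⟩

/-- An involution centralising `D` that almost commutes with `c` and `v` lies in `U`. -/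
theorem Ety.invol_mem {x : G}
    (hx : x ∈ cenD S) (hx2 : x * x = 1)
    (hxc : x * c * x⁻¹ = c ∨ x * c * x⁻¹ = c * w) (hxv : v * x * v⁻¹ = x ∨ v * x * v⁻¹ = w * x) : x ∈ U := by
  have hw := he.w_central hb h5 hU x hx.1
  have hwx : x * w * x⁻¹ = w := mul_inv_eq_iff_eq_mul.2 hw
  have hxi : x⁻¹ = x := inv_eq_of_mul_eq_one_right hx2
  have hvi : v⁻¹ = v := inv_eq_of_mul_eq_one_right (he.sq v he.hv)
  have hcU : x * c * x⁻¹ ∈ U := by
    rcases hxc with e | e <;> rw [e]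
    exacts [he.hc, mul_mem he.hc he.hw]
  have hvU : x * v * x⁻¹ ∈ U := by
    rcases hxv with e | e
    · rw [show x * v * x⁻¹ = v from mul_inv_eq_iff_eq_mul.2 (mul_inv_eq_iff_eq_mul.1 e).symm]
      exact he.hv
    · have h1 : x * v * x⁻¹ = v * w := by
        rw [hxi]
        rw [hvi] at e
        calc x * v * x = v * (v * x * v) * x := by simp only [← mul_assoc, he.sq v he.hv, one_mul]
          _ = v * w * (x * x) := by rw [e]; simp [mul_assoc]
          _ = v * w := by rw [hx2, mul_one]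
      exact h1 ▸ mul_mem he.hv he.hw
  have hIU : ∀ i ∈ ({1, c, w, c * w} : Set G), x * i * x⁻¹ ∈ U := by
    intro i hi
    simp only [Set.mem_insert_iff, Set.mem_singleton_iff] at hi
    rcases hi with rfl | rfl | rfl | rfl
    · simp
    · exact hcU
    · rw [hwx]; exact he.hw
    · rw [show x * (c * w) * x⁻¹ = x * c * x⁻¹ * (x * w * x⁻¹) by group, hwx]; exact mul_mem hcU he.hw
  have hxN : x ∈ nS S U := by
    refine ⟨hx.1, mem_normalizer_fintype fun g hg => ?_⟩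
    obtain ⟨i, hi, hgi | hgi⟩ := he.decomp g hg <;> subst g
    · exact hIU i hi
    · rw [show x * (i * v) * x⁻¹ = x * i * x⁻¹ * (x * v * x⁻¹) by group]; exact mul_mem (hIU i hi) hvU
  obtain ⟨j, hj, hj2⟩ := he.exists_not_sq hb hU h5.ge
  have hjS : j ∈ (S : Subgroup G) := commutator_le_S hj
  have hjv : j * v * j⁻¹ = w * v := by
    calc j * v * j⁻¹ = j * (v * j⁻¹ * v⁻¹) * v := by group
      _ = w * v := by rw [he.inverts_v hb hU (inv_mem hj), inv_inv, (he.der_sq hb h5 hU hj).resolve_left hj2]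
  have hjI : ∀ i ∈ ({1, c, w, c * w} : Set G), j * i * j⁻¹ ∈ U := by
    intro i hi
    have hiU : i ∈ U := by
      simp only [Set.mem_insert_iff, Set.mem_singleton_iff] at hi
      rcases hi with rfl | rfl | rfl | rfl
      exacts [one_mem _, he.hc, he.hw, mul_mem he.hc he.hw]
    rwa [← mul_inv_eq_iff_eq_mul.1 (he.cent_I hb hU hi hj), mul_inv_cancel_right]
  have hjN : j ∈ nS S U := by
    refine ⟨hjS, mem_normalizer_fintype fun g hg => ?_⟩
    obtain ⟨i, hi, hgi | hgi⟩ := he.decomp g hg <;> subst g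
    · exact hjI i hi
    · rw [show j * (i * v) * j⁻¹ = j * i * j⁻¹ * (j * v * j⁻¹) by group, hjv]
      exact mul_mem (hjI i hi) (mul_mem he.hw he.hv)
  have hjU : j ∉ U := fun h => hj2 (he.sq j h)
  by_contra hxU
  have hm : j⁻¹ * x ∈ U := (rel_mul (rel_two hU.le_nS (by rw [he.cardT, he.card])) (inv_mem hjN) hxN).2
    (iff_of_false (fun e => hjU (inv_mem_iff.1 e)) hxU)
  have hjx : j⁻¹ * x = x * j⁻¹ := mem_centralizer_iff.1 hx.2 _ (inv_mem hj)
  refine hj2 (inv_eq_one.1 ?_)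
  calc (j * j)⁻¹ = j⁻¹ * (j⁻¹ * x) * x := by rw [mul_assoc, mul_assoc j⁻¹ x x, hx2, mul_one, mul_inv_rev]
    _ = j⁻¹ * (x * j⁻¹) * x := by rw [hjx]
    _ = j⁻¹ * x * (j⁻¹ * x) := by group
    _ = 1 := he.sq _ hm

theorem Ety.mem_I {x : G} (hxU : x ∈ U)
    (hx : x ∈ cenD S)
    (hxD : x ∉ ⁅(S : Subgroup G), (S : Subgroup G)⁆) : x = c ∨ x = c * w := by
  by_cases hI : x ∈ ({1, c, w, c * w} : Set G)
  · simp only [Set.mem_insert_iff, Set.mem_singleton_iff] at hI
    rcases hI with e | e | e | e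
    · exact absurd (e ▸ one_mem _) hxD
    · exact Or.inl e
    · exact absurd (e ▸ he.wD) hxD
    · exact Or.inr e
  · exact absurd hx (he.not_mem_A hb h5 hU fun d hd => he.inverts hb hU hxU hI hd)

/-- The involutions of `A` outside `D` centralised from outside `A`. -/
theorem Ety.invol_unique {c2 t : G}
    (hc2 : c2 ∈ cenD S)
    (hc2D : c2 ∉ ⁅(S : Subgroup G), (S : Subgroup G)⁆) (hsq : c2 * c2 = 1) (ht : t ∈ (S : Subgroup G))
    (htA : t ∉ cenD S)
    (htc : t * c2 = c2 * t) : c2 = c ∨ c2 = c * w := by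
  refine he.mem_I hb h5 hU ?_ hc2 hc2D
  by_contra hnU
  set D := ⁅(S : Subgroup G), (S : Subgroup G)⁆ with hD
  set A := cenD S with hA
  have hcA := he.c_mem_A hb h5 hU
  have hcc := he.sq c he.hc
  have hww := he.sq w he.hw
  have hcom : ∀ a ∈ A, ∀ d ∈ D, a * d = d * a := fun a ha d hd => (mem_centralizer_iff.1 ha.2 d hd).symm
  -- two involutions of `A` commute up to `w`
  have hpair : ∀ a b : G, a ∈ A → b ∈ A → a * a = 1 → a * b * a⁻¹ = b ∨ a * b * a⁻¹ = w * b := by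
    intro a b ha hb' ha2
    have hq : a * b * a⁻¹ * b⁻¹ ∈ D := commutator_mem_commutator ha.1 hb'.1
    have h2 : a * b * a⁻¹ * b⁻¹ * (a * b * a⁻¹ * b⁻¹) = 1 := by
      have hai := inv_eq_of_mul_eq_one_right ha2
      have h := mul_inv_eq_iff_eq_mul.2 (hcom a ha _ hq)
      calc a * b * a⁻¹ * b⁻¹ * (a * b * a⁻¹ * b⁻¹)
          = a * (a * b * a⁻¹ * b⁻¹) * a⁻¹ * (a * b * a⁻¹ * b⁻¹) := by rw [h]
        _ = (a * a) * b * (a * a)⁻¹ * b⁻¹ := by group
        _ = 1 := by rw [ha2, one_mul, inv_one, mul_one, mul_inv_cancel]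
    rcases he.der_invol hb h5 hU hq h2 with e | e
    · exact Or.inl (mul_inv_eq_one.1 e)
    · exact Or.inr (mul_inv_eq_iff_eq_mul.1 e)
  -- the half `A` is generated by `D`, `c`, `c2`
  set J1 := D ⊔ zpowers c with hJ1
  have hcN : c ∈ normalizer (D : Set G) := mem_normalizer_fintype fun d hd => by
    rwa [hcom c hcA d hd, mul_inv_cancel_right]
  have hmem1 : ∀ x ∈ J1, x ∈ D ∨ x * c ∈ D := fun x hx => mem_sup_sq (by rw [hcc]; exact one_mem _) hcN hx
  have hJ1A : J1 ≤ A := sup_le (he.der_le_A hb h5 hU) (zpowers_le.2 hcA)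
  have hc2J : c2 ∉ J1 := fun h => by
    rcases hmem1 c2 h with h | h
    · exact hc2D h
    · have h2 : c2 * c * (c2 * c) = 1 ∨ c2 * c * (c2 * c) = w := he.der_sq hb h5 hU h
      have h3 := hpair c2 c hc2 hcA hsq
      rw [inv_eq_of_mul_eq_one_right hsq] at h3
      have h4 : c2 * c * (c2 * c) = 1 := by
        have e : c2 * c * c2⁻¹ = c := by
          calc c2 * c * c2⁻¹ = (c2 * c) * c2⁻¹ := rfl
            _ = c2⁻¹ * (c2 * c) := (hcom c2⁻¹ (inv_mem hc2) _ h).symm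
            _ = c := inv_mul_cancel_left _ _
        rw [mul_inv_eq_iff_eq_mul] at e
        rw [mul_assoc, ← mul_assoc c c2 c, ← e, mul_assoc c2 c c, hcc, mul_one, hsq]
      rcases he.der_invol hb h5 hU h h4 with e | e
      · exact hnU (by rw [eq_inv_of_mul_eq_one_left e]; exact inv_mem he.hc)
      · refine hnU ?_
        rw [show c2 = c2 * c * c by rw [mul_assoc, hcc, mul_one], e]
        exact mul_mem he.hw he.hc
  have hc2N : c2 ∈ normalizer (J1 : Set G) := mem_normalizer_fintype fun x hx =>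
    conj_mem_of_der (sup_le commutator_le_S (zpowers_le.2 hcA.1)) le_sup_left hc2.1 hx
  have hJ2 : J1 ⊔ zpowers c2 = A := by
    refine eq_of_le_of_card_ge (sup_le hJ1A (zpowers_le.2 hc2)) ?_
    have l1 : D < J1 := lt_of_le_of_ne le_sup_left fun e =>
      he.c_not_der hb h5 hU (e.ge (mem_sup_right (mem_zpowers c)))
    have l2 : J1 < J1 ⊔ zpowers c2 := lt_of_le_of_ne le_sup_left fun e =>
      hc2J (e.ge (mem_sup_right (mem_zpowers c2)))
    have h1 := double_le (S := S) (hJ1A.trans inf_le_left) l1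
    have h2 := double_le (S := S) (sup_le (hJ1A.trans inf_le_left) (zpowers_le.2 hc2.1)) l2
    rw [he.card_A hb h5 hU]
    rw [he.card_der hb h5 hU] at h1
    omega
  have hconj : ∀ α ∈ A, α * c2 * α⁻¹ = c2 ∨ α * c2 * α⁻¹ = w * c2 := by
    have hb1 : ∀ β ∈ J1, β * c2 * β⁻¹ = c2 ∨ β * c2 * β⁻¹ = w * c2 := fun β hβ => by
      rcases hmem1 β hβ with h | h
      · exact Or.inl (by rw [← hcom c2 hc2 β h, mul_inv_cancel_right])
      · have e : ∀ x ∈ A, β * c * x * (β * c)⁻¹ = x := fun x hx => by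
          rw [← hcom x hx _ h, mul_inv_cancel_right]
        rw [show β * c2 * β⁻¹ = β * c * (c⁻¹ * c2 * c⁻¹⁻¹) * (β * c)⁻¹ by group, inv_inv,
          inv_eq_of_mul_eq_one_right hcc, e _ (mul_mem (mul_mem hcA hc2) hcA)]
        simpa [inv_eq_of_mul_eq_one_right hcc] using hpair c c2 hcA hc2 hcc
    intro α hα
    rcases mem_sup_sq (by rw [hsq]; exact one_mem _) hc2N (hJ2.ge hα) with h | h
    · exact hb1 α h
    · have := hb1 _ h
      rwa [show α * c2 * c2 * (α * c2)⁻¹ = α * c2 * α⁻¹ by group] at this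
  have hα : t * v⁻¹ ∈ A := (rel_mul (he.index_A hb h5 hU) ht (inv_mem (hU.le he.hv))).2
    (iff_of_false htA fun e => he.not_mem_A hb h5 hU (fun d hd => he.inverts_v hb hU hd) (inv_mem_iff.1 e))
  refine hnU (he.invol_mem hb h5 hU hc2 hsq ?_ ?_)
  · rcases hpair c2 c hc2 hcA hsq with e | e
    · exact Or.inl e
    · exact Or.inr (by rw [e, ← he.w_central hb h5 hU c hcA.1])
  · have hq : v * c2 * v⁻¹ * c2⁻¹ ∈ D := commutator_mem_commutator (hU.le he.hv) hc2.1
    have h1 : t * v⁻¹ * (v * c2 * v⁻¹) * (t * v⁻¹)⁻¹ = c2 := by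
      rw [show t * v⁻¹ * (v * c2 * v⁻¹) * (t * v⁻¹)⁻¹ = t * c2 * t⁻¹ by group, htc, mul_inv_cancel_right]
    rw [show v * c2 * v⁻¹ = v * c2 * v⁻¹ * c2⁻¹ * c2 by group] at h1 ⊢
    generalize v * c2 * v⁻¹ * c2⁻¹ = q at hq h1 ⊢
    rw [show t * v⁻¹ * (q * c2) * (t * v⁻¹)⁻¹ = (t * v⁻¹) * q * (t * v⁻¹)⁻¹ * ((t * v⁻¹) * c2 * (t * v⁻¹)⁻¹) by
      group, mul_inv_eq_iff_eq_mul.2 (hcom _ hα q hq)] at h1
    rcases hconj _ hα with e | e <;> rw [e] at h1
    · exact Or.inl h1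
    · refine Or.inr ?_
      rw [show q = w from mul_right_cancel (b := w) (by
        rw [hww]; exact mul_right_cancel (b := c2) (by rw [mul_assoc, h1, one_mul]))]

end Cfsg.Agent.Fus.LenSeven
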