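import Cfsg.Agent.Lib.Fus.LengthSeven.ThirtyTwoE

/-!
# No elementary essential subgroup of order 8 with a Sylow subgroup of order 32 (for S3249)
-/

set_option autoImplicit false
set_option linter.style.haveILetI false

namespace Cfsg.Agent.Fus.LenSeven

open Subgroup LenEight
open scoped commutatorElement

universe u

variable {G : Type u} [Group G] [Finite G] {S : Sylow 2 G} {U : Subgroup G} {c w v : G}
  (hb : Big G S) (h5 : Nat.card (S : Subgroup G) = 32) (hU : Ess S U) (he : Ety S U c w v)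
include hb h5 hU he

/-- An essential subgroup of order 16 is nonabelian and does not centralise `D`. -/
theorem Ety.sixteen_shape {V : Subgroup G} (hV : Ess S V) (h16 : Nat.card V = 16) :
    (∃ p ∈ V, ∃ q ∈ V, p * q ≠ q * p) ∧ ∃ s ∈ V, s ∉ cenD S := by
  obtain ⟨hS, hi⟩ := hV.nS_eq h5 h16
  have h32 : Nat.card (nS S V) = 32 := by rw [hS, h5]
  have hDV : ⁅(S : Subgroup G), (S : Subgroup G)⁆ ≤ V := der_le hi
  have hvS := hU.le he.hv
  have hvA : v ∉ cenD S := he.not_mem_A hb h5 hU fun d hd => he.inverts_v hb hU hd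
  have hvT : v ∈ nS S V := hS.ge hvS
  have heqA : V ≤ cenD S → V = cenD S := fun h => eq_of_le_of_card_ge h (by rw [he.card_A hb h5 hU, h16])
  have hcom : ∀ a ∈ cenD S, ∀ d ∈ ⁅(S : Subgroup G), (S : Subgroup G)⁆, a * d = d * a :=
    fun a ha d hd => (mem_centralizer_iff.1 ha.2 d hd).symm
  have hna : ∃ p ∈ V, ∃ q ∈ V, p * q ≠ q * p := by
    by_contra! hab
    have hVA := heqA fun x hx => ⟨hV.le hx, mem_centralizer_iff.2 fun d hd => hab d (hDV hd) x hx⟩
    have hvV : v ∉ V := fun h => hvA (hVA ▸ h)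
    obtain ⟨x, hx, hx2, hvx⟩ := hV.exists_invol_moved hb h32 hab hvT hvV
    have hxA : x ∈ cenD S := hVA ▸ hx
    have hq : v * x * v⁻¹ * x⁻¹ ∈ ⁅(S : Subgroup G), (S : Subgroup G)⁆ := commutator_mem_commutator hvS hxA.1
    have hcm : c * x = x * c := hab c (hVA ▸ he.c_mem_A hb h5 hU) x hx
    have hxU : x ∈ U := by
      refine he.invol_mem hb h5 hU hxA hx2 (Or.inl (mul_inv_eq_iff_eq_mul.2 hcm.symm)) ?_
      rcases he.der_invol hb h5 hU hq (by
        calc v * x * v⁻¹ * x⁻¹ * (v * x * v⁻¹ * x⁻¹) = v * x * v⁻¹ * (x⁻¹ * (v * x * v⁻¹ * x⁻¹)) := by group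
          _ = v * x * v⁻¹ * ((v * x * v⁻¹ * x⁻¹) * x⁻¹) := by rw [hcom _ (inv_mem hxA) _ hq]
          _ = v * (x * x) * v⁻¹ * (x * x)⁻¹ := by group
          _ = 1 := by rw [hx2, mul_one, mul_inv_cancel, inv_one, mul_one]) with e | e
      · exact Or.inl (mul_inv_eq_one.1 e)
      · exact Or.inr (mul_inv_eq_iff_eq_mul.1 e)
    exact hvx (he.comm v he.hv x hxU)
  refine ⟨hna, ?_⟩
  by_contra! hle
  have hVA := heqA hle
  obtain ⟨x, hx, r, hr, hne⟩ := hV.exists_mod_center hb h32 h16 hna hvT (fun h => hvA (hle v h))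
  exact hne (hcom r (hle r hr) _ (commutator_mem_commutator hvS (hV.le hx)))

/-- Elements of odd order normalising `S` centralise it. -/
theorem Ety.fix_S {y : G} (hy : y ∈ normalizer ((S : Subgroup G) : Set G)) (hyo : Odd (orderOf y)) :
    ∀ x ∈ (S : Subgroup G), y * x = x * y := by
  set D := ⁅(S : Subgroup G), (S : Subgroup G)⁆ with hD
  have hyS : ∀ x ∈ (S : Subgroup G), y * x * y⁻¹ ∈ (S : Subgroup G) := fun x hx => (mem_normalizer_iff.1 hy x).1 hx
  have hmapD : D.map (MulAut.conj y).toMonoidHom = D := by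
    rw [hD, map_commutator, Grp.mem_normalizer_of_map_eq.1 hy]
  have hyD : y ∈ normalizer (D : Set G) := mem_normalizer_fintype fun d hd => hmapD.le ⟨d, hd, rfl⟩
  have hDp : IsPGroup 2 D := S.isPGroup'.to_le commutator_le_S
  have hw : y * w = w * y := by
    refine mul_inv_eq_iff_eq_mul.1 ((he.der_invol hb h5 hU ((mem_normalizer_iff.1 hyD w).1 he.wD) ?_).resolve_left
      fun e => he.w1 (conj_eq_one_iff.1 e))
    rw [show y * w * y⁻¹ * (y * w * y⁻¹) = y * (w * w) * y⁻¹ by group, he.sq w he.hw, mul_one, mul_inv_cancel]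
  have hfD := fix_four hDp (he.card_der hb h5 hU).le hyD hyo he.wD he.w1 hw
  have hfix : ∀ d ∈ D, y⁻¹ * d * y = d := fun d hd => by rw [mul_assoc, ← hfD d hd, inv_mul_cancel_left]
  have hyA : ∀ x ∈ cenD S, y * x * y⁻¹ ∈ cenD S := fun x hx =>
    ⟨hyS x hx.1, mem_centralizer_iff.2 fun d hd => by
      have h := congrArg (fun t => y * t * y⁻¹) (mem_centralizer_iff.1 hx.2 d hd)
      rw [show y * (d * x) * y⁻¹ = y * d * y⁻¹ * (y * x * y⁻¹) by group,
        show y * (x * d) * y⁻¹ = y * x * y⁻¹ * (y * d * y⁻¹) by group,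
        mul_inv_eq_iff_eq_mul.2 (hfD d hd)] at h
      exact h⟩
  have hcA := he.c_mem_A hb h5 hU
  have hycc : y * c = c * y := by
    have hvA : y * v * y⁻¹ ∉ cenD S := by
      refine he.not_mem_A hb h5 hU fun d hd => ?_
      calc y * v * y⁻¹ * d * (y * v * y⁻¹)⁻¹ = y * (v * (y⁻¹ * d * y) * v⁻¹) * y⁻¹ := by group
        _ = d⁻¹ := by rw [hfix d hd, he.inverts_v hb hU hd, mul_inv_eq_iff_eq_mul.2 (hfD _ (inv_mem hd))]
    have hcD : y * c * y⁻¹ ∉ D := fun h => he.c_not_der hb h5 hU (by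
      have := hfix _ h
      rw [show y⁻¹ * (y * c * y⁻¹) * y = c by group] at this
      exact this ▸ h)
    rcases he.invol_unique hb h5 hU (hyA c hcA) hcD
      (by rw [show y * c * y⁻¹ * (y * c * y⁻¹) = y * (c * c) * y⁻¹ by group, he.sq c he.hc, mul_one, mul_inv_cancel])
      (hyS v (hU.le he.hv)) hvA
      (by rw [show y * v * y⁻¹ * (y * c * y⁻¹) = y * (v * c) * y⁻¹ by group, he.comm v he.hv c he.hc]; group) with e | e
    · exact mul_inv_eq_iff_eq_mul.1 e
    · exact fix_of_step hyo (two_elt_of_mem hU.pgroup he.hw) hw e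
  set L := D ⊔ zpowers c with hL
  have hLA : L ≤ cenD S := sup_le (he.der_le_A hb h5 hU) (zpowers_le.2 hcA)
  have hLfix : ∀ l ∈ L, y * l = l * y := by
    have hle : L ≤ centralizer ({y} : Set G) :=
      sup_le (fun d hd => mem_centralizer_singleton_iff.2 (hfD d hd).symm)
        (zpowers_le.2 (mem_centralizer_singleton_iff.2 hycc.symm))
    exact fun l hl => (mem_centralizer_singleton_iff.1 (hle hl)).symm
  have h8 : 8 ≤ Nat.card L := by
    have := double_le (S := S) (hLA.trans inf_le_left) (lt_of_le_of_ne le_sup_left fun e =>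
      he.c_not_der hb h5 hU (e.ge (mem_sup_right (mem_zpowers c))) : D < L)
    rw [he.card_der hb h5 hU] at this
    exact this
  have hyAN : y ∈ normalizer (cenD S : Set G) := mem_normalizer_fintype fun x hx => hyA x hx
  have hAfix := fix_index_two (S.isPGroup'.to_le inf_le_left) hLA (by rw [he.card_A hb h5 hU]; omega) hyAN hyo hLfix
  exact fix_index_two S.isPGroup' inf_le_left (by rw [he.card_A hb h5 hU, h5]) hy hyo hAfix

/-- The normalizer of an elementary essential subgroup moves `w`. -/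
theorem Ety.moves_w {y : G} (hy : y ∈ normalizer (U : Set G)) (hyo : Odd (orderOf y)) (hyw : y * w = w * y) :
    y ∈ centralizer (U : Set G) := by
  have hc : y * c * y⁻¹ = c := he.fix y hy
  have hw : y * w * y⁻¹ = w := mul_inv_eq_iff_eq_mul.2 hyw
  have hv : y * v * y⁻¹ = v := by
    have h := he.pres y hy v (by simp)
    simp only [Set.mem_insert_iff, Set.mem_singleton_iff] at h
    rcases h with e | e | e | e
    · exact absurd (conj_eq_one_iff.1 e) (fun e1 => he.vI (by simp [e1]))
    · refine absurd ?_ he.vI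
      have : v = w := mul_left_cancel (mul_right_cancel (e.trans hw.symm))
      simp [this]
    · exact e
    · exact mul_inv_eq_iff_eq_mul.2 (fix_of_step hyo (two_elt_of_mem hU.pgroup he.hw) hyw e)
  have key : ∀ g ∈ U, y * g * y⁻¹ = g := by
    intro g hg
    obtain ⟨i, hi, hgi⟩ := he.decomp g hg
    have hi' : y * i * y⁻¹ = i := by
      simp only [Set.mem_insert_iff, Set.mem_singleton_iff] at hi
      rcases hi with e | e | e | e <;> subst i
      · simp
      · exact hc
      · exact hw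
      · rw [show y * (c * w) * y⁻¹ = y * c * y⁻¹ * (y * w * y⁻¹) by group, hc, hw]
    rcases hgi with e | e <;> subst g
    · exact hi'
    · rw [show y * (i * v) * y⁻¹ = y * i * y⁻¹ * (y * v * y⁻¹) by group, hi', hv]
  exact mem_centralizer_iff.2 fun g hg => (mul_inv_eq_iff_eq_mul.1 (key g hg)).symm

/-- No elementary essential subgroup of order 8. -/
theorem Ety.false_five : False := by
  set D := ⁅(S : Subgroup G), (S : Subgroup G)⁆ with hD
  have hw := he.w_central hb h5 hU
  have hvS := hU.le he.hv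
  have hcS := hU.le he.hc
  have hvA : v ∉ cenD S := he.not_mem_A hb h5 hU fun d hd => he.inverts_v hb hU hd
  -- the moving subgroups
  have hmove : ∀ M : Subgroup G, M.relIndex (S : Subgroup G) = 2 →
      (∃ (U2 : Subgroup G) (c2 w2 v2 : G), Ess S U2 ∧ Ety S U2 c2 w2 v2 ∧ Moves U2 M) ∨
        ∃ V, Ess S V ∧ Nat.card V = 16 ∧ Moves V M := by
    intro M hi
    rcases hb.toHyp.exists_moving hi with ⟨V, hV, hm⟩ | ⟨y, hy, hyo, x, hx, hne⟩
    · rcases hV.eight_or hb with ⟨h8, -⟩ | ⟨h16, -⟩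
      · obtain ⟨c2, w2, v2, he2⟩ := hV.exists_ety hb h8
        exact Or.inl ⟨V, c2, w2, v2, hV, he2, hm⟩
      · exact Or.inr ⟨V, hV, h16, hm⟩
    · refine absurd ?_ hne
      rw [mul_inv_eq_iff_eq_mul.2 (he.fix_S hb h5 hU hy hyo x hx)]
  obtain ⟨yE, hyE, hyEo, hyEC⟩ := hU.act
  by_cases hcc : ∀ s ∈ (S : Subgroup G), s * c = c * s
  · -- `c` central
    refine he.c_not_der hb h5 hU (he.three hb hU h5.ge fun M hi => (hmove M hi).resolve_right ?_).1
    rintro ⟨V, hV, h16, -⟩
    obtain ⟨hna, -⟩ := he.sixteen_shape hb h5 hU hV h16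
    have h32 : Nat.card (nS S V) = 32 := by rw [(hV.nS_eq h5 h16).1, h5]
    have hNc := hV.fix_centre hb h5 h16 hna hcS hcc
    have hNw := hV.fix_centre hb h5 h16 hna (hU.le he.hw) hw
    have hyc : yE ∈ normalizer (V : Set G) := by
      rw [hV.eq_centralizer hb h32 he.c1 hNc, mem_centralizer_singleton_iff]
      exact mul_inv_eq_iff_eq_mul.1 (he.fix yE hyE)
    exact hyEC (he.moves_w hb h5 hU hyE hyEo (hNw yE hyc))
  -- `c` not central
  set T := (S : Subgroup G) ⊓ centralizer ({c} : Set G) with hT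
  have hT16 : T.relIndex (S : Subgroup G) = 2 := by
    have h1 : nS S U ≤ T := fun t ht =>
      ⟨ht.1, mem_centralizer_singleton_iff.2 (mul_inv_eq_iff_eq_mul.1 (he.fix t ht.2))⟩
    have h2 := card_le_of_le h1
    rw [he.cardT] at h2
    have hlt : T < (S : Subgroup G) := lt_of_le_of_ne inf_le_left fun e =>
      hcc fun s hs => mem_centralizer_singleton_iff.1 (e.ge hs).2
    have h3 := double_le (S := S) le_rfl hlt
    exact rel_two inf_le_left (by omega)
  have hTv : ∀ (U2 : Subgroup G) (c2 w2 v2 : G), Ess S U2 → Ety S U2 c2 w2 v2 → v2 ∈ T := by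
    intro U2 c2 w2 v2 hU2 he2
    refine ⟨hU2.le he2.hv, mem_centralizer_singleton_iff.2 ?_⟩
    have hc2 := he.invol_unique hb h5 hU (he2.c_mem_A hb h5 hU2) (he2.c_not_der hb h5 hU2)
      (he2.sq c2 he2.hc) (hU2.le he2.hv) (he2.not_mem_A hb h5 hU2 fun d hd => he2.inverts_v hb hU2 hd)
      (he2.comm v2 he2.hv c2 he2.hc)
    have h := he2.comm v2 he2.hv c2 he2.hc
    rcases hc2 with e | e <;> subst c2
    · exact h
    · rw [← mul_assoc, mul_assoc c w v2, ← hw v2 (hU2.le he2.hv), ← mul_assoc] at h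
      exact mul_right_cancel h
  rcases hmove T hT16 with ⟨U2, c2, w2, v2, hU2, he2, hm⟩ | ⟨U0, hU0, h16, hm⟩
  · exact he2.not_mem_of_moves hT16 hm (hTv U2 c2 w2 v2 hU2 he2)
  obtain ⟨hna, s0, hs0, hs0A⟩ := he.sixteen_shape hb h5 hU hU0 h16
  obtain ⟨hS0, hi0⟩ := hU0.nS_eq h5 h16
  have h32 : Nat.card (nS S U0) = 32 := by rw [hS0, h5]
  have hDU : D ≤ U0 := der_le hi0
  have hwU : w ∈ U0 := hDU he.wD
  have hww := he.sq w he.hw
  -- the central involutions of `U0`
  have hcen : ∀ z ∈ U0, (∀ x ∈ U0, x * z = z * x) → z ∈ cenD S ∧ (z ∈ D → z = 1 ∨ z = w) ∧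
      (z * z = 1 → z = 1 ∨ z = w) := by
    intro z hz hzc
    have hzA : z ∈ cenD S := ⟨hU0.le hz, mem_centralizer_iff.2 fun d hd => hzc d (hDU hd)⟩
    have hzD : z ∈ D → z = 1 ∨ z = w := fun h => he.der_invol hb h5 hU h (by
      rcases he.act_cases hb h5 hU (hU0.le hs0) with h' | h'
      · exact absurd (he.mem_A hb h5 hU (hU0.le hs0) h') hs0A
      · have h1 := h' z h
        rw [hzc s0 hs0, mul_inv_cancel_right] at h1
        exact mul_eq_one_iff_eq_inv.2 h1)
    refine ⟨hzA, hzD, fun hz2 => ?_⟩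
    by_cases h : z ∈ D
    · exact hzD h
    exfalso
    have hle : U0 ≤ T := fun x hx => ⟨hU0.le hx, mem_centralizer_singleton_iff.2 (by
      have hxw := hw x (hU0.le hx)
      rcases he.invol_unique hb h5 hU hzA h hz2 (hU0.le hs0) hs0A (hzc s0 hs0) with e | e
      · exact e ▸ hzc x hx
      · have h1 := hzc x hx
        rw [e, ← mul_assoc, mul_assoc c w x, ← hxw, ← mul_assoc] at h1
        exact mul_right_cancel h1)⟩
    obtain ⟨y, hy, -, x, hx, hne⟩ := hm
    exact hne (iff_of_true (hle ((mem_normalizer_iff.1 hy x).1 hx)) (hle hx))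
  obtain ⟨r, hr, hrc, hr1, hrw⟩ := hU0.exists_center_ne hb h16 hna (z := w)
  obtain ⟨hrA, hrD', hr2'⟩ := hcen r hr hrc
  have hrD : r ∉ D := fun h => by rcases hrD' h with e | e <;> [exact hr1 e; exact hrw e]
  have hr2 : r * r = w := by
    have hiL : D.relIndex (U0 ⊓ cenD S) = 2 := by
      have hlt : U0 ⊓ cenD S < U0 := lt_of_le_of_ne inf_le_left fun e => hs0A (e.ge hs0).2
      have hlt2 : D < U0 ⊓ cenD S := lt_of_le_of_ne (le_inf hDU (he.der_le_A hb h5 hU)) fun e =>
        hrD (e.ge ⟨hr, hrA⟩)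
      have h1 := double_le (S := S) hU0.le hlt
      have h2 := double_le (S := S) (inf_le_left.trans hU0.le) hlt2
      rw [he.card_der hb h5 hU] at h2
      exact rel_two hlt2.le (by rw [he.card_der hb h5 hU]; omega)
    have hrrD : r * r ∈ D := rel_sq hiL ⟨hr, hrA⟩
    rcases (hcen _ (mul_mem hr hr) fun x hx => ((show Commute x r from hrc x hx).mul_right (hrc x hx)).eq).2.1
      hrrD with e | e
    · exact absurd (hr2' e) (by simp [hr1, hrw])
    · exact e
  have hNw := hU0.fix_centre hb h5 h16 hna (hU.le he.hw) hw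
  obtain ⟨y, hy, hyo, hyC⟩ := hU0.act
  have hyr : y * r = r * y := fix_center hU0.pgroup h16 hna hy hyo hr hrc
  obtain ⟨j, hj, hj2⟩ := he.exists_not_sq hb hU h5.ge
  have hjj := (he.der_sq hb h5 hU hj).resolve_left hj2
  -- an element of `U0` outside `A` squaring to `w`
  obtain ⟨s, hsd⟩ : ∃ s, s = y * j * y⁻¹ := ⟨_, rfl⟩
  have hsU : s ∈ U0 := hsd ▸ (mem_normalizer_iff.1 hy j).1 (hDU hj)
  have hs2 : s * s = w := by
    rw [hsd, show y * j * y⁻¹ * (y * j * y⁻¹) = y * (j * j) * y⁻¹ by group, hjj, hNw y hy, mul_inv_cancel_right]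
  set L := D ⊔ zpowers r with hLd
  have hLU : L ≤ U0 := sup_le hDU (zpowers_le.2 hr)
  have hrN : r ∈ normalizer (D : Set G) := mem_normalizer_fintype fun d hd => by
    rwa [← hrc d (hDU hd), mul_inv_cancel_right]
  have hrr : r * r ∈ D := hr2.symm ▸ he.wD
  have hsA : s ∉ cenD S := fun hsA => hyC (by
    have hyj : y * j = j * y := by
      have hsL : s ∈ D ∨ s * r ∈ D := by
        refine mem_sup_sq hrr hrN ?_
        have hlt : U0 ⊓ cenD S < U0 := lt_of_le_of_ne inf_le_left fun e => hs0A (e.ge hs0).2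
        have hLle : L ≤ U0 ⊓ cenD S := le_inf hLU (sup_le (he.der_le_A hb h5 hU) (zpowers_le.2 hrA))
        have h1 := double_le (S := S) (hLU.trans hU0.le) (lt_of_le_of_ne le_sup_left fun e =>
          hrD (e.ge (mem_sup_right (mem_zpowers r))) : D < L)
        have h2 := double_le (S := S) hU0.le hlt
        rw [he.card_der hb h5 hU] at h1
        exact (eq_of_le_of_card_ge hLle (by omega)).ge ⟨hsU, hsA⟩
      rcases hsL with h | h
      · rcases he.der_cases hb h5 hU hj hj2 h (fun e => he.w1 (hs2.symm.trans e)) with e | e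
        · exact mul_inv_eq_iff_eq_mul.1 (hsd ▸ e)
        · exact fix_of_step hyo (two_elt_of_mem hU.pgroup he.hw) (hNw y hy) (hsd ▸ e)
      · exfalso
        have hd2 : s * r * (s * r) = 1 := by
          rw [mul_assoc, ← mul_assoc r s r, ← hrc s hsU, mul_assoc s r r, ← mul_assoc, hs2, hr2, hww]
        have hd : ∀ x ∈ U0, x * s = s * x := by
          intro x hx
          have hxd : x * (s * r) = s * r * x := by
            rcases he.der_invol hb h5 hU h hd2 with e | e <;> rw [e]
            · simp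
            · exact hw x (hU0.le hx)
          refine mul_right_cancel (b := r) ?_
          rw [mul_assoc, hxd, mul_assoc, ← hrc x hx, ← mul_assoc]
        -- then `j` would be central
        have hjc : ∀ x ∈ U0, x * j = j * x := fun x hx => by
          have h1 := hd _ ((mem_normalizer_iff.1 hy x).1 hx)
          rw [hsd] at h1
          have h2 := congrArg (fun t => y⁻¹ * t * y) h1
          simpa [mul_assoc] using h2
        rcases (hcen j (hDU hj) hjc).2.1 hj with e | e
        · exact hj2 (by rw [e, mul_one])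
        · exact hj2 (by rw [e, hww])
    have hyD : ∀ d ∈ D, y * d = d * y := by
      intro d hd
      by_cases hd2 : d * d = 1
      · rcases he.der_invol hb h5 hU hd hd2 with e | e <;> rw [e]
        · simp
        · exact hNw y hy
      · rcases he.der_cases hb h5 hU hj hj2 hd hd2 with e | e <;> rw [e]
        · exact hyj
        · exact ((show Commute y j from hyj).mul_right (hNw y hy)).eq
    have hLfix : ∀ l ∈ L, y * l = l * y := by
      have hle : L ≤ centralizer ({y} : Set G) :=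
        sup_le (fun d hd => mem_centralizer_singleton_iff.2 (hyD d hd).symm)
          (zpowers_le.2 (mem_centralizer_singleton_iff.2 hyr.symm))
      exact fun l hl => (mem_centralizer_singleton_iff.1 (hle hl)).symm
    have h1 := double_le (S := S) (hLU.trans hU0.le) (lt_of_le_of_ne le_sup_left fun e =>
      hrD (e.ge (mem_sup_right (mem_zpowers r))) : D < L)
    rw [he.card_der hb h5 hU] at h1
    exact mem_centralizer_iff.2 fun x hx =>
      (fix_index_two hU0.pgroup hLU (by omega) hy hyo hLfix x hx).symm)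
  -- the half
  have hsS := hU0.le hsU
  have hjS : j ∈ (S : Subgroup G) := commutator_le_S hj
  have hsinv : ∀ d ∈ D, s * d * s⁻¹ = d⁻¹ :=
    (he.act_cases hb h5 hU hsS).resolve_left fun h => hsA (he.mem_A hb h5 hU hsS h)
  set L0 := D ⊔ zpowers s with hL0
  have hL0U : L0 ≤ U0 := sup_le hDU (zpowers_le.2 hsU)
  have hssD : s * s ∈ D := hs2.symm ▸ he.wD
  have hsN : s ∈ normalizer (D : Set G) := mem_normalizer_fintype fun d hd => commutator_conj hsS hd
  have hK := card_sup_sq (H := L0) (g := v) (by rw [he.sq v he.hv]; exact one_mem _)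
    (mem_normalizer_fintype fun x hx => conj_mem_of_der (hL0U.trans hU0.le) le_sup_left hvS hx)
  have hc0 := card_sup_sq hssD hsN
  rw [← hL0] at hc0
  rw [he.card_der hb h5 hU] at hc0
  obtain ⟨M, hKM, hMS, hiM⟩ := exists_half (S := S) (K := L0 ⊔ zpowers v)
    (sup_le (hL0U.trans hU0.le) (zpowers_le.2 hvS)) (fun e => by rw [e, h5] at hK; omega)
  have hvM : v ∈ M := hKM (mem_sup_right (mem_zpowers v))
  have hvU0 : v ∉ U0 := fun h => by
    have hrU : r ∈ U := by
      rw [← he.cent_outer hU he.hv he.vI]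
      exact ⟨hU0.le hr, mem_centralizer_singleton_iff.2 (hrc v h).symm⟩
    exact he.w1 (hr2 ▸ he.sq r hrU)
  have hne : M ≠ U0 := fun e => hvU0 (e ▸ hvM)
  have hM16 : Nat.card M = 16 := by
    have h := Grp.card_mul_relIndex hMS
    rw [hiM, h5] at h
    omega
  have hMU : M ⊓ U0 = L0 := by
    symm
    refine eq_of_le_of_card_ge (le_inf ((le_sup_left : L0 ≤ L0 ⊔ zpowers v).trans hKM) hL0U) ?_
    have h4 := inf_card hMS hU0.le (by rw [h5, hM16]) (by rw [h5, h16]) hne
    rw [h5] at h4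
    have h5' := double_le (S := S) (hL0U.trans hU0.le) (lt_of_le_of_ne le_sup_left fun e =>
      hsA (he.der_le_A hb h5 hU (e.ge (mem_sup_right (mem_zpowers s)))) : D < L0)
    rw [he.card_der hb h5 hU] at h5'
    omega
  have hmemM : ∀ x ∈ U0, x ∈ M → x ∈ D ∨ x * s ∈ D := fun x hx hxM => mem_sup_sq hssD hsN (hMU.le ⟨hxM, hx⟩)
  have hrM : r ∉ M := fun h => by
    rcases hmemM r hr h with e | e
    · exact hrD e
    · exact hsA ((Subgroup.mul_mem_cancel_left _ hrA).1 (he.der_le_A hb h5 hU e))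
  -- the half is invariant
  have hchar : ∀ x ∈ U0, x ∈ M ↔
      x = 1 ∨ x = w ∨ (x * x = w ∧ ∃ q ∈ U0, q * x ≠ x * q) := by
    have hL0char : ∀ x ∈ U0, x ∈ M → x = 1 ∨ x = w ∨ (x * x = w ∧ ∃ q ∈ U0, q * x ≠ x * q) := by
      intro x hx hxM
      rcases hmemM x hx hxM with h | h
      · rcases he.der_sq hb h5 hU h with e | e
        · rcases he.der_invol hb h5 hU h e with e' | e'
          · exact Or.inl e'
          · exact Or.inr (Or.inl e')
        · refine Or.inr (Or.inr ⟨e, s, hsU, fun e' => he.w1 ?_⟩)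
          have h1 := hsinv x h
          rw [e', mul_inv_cancel_right] at h1
          rw [← e]
          exact mul_eq_one_iff_eq_inv.2 h1
      · refine Or.inr (Or.inr ⟨?_, j, hDU hj, fun e' => ?_⟩)
        · have h1 := hsinv _ h
          calc x * x = x * s * (s⁻¹ * (x * s) * s) * (s * s)⁻¹ := by group
            _ = x * s * (x * s)⁻¹ * (s * s)⁻¹ := by
              rw [show s⁻¹ * (x * s) * s = (x * s)⁻¹ from by
                rw [mul_inv_eq_iff_eq_mul] at h1
                calc s⁻¹ * (x * s) * s = s⁻¹ * ((x * s) * s) := by group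
                  _ = (x * s)⁻¹ := by
                    have h2 := hsinv _ (inv_mem h)
                    rw [inv_inv, mul_inv_eq_iff_eq_mul] at h2
                    rw [← h2, inv_mul_cancel_left]]
            _ = w := by rw [mul_inv_cancel, one_mul, hs2, inv_eq_of_mul_eq_one_right hww]
        · refine hj2 (mul_eq_one_iff_eq_inv.2 ?_)
          have h1 := hsinv j hj
          have h2 := he.der_comm hb hU hj h
          rw [← mul_assoc, e', mul_assoc x j s, mul_assoc x s j, mul_right_inj] at h2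
          rw [← h2, mul_inv_cancel_right] at h1
          exact h1
    intro x hx
    refine ⟨hL0char x hx, fun h => ?_⟩
    have h1M : (1 : G) ∈ M := one_mem _
    have hwM : w ∈ M := der_le hiM he.wD
    rcases h with e | e | ⟨hx2, q, hq, hne⟩
    · exact e ▸ h1M
    · exact e ▸ hwM
    by_contra hxM
    have hm : x * r ∈ M := (half_mul hiM (hU0.le hx) (hU0.le hr)).2 (iff_of_false hxM hrM)
    have hsq : x * r * (x * r) = x * x * w := by
      calc x * r * (x * r) = x * (r * x) * r := by group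
        _ = x * (x * r) * r := by rw [hrc x hx]
        _ = x * x * (r * r) := by group
        _ = _ := by rw [hr2]
    rw [hx2, hww] at hsq
    have hcentral : (x * r = 1 ∨ x * r = w) → False := fun h => hne (by
      have hxe : x = x * r * r⁻¹ := by group
      have hqr : Commute q r⁻¹ := (show Commute q r from hrc q hq).inv_right
      rcases h with e | e <;> rw [e] at hxe <;> rw [hxe]
      · exact ((Commute.one_right q).mul_right hqr).eq
      · exact ((show Commute q w from hw q (hU0.le hq)).mul_right hqr).eq)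
    rcases hL0char _ (mul_mem hx hr) hm with e | e | ⟨e, -⟩
    · exact hcentral (Or.inl e)
    · exact hcentral (Or.inr e)
    · exact he.w1 (e.symm.trans hsq)
  have hinv : ∀ n ∈ normalizer (U0 : Set G), ∀ x ∈ U0, x ∈ M → n * x * n⁻¹ ∈ M := by
    intro n hn x hx hxM
    have hnw : n * w * n⁻¹ = w := mul_inv_eq_iff_eq_mul.2 (hNw n hn)
    refine (hchar _ ((mem_normalizer_iff.1 hn x).1 hx)).2 ?_
    rcases (hchar x hx).1 hxM with e | e | ⟨e, q, hq, hne⟩
    · exact Or.inl (by rw [e, mul_one, mul_inv_cancel])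
    · exact Or.inr (Or.inl (by rw [e, hnw]))
    · refine Or.inr (Or.inr ⟨?_, n * q * n⁻¹, (mem_normalizer_iff.1 hn q).1 hq, fun h => hne ?_⟩)
      · rw [show n * x * n⁻¹ * (n * x * n⁻¹) = n * (x * x) * n⁻¹ by group, e, hnw]
      · rw [show n * q * n⁻¹ * (n * x * n⁻¹) = n * (q * x) * n⁻¹ by group,
          show n * x * n⁻¹ * (n * q * n⁻¹) = n * (x * q) * n⁻¹ by group] at h
        exact mul_left_cancel (mul_right_cancel h)
  rcases hmove M hiM with ⟨U2, c2, w2, v2, hU2, he2, hm2⟩ | ⟨V, hV, hV16, hm2⟩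
  · -- the other classes are the class of `v` or of `c * v`
    have hv2T := hTv U2 c2 w2 v2 hU2 he2
    have hv2A : v2 ∉ cenD S := he2.not_mem_A hb h5 hU2 fun d hd => he2.inverts_v hb hU2 hd
    have hcA := he.c_mem_A hb h5 hU
    have hcN : c ∈ normalizer (D : Set G) := mem_normalizer_fintype fun d hd => commutator_conj hcS hd
    have hprod : v2 * v ∈ T ⊓ cenD S := ⟨mul_mem hv2T ⟨hvS, mem_centralizer_singleton_iff.2 (he.comm v he.hv c he.hc)⟩,
      (rel_mul (he.index_A hb h5 hU) (hU2.le he2.hv) hvS).2 (iff_of_false hv2A hvA)⟩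
    have hTA : T ⊓ cenD S = D ⊔ zpowers c := by
      symm
      have hlt : T ⊓ cenD S < T := lt_of_le_of_ne inf_le_left fun e => hvA
        (e.ge (⟨hvS, mem_centralizer_singleton_iff.2 (he.comm v he.hv c he.hc)⟩ : v ∈ T)).2
      refine eq_of_le_of_card_ge (sup_le (le_inf (fun d hd => ⟨commutator_le_S hd, mem_centralizer_singleton_iff.2
        (mul_inv_eq_iff_eq_mul.1 (he.cent_I hb hU (by simp : c ∈ ({1, c, w, c * w} : Set G)) hd)).symm⟩)
        (he.der_le_A hb h5 hU)) (zpowers_le.2 ⟨⟨hcS, mem_centralizer_singleton_iff.2 rfl⟩, hcA⟩)) ?_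
      have h1 := double_le (S := S) inf_le_left hlt
      have h2 := Grp.card_mul_relIndex (inf_le_left : T ≤ (S : Subgroup G))
      rw [hT16, h5] at h2
      have h3 := double_le (S := S) (sup_le commutator_le_S (zpowers_le.2 hcS)) (lt_of_le_of_ne le_sup_left fun e =>
        he.c_not_der hb h5 hU (e.ge (mem_sup_right (mem_zpowers c))) : D < D ⊔ zpowers c)
      rw [he.card_der hb h5 hU] at h3
      have h3' : 2 * 4 ≤ Nat.card ↥(D ⊔ zpowers c) := h3
      omega
    rcases mem_sup_sq (by rw [he.sq c he.hc]; exact one_mem _) hcN (hTA.le hprod) with h | h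
    · exact he2.not_mem_of_moves hiM hm2 ((Subgroup.mul_mem_cancel_right _ hvM).1 (der_le hiM h))
    · refine he.no_glue hb hU hU2 he2 hiM hm2 hvM (x := c * v) (mul_mem he.hc he.hv) (fun e => ?_) ?_
      · obtain ⟨d, hd, hd2⟩ := he.exists_not_sq hb hU h5.ge
        have h1 := he.cent_I hb hU e hd
        rw [show c * v * d * (c * v)⁻¹ = c * (v * d * v⁻¹) * c⁻¹ by group, he.inverts_v hb hU hd,
          he.cent_I hb hU (by simp) (inv_mem hd)] at h1
        exact hd2 (mul_eq_one_iff_eq_inv.2 h1.symm)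
      · rw [inv_eq_of_mul_eq_one_right (he2.sq v2 he2.hv)]
        have h1 := inv_mem h
        rwa [mul_inv_rev, mul_inv_rev, inv_eq_of_mul_eq_one_right (he2.sq v2 he2.hv),
          inv_eq_of_mul_eq_one_right (he.sq v he.hv), inv_eq_of_mul_eq_one_right (he.sq c he.hc), ← mul_assoc] at h1
  · obtain ⟨hVna, -⟩ := he.sixteen_shape hb h5 hU hV hV16
    have hVw := hV.fix_centre hb h5 hV16 hVna (hU.le he.hw) hw
    obtain rfl := hU0.eq_of_fix hb hV h5 h16 hV16 he.w1 hNw hVw
    obtain ⟨n, hn, -, x, hx, hne⟩ := hm2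
    refine hne ⟨fun h => ?_, hinv n hn x hx⟩
    have h1 := hinv n⁻¹ (inv_mem hn) _ ((mem_normalizer_iff.1 hn x).1 hx) h
    rwa [show n⁻¹ * (n * x * n⁻¹) * n⁻¹⁻¹ = x by group] at h1

end Cfsg.Agent.Fus.LenSeven
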