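import Cfsg.Agent.Lib.Fus.LengthSeven.Centre
import Cfsg.Agent.Lib.Fus.LengthSeven.ThirtyTwoEnd

/-!
# A single class of normal essential subgroups when `|S| = 32` (for S3249)
-/

set_option autoImplicit false
set_option linter.style.haveILetI false

namespace Cfsg.Agent.Fus.LenSeven

open Subgroup LenEight
open scoped commutatorElement

universe u

variable {G : Type u} [Group G] [Finite G] {S : Sylow 2 G}

theorem Ess.card_sixteen {U : Subgroup G} (hb : Big G S) (h5 : Nat.card (S : Subgroup G) = 32) (hU : Ess S U) :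
    Nat.card U = 16 := by
  rcases hU.eight_or hb with ⟨h8, -⟩ | ⟨h16, -⟩
  · obtain ⟨c, w, v, he⟩ := hU.exists_ety hb h8
    exact (he.false_five hb h5 hU).elim
  · exact h16

variable {U V : Subgroup G} (hb : Big G S) (h5 : Nat.card (S : Subgroup G) = 32) (hU : Ess S U)
include hb h5 hU

/-- A subgroup of central elements fixed by the normalizer of an abelian essential subgroup. -/
theorem Ess.fixed_centre :
    ∃ R : Subgroup G, R ≤ cenS S ∧ (∀ g ∈ R, ∀ n ∈ normalizer (U : Set G), n * g = g * n) ∧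
      Nat.card (cenS S) * Nat.card (cenS S) ≤ 16 * Nat.card R := by
  have h16 := hU.card_sixteen hb h5
  obtain ⟨hS, -⟩ := hU.nS_eq h5 h16
  have h32 : Nat.card (nS S U) = 32 := by rw [hS, h5]
  obtain ⟨y, hy, hyo, hyC⟩ := hU.act
  have hy1 : y ≠ 1 := fun e => hyC (e ▸ one_mem _)
  obtain ⟨b, hbS, hbn⟩ : ∃ b ∈ (S : Subgroup G), y * b * y⁻¹ ∉ (S : Subgroup G) := by
    by_contra! hall
    exact hy1 (hU.not_normalizes hb h32 hS hy (mem_normalizer_fintype hall) hyo)
  have hkN : y * b * y⁻¹ ∈ normalizer (U : Set G) := mul_mem (mul_mem hy (hS.ge hbS).2) (inv_mem hy)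
  have hZU : cenS S ≤ U := fun z hz => hU.center_le hz.1 (mem_cenS.1 hz).2
  have hZ'U : (cenS S).map (MulAut.conj y).toMonoidHom ≤ U := by
    rintro _ ⟨z, hz, rfl⟩
    exact (mem_normalizer_iff.1 hy z).1 (hZU hz)
  refine ⟨cenS S ⊓ (cenS S).map (MulAut.conj y).toMonoidHom, inf_le_left, ?_, ?_⟩
  · rintro g ⟨hg, hg'⟩
    refine hU.fix_of hb h5 h16 hkN hbn (mem_cenS.1 hg).2 ?_
    replace hg' := mem_conj.1 hg'
    have h1 := (mem_cenS.1 hg').2 b hbS
    calc y * b * y⁻¹ * g = y * (b * (y⁻¹ * g * y)) * y⁻¹ := by group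
      _ = y * (y⁻¹ * g * y * b) * y⁻¹ := by rw [h1]
      _ = _ := by group
  · have := card_inf_mul hZU hZ'U
    rwa [card_conj, h16] at this

/-- A nonabelian essential subgroup fixes every central element. -/
theorem Ess.fix_of_na (hna : ∃ p ∈ U, ∃ q ∈ U, p * q ≠ q * p) {g : G} (hg : g ∈ cenS S) :
    ∀ n ∈ normalizer (U : Set G), n * g = g * n :=
  hU.fix_centre hb h5 (hU.card_sixteen hb h5) hna hg.1 (mem_cenS.1 hg).2

omit hU in
theorem Big.exists_central : ∃ z ∈ cenS S, z ≠ 1 := by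
  haveI : Fact (Nat.Prime 2) := ⟨Nat.prime_two⟩
  haveI : Nontrivial (S : Subgroup G) := Finite.one_lt_card_iff_nontrivial.1 (by omega)
  haveI := S.isPGroup'.center_nontrivial
  obtain ⟨⟨z, hz⟩, hz1⟩ := exists_ne (1 : center (S : Subgroup G))
  exact ⟨z, mem_cenS.2 ⟨z.2, fun s hs => congrArg Subtype.val (mem_center_iff.1 hz ⟨s, hs⟩)⟩,
    fun e => hz1 (Subtype.ext (Subtype.ext e))⟩

/-- An abelian and a nonabelian essential subgroup do not coexist. -/
theorem Ess.not_mixed (hab : ∀ p ∈ U, ∀ q ∈ U, p * q = q * p) (hV : Ess S V)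
    (hna : ∃ p ∈ V, ∃ q ∈ V, p * q ≠ q * p) : False := by
  have hU16 := hU.card_sixteen hb h5
  have hV16 := hV.card_sixteen hb h5
  obtain ⟨hS, hiU⟩ := hU.nS_eq h5 hU16
  obtain ⟨-, hiV⟩ := hV.nS_eq h5 hV16
  have h32 : Nat.card (nS S U) = 32 := by rw [hS, h5]
  have hne : U ≠ V := by
    rintro rfl
    obtain ⟨p, hp, q, hq, hpq⟩ := hna
    exact hpq (hab p hp q hq)
  obtain ⟨R, hR, hRfix, hRcard⟩ := hU.fixed_centre hb h5
  have hR1 : ∀ g ∈ R, g = 1 := by
    intro g hg
    by_contra hg1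
    exact hne (hU.eq_of_fix hb hV h5 hU16 hV16 hg1 (hRfix g hg) (hV.fix_of_na hb h5 hna (hR hg)))
  have hRc : Nat.card R = 1 := Nat.card_eq_one_iff_unique.2
    ⟨⟨fun a b => Subtype.ext ((hR1 a a.2).trans (hR1 b b.2).symm)⟩, ⟨1⟩⟩
  rw [hRc] at hRcard
  -- the centre has order four
  obtain ⟨b, hbV, hbU⟩ : ∃ b ∈ V, b ∉ U := by
    by_contra! hall
    exact hne (eq_of_le_of_card_ge hall (by omega)).symm
  have hbS := hV.le hbV
  have hbn : ∀ x ∈ U, b * x * b⁻¹ ∈ U := fun x hx => conj_mem_of_der hU.le (der_le hiU) hbS hx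
  let f : U →* G :=
    { toFun := fun x => b * x * b⁻¹ * (x : G)⁻¹
      map_one' := by simp
      map_mul' := fun x y => by
        rw [coe_mul, mul_inv_rev]
        calc b * ((x : G) * y) * b⁻¹ * ((y : G)⁻¹ * (x : G)⁻¹)
            = b * x * b⁻¹ * ((b * y * b⁻¹ * (y : G)⁻¹) * (x : G)⁻¹) := by group
          _ = b * x * b⁻¹ * ((x : G)⁻¹ * (b * y * b⁻¹ * (y : G)⁻¹)) := by
              rw [hab _ (mul_mem (hbn y y.2) (inv_mem y.2)) _ (inv_mem x.2)]
          _ = _ := by group }
  have hr : f.range ≤ ⁅(S : Subgroup G), (S : Subgroup G)⁆ := by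
    rintro _ ⟨x, rfl⟩
    exact commutator_mem_commutator hbS (hU.le x.2)
  have hk : f.ker.map U.subtype ≤ cenS S := by
    rintro _ ⟨x, hx, rfl⟩
    refine mem_cenS.2 ⟨hU.le x.2, fun s hs => ?_⟩
    have hbx : b * (x : G) = x * b := by
      have e : b * (x : G) * b⁻¹ * (x : G)⁻¹ = 1 := hx
      exact mul_inv_eq_iff_eq_mul.1 (mul_inv_eq_one.1 e)
    by_cases hsU : s ∈ U
    · exact hab s hsU x x.2
    · have hm : b⁻¹ * s ∈ U := (rel_mul hiU (inv_mem hbS) hs).2
        (iff_of_false (fun e => hbU (inv_mem_iff.1 e)) hsU)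
      have := (show Commute b (x : G) from hbx).mul_left (show Commute (b⁻¹ * s) (x : G) from hab _ hm x x.2)
      rw [mul_inv_cancel_left] at this
      exact this.eq
  have h1 := card_le_of_le hr
  have h2 := f.ker.card_mul_index
  rw [index_ker, hU16] at h2
  have h3 := card_le_of_le hk
  rw [card_map_of_injective (subtype_injective _)] at h3
  have h4 := hb.der_index
  rw [h5] at h4
  have hr4 : Nat.card f.range ≤ 4 := by omega
  have hZ4 : Nat.card (cenS S) = 4 := by
    have : 16 ≤ Nat.card (cenS S) * 4 := h2 ▸ Nat.mul_le_mul h3 hr4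
    have : Nat.card (cenS S) ≤ 4 := by
      by_contra hlt
      have := Nat.mul_le_mul (Nat.lt_of_not_le hlt) (Nat.lt_of_not_le hlt)
      omega
    omega
  have hZU : cenS S ≤ U := fun z hz => hU.center_le hz.1 (mem_cenS.1 hz).2
  have hZV : cenS S ≤ V := fun z hz => hV.center_le hz.1 (mem_cenS.1 hz).2
  obtain ⟨y, hy, hyo, hyC⟩ := hU.act
  have hcomm : ∀ H : Subgroup G, (∀ x ∈ H, x * x = 1) → ∀ x ∈ H, ∀ y ∈ H, x * y = y * x := fun H hH x hx y hy => by
    rw [← inv_eq_of_mul_eq_one_right (hH _ (mul_mem hx hy)), mul_inv_rev, inv_eq_of_mul_eq_one_right (hH x hx),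
      inv_eq_of_mul_eq_one_right (hH y hy)]
  -- the squaring map of `U`
  let sq : U →* G :=
    { toFun := fun x => (x : G) * x
      map_one' := one_mul 1
      map_mul' := fun x y => by
        rw [coe_mul, mul_assoc, ← mul_assoc (y : G) x y, ← hab x x.2 y y.2]
        group }
  by_cases hel : ∀ x ∈ cenS S, x * x = 1
  · -- the nonabelian one would be covered by three elementary halves
    have hZ'U : (cenS S).map (MulAut.conj y).toMonoidHom ≤ U := by
      rintro _ ⟨z, hz, rfl⟩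
      exact (mem_normalizer_iff.1 hy z).1 (hZU hz)
    have hUsq : ∀ x ∈ U, x * x = 1 := by
      have hk1 : cenS S ≤ sq.ker.map U.subtype := fun z hz => ⟨⟨z, hZU hz⟩, hel z hz, rfl⟩
      have hk2 : (cenS S).map (MulAut.conj y).toMonoidHom ≤ sq.ker.map U.subtype := by
        rintro _ ⟨z, hz, rfl⟩
        refine ⟨⟨_, (mem_normalizer_iff.1 hy z).1 (hZU hz)⟩, ?_, rfl⟩
        show y * z * y⁻¹ * (y * z * y⁻¹) = 1
        rw [show y * z * y⁻¹ * (y * z * y⁻¹) = y * (z * z) * y⁻¹ by group, hel z hz, mul_one, mul_inv_cancel]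
      have hbot : Nat.card ↥(cenS S ⊓ (cenS S).map (MulAut.conj y).toMonoidHom) = 1 := by
        refine Nat.card_eq_one_iff_unique.2 ⟨⟨fun a b => Subtype.ext ?_⟩, ⟨1⟩⟩
        have key : ∀ g ∈ cenS S ⊓ (cenS S).map (MulAut.conj y).toMonoidHom, g = 1 := by
          rintro g ⟨hg, hg'⟩
          by_contra hg1
          have hy1 : y ≠ 1 := fun e => hyC (e ▸ one_mem _)
          obtain ⟨c, hcS, hcn⟩ : ∃ c ∈ (S : Subgroup G), y * c * y⁻¹ ∉ (S : Subgroup G) := by
            by_contra! hall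
            exact hy1 (hU.not_normalizes hb h32 hS hy (mem_normalizer_fintype hall) hyo)
          refine hne (hU.eq_of_fix hb hV h5 hU16 hV16 hg1 (hU.fix_of hb h5 hU16
            (mul_mem (mul_mem hy (hS.ge hcS).2) (inv_mem hy)) hcn (mem_cenS.1 hg).2 ?_) (hV.fix_of_na hb h5 hna hg))
          replace hg' := mem_conj.1 hg'
          calc y * c * y⁻¹ * g = y * (c * (y⁻¹ * g * y)) * y⁻¹ := by group
            _ = y * (y⁻¹ * g * y * c) * y⁻¹ := by rw [(mem_cenS.1 hg').2 c hcS]
            _ = _ := by group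
        rw [key a a.2, key b b.2]
      have hp := card_inf_mul hk1 hk2
      rw [hbot, card_conj, hZ4, mul_one, card_map_of_injective (subtype_injective _)] at hp
      have hK : sq.ker = ⊤ := eq_top_of_le_card _ (by rw [hU16]; omega)
      intro x hx
      exact (hK.ge (mem_top (⟨x, hx⟩ : U)) : (x : G) * x = 1)
    set L := U ⊓ V with hLd
    have hLV : L ≤ V := inf_le_right
    have hL8 : Nat.card L = 8 := by
      have := inf_card hU.le hV.le (by rw [h5, hU16]) (by rw [h5, hV16]) hne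
      rw [h5] at this
      show Nat.card ↥(U ⊓ V) = 8
      omega
    have hLsq : ∀ x ∈ L, x * x = 1 := fun x hx => hUsq x hx.1
    have hZL : cenS S ≤ L := le_inf hZU hZV
    obtain ⟨t, ht, hto, htC⟩ := hV.act
    have hconjV : ∀ H : Subgroup G, H ≤ V → H.map (MulAut.conj t).toMonoidHom ≤ V := by
      intro H hH
      rintro _ ⟨g, hg, rfl⟩
      exact (mem_normalizer_iff.1 ht g).1 (hH hg)
    have hconjZ : ∀ H : Subgroup G, cenS S ≤ H → cenS S ≤ H.map (MulAut.conj t).toMonoidHom := by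
      intro H hH z hz
      refine ⟨z, hH hz, ?_⟩
      show t * z * t⁻¹ = z
      rw [hV.fix_of_na hb h5 hna hz t ht, mul_inv_cancel_right]
    have hconjsq : ∀ H : Subgroup G, (∀ x ∈ H, x * x = 1) →
        ∀ x ∈ H.map (MulAut.conj t).toMonoidHom, x * x = 1 := by
      intro H hH
      rintro _ ⟨g, hg, rfl⟩
      rw [← map_mul, hH g hg, map_one]
    have htL : t ∈ normalizer (L : Set G) := by
      refine odd_perm hto fun A B hA hB => ?_
      by_contra! hn
      obtain ⟨p, hp, q, hq, hpq⟩ := hna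
      have hAV : A ≤ V := hA ▸ hconjV L hLV
      have hBV : B ≤ V := hB ▸ hconjV A hAV
      have hA8 : Nat.card A = 8 := by rw [hA, card_conj, hL8]
      have hB8 : Nat.card B = 8 := by rw [hB, card_conj, hA8]
      have hAsq := hA ▸ hconjsq L hLsq
      have hBsq := hB ▸ hconjsq A hAsq
      refine hpq (hcomm V (fun x hx => ?_) p hp q hq)
      rcases three_halves hLV hAV hBV (by omega) (by omega) (by omega) (by omega) hZL (hA ▸ hconjZ L hZL)
        (hB ▸ hconjZ A (hA ▸ hconjZ L hZL)) hn.1 hn.2.1 hn.2.2 hx with h | h | h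
      exacts [hLsq x h, hAsq x h, hBsq x h]
    have hfL := fix_index_two (hV.pgroup.to_le hLV) hZL (by omega) htL hto
      fun z hz => hV.fix_of_na hb h5 hna hz t ht
    exact htC (mem_centralizer_iff.2 fun x hx => (fix_index_two hV.pgroup hLV (by omega) ht hto hfL x hx).symm)
  · -- only three involutions in `U`
    push_neg at hel
    obtain ⟨z, hz, hz2⟩ := hel
    obtain ⟨F, hF, h8, hFsq, hFc⟩ := hb.eight
    have hzz : z * z ∈ cenS S := mul_mem hz hz
    have hyz : y * (z * z) * y⁻¹ ≠ z * z := fun e => by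
      refine hne (hU.eq_of_fix hb hV h5 hU16 hV16 hz2 ?_ (hV.fix_of_na hb h5 hna hzz))
      exact hU.fix_all hb h5 hU16 hy hyo (fun e => hyC (e ▸ one_mem _)) (mem_cenS.1 hzz).2
        (mul_inv_eq_iff_eq_mul.1 e)
    have hrange : 3 ≤ Nat.card sq.range := by
      classical
      haveI : Fintype sq.range := Fintype.ofFinite _
      rw [Nat.card_eq_fintype_card]
      refine Fintype.two_lt_card_iff.2 ⟨1, ⟨z * z, ⟨z, hZU hz⟩, rfl⟩,
        ⟨y * (z * z) * y⁻¹, ⟨⟨y * z * y⁻¹, (mem_normalizer_iff.1 hy z).1 (hZU hz)⟩, ?_⟩⟩, ?_, ?_, ?_⟩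
      · show y * z * y⁻¹ * (y * z * y⁻¹) = y * (z * z) * y⁻¹
        group
      · exact fun e => hz2 (congrArg Subtype.val e).symm
      · exact fun e => hz2 (conj_eq_one_iff.1 (congrArg Subtype.val e).symm)
      · exact fun e => hyz (congrArg Subtype.val e).symm
    have hcard := sq.ker.card_mul_index
    rw [index_ker, hU16] at hcard
    have hker : Nat.card (sq.ker.map U.subtype : Subgroup G) ≤ 4 := by
      rw [card_map_of_injective (subtype_injective _)]
      haveI : Fact (Nat.Prime 2) := ⟨Nat.prime_two⟩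
      obtain ⟨i, hi⟩ := IsPGroup.iff_card.1 (hU.pgroup.to_subgroup sq.ker)
      rw [hi] at hcard ⊢
      have : i ≤ 2 := by
        by_contra h
        have := Nat.pow_le_pow_right (show 0 < 2 by norm_num) (show 3 ≤ i by omega)
        nlinarith
      exact (Nat.pow_le_pow_right two_pos this).trans le_rfl
    have hFU : F ⊓ U ≤ sq.ker.map U.subtype := fun x hx => ⟨⟨x, hx.2⟩, hFsq x hx.1, rfl⟩
    have hFU4 : 4 ≤ Nat.card ↥(F ⊓ U) := by
      have := card_inf_mul hF hU.le
      rw [h8, hU16, h5] at this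
      omega
    have heq : F ⊓ U = sq.ker.map U.subtype := eq_of_le_of_card_ge hFU (by omega)
    obtain ⟨f0, hf0, hf0U⟩ : ∃ f0 ∈ F, f0 ∉ U := by
      by_contra! hall
      have : F ⊓ U = F := inf_eq_left.2 hall
      rw [← heq, this, h8] at hker
      omega
    obtain ⟨x, hx, hx2, hfx⟩ := hU.exists_invol_moved hb h32 hab (hS.ge (hF hf0)) hf0U
    exact hfx (hFc f0 hf0 x (heq.ge ⟨⟨x, hx⟩, hx2, rfl⟩).1)

/-- There is only one essential subgroup. -/
theorem Ess.unique (hV : Ess S V) : U = V := by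
  have hU16 := hU.card_sixteen hb h5
  have hV16 := hV.card_sixteen hb h5
  by_cases hab : ∀ p ∈ U, ∀ q ∈ U, p * q = q * p <;> by_cases hab' : ∀ p ∈ V, ∀ q ∈ V, p * q = q * p
  · by_contra hne
    obtain ⟨R, hR, hRfix, hRcard⟩ := hU.fixed_centre hb h5
    obtain ⟨R', hR', hR'fix, hR'card⟩ := hV.fixed_centre hb h5
    have hle : U ⊓ V ≤ cenS S := by
      have hS : U ⊔ V = (S : Subgroup G) := by
        refine eq_of_le_of_card_ge (sup_le hU.le hV.le) ?_
        have := double_le (S := S) (sup_le hU.le hV.le) (lt_of_le_of_ne le_sup_left fun e =>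
          hne (eq_of_le_of_card_ge (e.ge.trans' le_sup_right) (by omega)).symm : U < U ⊔ V)
        omega
      rintro g ⟨hgU, hgV⟩
      refine mem_cenS.2 ⟨hU.le hgU, fun s hs => ?_⟩
      have h : U ⊔ V ≤ centralizer ({g} : Set G) :=
        sup_le (fun x hx => mem_centralizer_singleton_iff.2 (hab x hx g hgU))
          (fun x hx => mem_centralizer_singleton_iff.2 (hab' x hx g hgV))
      exact mem_centralizer_singleton_iff.1 (h (hS.ge hs))
    have h8 := card_le_of_le hle
    have h4 := inf_card hU.le hV.le (by rw [h5, hU16]) (by rw [h5, hV16]) hne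
    rw [h5] at h4
    have hZ := hb.cenS_index
    rw [h5] at hZ
    have hprod := card_inf_mul hR hR'
    have hg : ∃ g ∈ R ⊓ R', g ≠ 1 := by
      by_contra! hall
      have h1 : Nat.card ↥(R ⊓ R') = 1 := Nat.card_eq_one_iff_unique.2
        ⟨⟨fun a b => Subtype.ext ((hall a a.2).trans (hall b b.2).symm)⟩, ⟨1⟩⟩
      rw [h1] at hprod
      have : Nat.card (cenS S) = 8 := by omega
      rw [this] at hRcard hR'card hprod
      have h44 : 4 * 4 ≤ Nat.card R * Nat.card R' := Nat.mul_le_mul (by omega) (by omega)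
      omega
    obtain ⟨g, hg, hg1⟩ := hg
    exact hne (hU.eq_of_fix hb hV h5 hU16 hV16 hg1 (hRfix g hg.1) (hR'fix g hg.2))
  · push_neg at hab'
    exact (hU.not_mixed hb h5 hab hV hab').elim
  · push_neg at hab
    exact (hV.not_mixed hb h5 hab' hU hab).elim
  · push_neg at hab hab'
    obtain ⟨z, hz, hz1⟩ := hb.exists_central h5
    exact hU.eq_of_fix hb hV h5 hU16 hV16 hz1 (hU.fix_of_na hb h5 hab hz) (hV.fix_of_na hb h5 hab' hz)

/-- Elements of odd order normalising `S` are trivial. -/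
theorem Ess.normalizes_trivial {y : G} (hy : y ∈ normalizer ((S : Subgroup G) : Set G)) (hyo : Odd (orderOf y)) :
    y = 1 := by
  have h16 := hU.card_sixteen hb h5
  obtain ⟨hS, hi⟩ := hU.nS_eq h5 h16
  have h32 : Nat.card (nS S U) = 32 := by rw [hS, h5]
  refine hU.not_normalizes hb h32 hS ?_ hy hyo
  set U' := U.map (MulAut.conj y).toMonoidHom with hU'
  have hU'S : U' ≤ (S : Subgroup G) := by
    rintro _ ⟨g, hg, rfl⟩
    exact (mem_normalizer_iff.1 hy g).1 (hU.le hg)
  by_contra hnot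
  have hne : U' ≠ U := fun e => hnot (Grp.mem_normalizer_of_map_eq.2 e)
  have hyZ : y ∈ normalizer (cenS S : Set G) := mem_normalizer_fintype fun z hz => by
    refine mem_cenS.2 ⟨(mem_normalizer_iff.1 hy z).1 hz.1, fun s hs => ?_⟩
    have h1 := (mem_cenS.1 hz).2 _ ((mem_normalizer_iff.1 (inv_mem hy) s).1 hs)
    have h2 := congrArg (fun t => y * t * y⁻¹) h1
    simpa [mul_assoc] using h2
  -- a central element fixed by both
  obtain ⟨g, hg1, hgN, hgN'⟩ : ∃ g, g ≠ 1 ∧ (∀ n ∈ normalizer (U : Set G), n * g = g * n) ∧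
      ∀ n ∈ normalizer (U : Set G), n * (y⁻¹ * g * y) = y⁻¹ * g * y * n := by
    by_cases hab : ∀ p ∈ U, ∀ q ∈ U, p * q = q * p
    · obtain ⟨R, hR, hRfix, hRcard⟩ := hU.fixed_centre hb h5
      set R' := R.map (MulAut.conj y).toMonoidHom with hR'
      have hR'Z : R' ≤ cenS S := by
        rintro _ ⟨g, hg, rfl⟩
        exact (mem_normalizer_iff.1 hyZ g).1 (hR hg)
      have hle : U ⊓ U' ≤ cenS S := by
        have hsup : U ⊔ U' = (S : Subgroup G) := by
          refine eq_of_le_of_card_ge (sup_le hU.le hU'S) ?_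
          have hlt : U < U ⊔ U' := lt_of_le_of_ne le_sup_left fun e =>
            hne (eq_of_le_of_card_ge (e.ge.trans' le_sup_right) (by rw [hU', card_conj]))
          have := double_le (S := S) (sup_le hU.le hU'S) hlt
          omega
        rintro g ⟨hgU, hgV⟩
        refine mem_cenS.2 ⟨hU.le hgU, fun s hs => ?_⟩
        obtain ⟨g0, hg0, rfl⟩ := hgV
        have h : U ⊔ U' ≤ centralizer ({(MulAut.conj y).toMonoidHom g0} : Set G) :=
          sup_le (fun x hx => mem_centralizer_singleton_iff.2 (hab x hx _ hgU))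
            (by
              rintro _ ⟨x, hx, rfl⟩
              exact mem_centralizer_singleton_iff.2 (by rw [← map_mul, ← map_mul, hab x hx g0 hg0]))
        exact mem_centralizer_singleton_iff.1 (h (hsup.ge hs))
      have h8 := card_le_of_le hle
      have h4 := inf_card hU.le hU'S (by rw [h5, h16]) (by rw [h5, hU', card_conj, h16]) hne.symm
      rw [h5] at h4
      have hZ := hb.cenS_index
      rw [h5] at hZ
      have hprod := card_inf_mul hR hR'Z
      rw [hR', card_conj] at hprod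
      have hg : ∃ g ∈ R ⊓ R', g ≠ 1 := by
        by_contra! hall
        have h1 : Nat.card ↥(R ⊓ R') = 1 := Nat.card_eq_one_iff_unique.2
          ⟨⟨fun a b => Subtype.ext ((hall a a.2).trans (hall b b.2).symm)⟩, ⟨1⟩⟩
        rw [hR'] at h1
        rw [h1] at hprod
        have : Nat.card (cenS S) = 8 := by omega
        rw [this] at hRcard hprod
        have h44 : 4 * 4 ≤ Nat.card R * Nat.card R := Nat.mul_le_mul (by omega) (by omega)
        omega
      obtain ⟨g, ⟨hgR, hgR'⟩, hg1⟩ := hg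
      replace hgR' := mem_conj.1 hgR'
      exact ⟨g, hg1, hRfix g hgR, hRfix _ hgR'⟩
    · push_neg at hab
      obtain ⟨z, hz, hz1⟩ := hb.exists_central h5
      refine ⟨z, hz1, hU.fix_of_na hb h5 hab hz, hU.fix_of_na hb h5 hab ?_⟩
      simpa using (mem_normalizer_iff.1 (inv_mem hyZ) z).1 hz
  have hg'1 : y⁻¹ * g * y ≠ 1 := fun e => hg1 (by
    have := congrArg (fun t => y * t * y⁻¹) e
    simpa [mul_assoc] using this)
  have hN := hU.eq_centralizer hb h32 hg1 hgN
  have hN' := hU.eq_centralizer hb h32 hg'1 hgN'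
  have hconj : ∀ n ∈ normalizer (U : Set G), y⁻¹ * n * y ∈ normalizer (U : Set G) := by
    intro n hn
    rw [hN', mem_centralizer_singleton_iff]
    have h1 := hgN n hn
    calc y⁻¹ * n * y * (y⁻¹ * g * y) = y⁻¹ * (n * g) * y := by group
      _ = y⁻¹ * (g * n) * y := by rw [h1]
      _ = _ := by group
  have hUN : U' ≤ normalizer (U : Set G) := fun x hx => (hS.ge (hU'S hx)).2
  refine hne (eq_of_le_of_card_ge (hU.normal_le hb h32 hUN (fun n hn x hx => ?_) fun x hx hxo => ?_)
    (by rw [hU', card_conj]))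
  · rw [hU', mem_conj] at hx ⊢
    rw [show y⁻¹ * (n * x * n⁻¹) * y = y⁻¹ * n * y * (y⁻¹ * x * y) * (y⁻¹ * n * y)⁻¹ by group]
    exact (mem_normalizer_iff.1 (hconj n hn) _).1 hx
  · by_contra h1
    exact not_mem_of_odd S.isPGroup' hxo h1 (hU'S hx)

/-- An essential subgroup of order 16 does not exist. -/
theorem Ess.false_normal : False := by
  have h16 := hU.card_sixteen hb h5
  obtain ⟨-, hi⟩ := hU.nS_eq h5 h16
  rcases hb.toHyp.exists_moving hi with ⟨W, hW, y, hy, -, x, hx, hne⟩ | ⟨y, hy, hyo, x, -, hne⟩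
  · obtain rfl := hU.unique hb h5 hW
    exact hne (iff_of_true ((mem_normalizer_iff.1 hy x).1 hx) hx)
  · rw [hU.normalizes_trivial hb h5 hy hyo] at hne
    simp at hne

end Cfsg.Agent.Fus.LenSeven
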