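import Cfsg.Agent.Lib.Fus.LengthSeven.ThirtyTwoNormal
import Cfsg.Agent.Lib.Fus.LengthSeven.Isolated
import Cfsg.Agent.Lib.Fus.LengthSeven.SixteenSylow

/-!
# No Sylow subgroup of order 32 (for S3249)
-/

set_option autoImplicit false
set_option linter.style.haveILetI false

namespace Cfsg.Agent.Fus.LenSeven

open Subgroup LenEight
open scoped commutatorElement

universe u

variable {G : Type u} [Group G] [Finite G] {S : Sylow 2 G}

/-- With a central quarter and elementary central commutators there is at most one non-trivial commutator. -/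
theorem comm_bound {a b : G} (ha : a ∈ (S : Subgroup G)) (hb' : b ∈ (S : Subgroup G))
    (hD : ⁅(S : Subgroup G), (S : Subgroup G)⁆ ≤ cenS S) (hq : ⁅a, b⁆ * ⁅a, b⁆ = 1)
    (hgen : cenS S ⊔ zpowers a ⊔ zpowers b = (S : Subgroup G)) {d : G}
    (hd : d ∈ ⁅(S : Subgroup G), (S : Subgroup G)⁆) : d = 1 ∨ d = ⁅a, b⁆ := by
  set q := ⁅a, b⁆ with hqd
  let Q : Subgroup G :=
    { carrier := {g | g = 1 ∨ g = q}
      one_mem' := Or.inl rfl
      mul_mem' := fun {s t} hs ht => by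
        rcases hs with rfl | rfl <;> rcases ht with rfl | rfl <;> simp [hq]
      inv_mem' := fun {s} hs => by
        rcases hs with rfl | rfl
        · simp
        · exact Or.inr (inv_eq_of_mul_eq_one_right hq) }
  have hqQ : q ∈ Q := Or.inr rfl
  have hcentral : ∀ {s t}, s ∈ (S : Subgroup G) → t ∈ (S : Subgroup G) → ∀ r ∈ (S : Subgroup G),
      r * ⁅s, t⁆ * r⁻¹ = ⁅s, t⁆ := fun {s t} hs ht r hr => by
    rw [(mem_cenS.1 (hD (commutator_mem_commutator hs ht))).2 r hr, mul_inv_cancel_right]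
  let T : ∀ t ∈ (S : Subgroup G), Subgroup G := fun t ht =>
    { carrier := {s | s ∈ (S : Subgroup G) ∧ ⁅s, t⁆ ∈ Q}
      one_mem' := ⟨one_mem _, by simp [commutatorElement_def, one_mem]⟩
      mul_mem' := fun {r s} hr hs => ⟨mul_mem hr.1 hs.1, by
        rw [show ⁅r * s, t⁆ = r * ⁅s, t⁆ * r⁻¹ * ⁅r, t⁆ by simp only [commutatorElement_def]; group,
          hcentral hs.1 ht r hr.1]
        exact mul_mem hs.2 hr.2⟩
      inv_mem' := fun {s} hs => ⟨inv_mem hs.1, by
        have h := inv_mem hs.2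
        rw [← hcentral hs.1 ht s⁻¹ (inv_mem hs.1)] at h
        rwa [show (s⁻¹ * ⁅s, t⁆ * s⁻¹⁻¹)⁻¹ = ⁅s⁻¹, t⁆ by simp only [commutatorElement_def]; group] at h⟩ }
  have hZ : ∀ t (ht : t ∈ (S : Subgroup G)), cenS S ≤ T t ht := fun t ht s hs => ⟨hs.1, by
    rw [commutatorElement_eq_one_iff_mul_comm.2 ((mem_cenS.1 hs).2 t ht).symm]
    exact one_mem _⟩
  have hswap : ∀ {s t}, ⁅s, t⁆ ∈ Q → ⁅t, s⁆ ∈ Q := fun {s t} h => by
    rw [← commutatorElement_inv]; exact inv_mem h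
  have hone : ∀ s : G, ⁅s, s⁆ ∈ Q := fun s => by
    rw [commutatorElement_eq_one_iff_mul_comm.2 rfl]; exact one_mem _
  have h1 : ∀ s ∈ (S : Subgroup G), ⁅s, a⁆ ∈ Q := fun s hs =>
    ((sup_le (sup_le (hZ a ha) (zpowers_le.2 ⟨ha, hone a⟩)) (zpowers_le.2 ⟨hb', hswap hqQ⟩) :
      cenS S ⊔ zpowers a ⊔ zpowers b ≤ T a ha) (hgen.ge hs)).2
  have h2 : ∀ s ∈ (S : Subgroup G), ⁅s, b⁆ ∈ Q := fun s hs =>
    ((sup_le (sup_le (hZ b hb') (zpowers_le.2 ⟨ha, hqQ⟩)) (zpowers_le.2 ⟨hb', hone b⟩) :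
      cenS S ⊔ zpowers a ⊔ zpowers b ≤ T b hb') (hgen.ge hs)).2
  have h3 : ⁅(S : Subgroup G), (S : Subgroup G)⁆ ≤ Q := commutator_le.2 fun s hs t ht =>
    ((sup_le (sup_le (hZ t ht) (zpowers_le.2 ⟨ha, hswap (h1 t ht)⟩)) (zpowers_le.2 ⟨hb', hswap (h2 t ht)⟩) :
      cenS S ⊔ zpowers a ⊔ zpowers b ≤ T t ht) (hgen.ge hs)).2
  exact h3 hd

variable (hb : Big G S) (h5 : Nat.card (S : Subgroup G) = 32)
include hb h5

/-- The Sylow subgroup does not have order 32. -/
theorem Big.false_five : False := by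
  haveI : Fact (Nat.Prime 2) := ⟨Nat.prime_two⟩
  haveI := S.isPGroup'.isNilpotent
  set D := ⁅(S : Subgroup G), (S : Subgroup G)⁆ with hD
  have hDS : D ≤ (S : Subgroup G) := commutator_le_S
  -- a central involution in the commutator subgroup
  obtain ⟨z, hzD, hzZ, hz1, hz2⟩ : ∃ z ∈ D, z ∈ cenS S ∧ z ≠ 1 ∧ z * z = 1 := by
    haveI : (D.subgroupOf (S : Subgroup G)).Normal := ⟨fun q hq s => commutator_conj s.2 hq⟩
    have h1 : D.subgroupOf (S : Subgroup G) ≠ ⊥ := fun e => by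
      obtain ⟨x, hx, y, hy, hxy⟩ := hb.sna
      have hm : (⟨⁅x, y⁆, hDS (commutator_mem_commutator hx hy)⟩ : (S : Subgroup G)) ∈
          D.subgroupOf (S : Subgroup G) := commutator_mem_commutator hx hy
      rw [e, mem_bot] at hm
      exact hxy (commutatorElement_eq_one_iff_mul_comm.1 (congrArg Subtype.val hm))
    obtain ⟨⟨q, hq⟩, hq1⟩ :=
      ne_bot_iff_exists_ne_one.1 (Grp.inf_center_ne_bot (D.subgroupOf (S : Subgroup G)) h1)
    obtain ⟨i, hi⟩ := IsPGroup.iff_orderOf.1 S.isPGroup' q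
    rcases i with _ | i
    · exact absurd (Subtype.ext (orderOf_eq_one_iff.1 (by rw [hi, pow_zero]))) hq1
    refine ⟨((q ^ 2 ^ i : (S : Subgroup G)) : G), mem_subgroupOf.1 (pow_mem hq.1 _),
      mem_cenS.2 ⟨(q ^ 2 ^ i).2, fun s hs => congrArg Subtype.val (mem_center_iff.1 (pow_mem hq.2 _) ⟨s, hs⟩)⟩,
      fun e => ?_, ?_⟩
    · have := orderOf_dvd_of_pow_eq_one (show q ^ 2 ^ i = 1 from Subtype.ext e)
      rw [hi] at this
      have := Nat.le_of_dvd (by positivity) this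
      exact absurd this (by rw [pow_succ]; have := Nat.two_pow_pos i; omega)
    · rw [← coe_mul, ← pow_add, ← two_mul, ← pow_succ', ← hi, pow_orderOf_eq_one, coe_one]
  -- moved by an element of odd order normalising `S`
  obtain ⟨V, hV, y, hy, hyo, hyz⟩ := hb.toHyp.exists_moved_central hzZ.1 hz1 hz2 (mem_cenS.1 hzZ).2
  rcases hV with rfl | hV
  swap; · exact hV.false_normal hb h5
  have hy1 : y ≠ 1 := fun e => hyz (by rw [e, one_mul, mul_one])
  have hmapS : (S : Subgroup G).map (MulAut.conj y).toMonoidHom = S := Grp.mem_normalizer_of_map_eq.1 hy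
  have hyD : y ∈ normalizer (D : Set G) := Grp.mem_normalizer_of_map_eq.2 (by rw [hD, map_commutator, hmapS])
  have hyS : ∀ s ∈ (S : Subgroup G), y * s * y⁻¹ ∈ (S : Subgroup G) := fun s hs => (mem_normalizer_iff.1 hy s).1 hs
  have hyZ : ∀ g ∈ cenS S, y * g * y⁻¹ ∈ cenS S := fun g hg => by
    refine mem_cenS.2 ⟨hyS g hg.1, fun s hs => ?_⟩
    have h1 := (mem_cenS.1 hg).2 _ ((mem_normalizer_iff.1 (inv_mem hy) s).1 hs)
    have h2 := congrArg (fun t => y * t * y⁻¹) h1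
    simpa [mul_assoc] using h2
  obtain ⟨z', hz'⟩ : ∃ z', z' = y * z * y⁻¹ := ⟨_, rfl⟩
  have hz'D : z' ∈ D := hz' ▸ (mem_normalizer_iff.1 hyD z).1 hzD
  have hz'Z : z' ∈ cenS S := hz' ▸ hyZ z hzZ
  have hz'z : z' ≠ z := fun e => hyz (mul_inv_eq_iff_eq_mul.1 (hz'.symm.trans e))
  have hz'1 : z' ≠ 1 := fun e => hz1 (conj_eq_one_iff.1 (hz'.symm.trans e))
  have hz'2 : z' * z' = 1 := by
    rw [hz', show y * z * y⁻¹ * (y * z * y⁻¹) = y * (z * z) * y⁻¹ by group, hz2, mul_one, mul_inv_cancel]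
  have hzz' : z * z' = z' * z := ((mem_cenS.1 hz'Z).2 z hzZ.1)
  have hcardD : Nat.card D ≤ 4 := by
    have := hb.der_index
    rw [h5] at this
    rw [hD]
    omega
  have hfour : ∀ d ∈ D, d = 1 ∨ d = z ∨ d = z' ∨ d = z * z' := by
    intro d hd
    by_contra! hne
    classical
    haveI : Fintype D := Fintype.ofFinite _
    let f : Fin 5 → D := ![1, ⟨z, hzD⟩, ⟨z', hz'D⟩, ⟨z * z', mul_mem hzD hz'D⟩, ⟨d, hd⟩]
    have h1 : z * z' ≠ 1 := fun e => hz'z (by
      rw [← inv_eq_of_mul_eq_one_right e, inv_eq_of_mul_eq_one_right hz2])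
    have h2 : z * z' ≠ z := fun e => hz'1 (mul_eq_left.1 e)
    have h3 : z * z' ≠ z' := fun e => hz1 (mul_eq_right.1 e)
    have hf : Function.Injective f := by
      intro i j e
      fin_cases i <;> fin_cases j <;> simp [f, Subtype.ext_iff] at e ⊢ <;>
        first
          | exact absurd e hz1 | exact absurd e.symm hz1 | exact absurd e hz'1 | exact absurd e.symm hz'1
          | exact absurd e hz'z | exact absurd e.symm hz'z | exact absurd e h1 | exact absurd e.symm h1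
          | exact absurd e h2 | exact absurd e.symm h2 | exact absurd e h3 | exact absurd e.symm h3
          | exact absurd e hne.1 | exact absurd e.symm hne.1 | exact absurd e hne.2.1 | exact absurd e.symm hne.2.1
          | exact absurd e hne.2.2.1 | exact absurd e.symm hne.2.2.1 | exact absurd e hne.2.2.2
          | exact absurd e.symm hne.2.2.2
    have := Nat.card_le_card_of_injective f hf
    rw [Nat.card_eq_fintype_card (α := Fin 5), Fintype.card_fin] at this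
    omega
  have hDZ : D ≤ cenS S := fun d hd => by
    rcases hfour d hd with rfl | rfl | rfl | rfl
    exacts [one_mem _, hzZ, hz'Z, mul_mem hzZ hz'Z]
  have hDsq : ∀ d ∈ D, d * d = 1 := fun d hd => by
    rcases hfour d hd with rfl | rfl | rfl | rfl
    · exact one_mul 1
    · exact hz2
    · exact hz'2
    · rw [mul_assoc, ← mul_assoc z', ← hzz', mul_assoc z, hz'2, mul_one, hz2]
  -- the three-cycle on `D`
  obtain ⟨c, hcdef⟩ : ∃ c : G → G, c = fun g => y * g * y⁻¹ := ⟨_, rfl⟩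
  have hc : ∀ g, c g = y * g * y⁻¹ := fun g => by rw [hcdef]
  have hcmul : ∀ g h, c (g * h) = c g * c h := fun g h => by simp [hc, mul_assoc]
  have hcz : c z = z' := (hc z).trans hz'.symm
  have hcz' : c z' = z * z' := by
    rcases hfour _ ((mem_normalizer_iff.1 hyD z').1 hz'D) with e | e | e | e
    · exact absurd (conj_eq_one_iff.1 e) hz'1
    · exfalso
      have h2 : y ^ 2 * z = z * y ^ 2 := by
        refine mul_inv_eq_iff_eq_mul.1 ?_
        rw [show y ^ 2 * z * (y ^ 2)⁻¹ = y * (y * z * y⁻¹) * y⁻¹ by rw [sq]; group, ← hz', e]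
      obtain ⟨m, hm⟩ := hyo
      have h3 : (y ^ 2) ^ (m + 1) = y := by
        rw [← pow_mul, show 2 * (m + 1) = 2 * m + 1 + 1 by ring, ← hm, pow_succ, pow_orderOf_eq_one, one_mul]
      exact hyz (h3 ▸ ((show Commute (y ^ 2) z from h2).pow_left (m + 1)).eq)
    · exact absurd (mul_left_cancel (mul_right_cancel (e.trans hz'))) hz'z
    · rw [hc]; exact e
  have hczz : c (z * z') = z := by rw [hcmul, hcz, hcz', ← mul_assoc, ← hzz', mul_assoc, hz'2, mul_one]
  have hfpf : ∀ d ∈ D, c d = d → d = 1 := fun d hd e => by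
    rcases hfour d hd with rfl | rfl | rfl | rfl
    · rfl
    · exact absurd (hcz.symm.trans e) hz'z
    · exact absurd (mul_eq_right.1 (hcz'.symm.trans e)) hz1
    · exact absurd (mul_eq_left.1 (hczz.symm.trans e).symm) hz'1
  -- the normalizer of `S`
  have hNtop := hb.toHyp.normalizer_ne_top (fun e => by rw [e] at h5; simp at h5) S.isPGroup'
  set Y := (S : Subgroup G) ⊔ zpowers y with hY
  have hYN : Y ≤ normalizer ((S : Subgroup G) : Set G) := sup_le le_normalizer (zpowers_le.2 hy)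
  have hy3z : y ^ 3 * z = z * y ^ 3 := by
    refine mul_inv_eq_iff_eq_mul.1 ?_
    calc y ^ 3 * z * (y ^ 3)⁻¹ = c (c (c z)) := by simp only [hc, pow_succ, pow_zero, one_mul]; group
      _ = z := by rw [hcz, hcz', hczz]
  have hy3 : y ^ 3 = 1 := by
    by_contra h3
    set W := (S : Subgroup G) ⊔ zpowers (y ^ 3)
    have hW : W ≤ centralizer ({z} : Set G) :=
      sup_le (fun s hs => mem_centralizer_singleton_iff.2 ((mem_cenS.1 hzZ).2 s hs))
        (zpowers_le.2 (mem_centralizer_singleton_iff.2 hy3z))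
    have l1 : (S : Subgroup G) < W := lt_of_le_of_ne le_sup_left fun e =>
      not_mem_of_odd S.isPGroup' (hyo.of_dvd_nat (orderOf_pow_dvd 3)) h3 (e.ge (mem_sup_right (mem_zpowers _)))
    have l2 : W < Y := lt_of_le_of_ne (sup_le le_sup_left (zpowers_le.2 (pow_mem (mem_sup_right (mem_zpowers y)) 3)))
      fun e => hyz (mem_centralizer_singleton_iff.1 (hW (e.ge (mem_sup_right (mem_zpowers y)))))
    have := hb.toHyp.proper_len (((len_two_group (a := 5) h5).succ l1).succ l2)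
      (fun e => hNtop (top_le_iff.1 (e ▸ hYN)))
    omega
  have hN : Y = normalizer ((S : Subgroup G) : Set G) := by
    by_contra hne
    have l1 : (S : Subgroup G) < Y := lt_of_le_of_ne le_sup_left fun e =>
      not_mem_of_odd S.isPGroup' hyo hy1 (e.ge (mem_sup_right (mem_zpowers y)))
    have := hb.toHyp.proper_len (((len_two_group (a := 5) h5).succ l1).succ (lt_of_le_of_ne hYN hne)) hNtop
    omega
  have hc3 : ∀ g, c (c (c g)) = g := fun g => by
    calc c (c (c g)) = y ^ 3 * g * (y ^ 3)⁻¹ := by simp only [hc, pow_succ, pow_zero, one_mul]; group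
      _ = g := by rw [hy3]; simp
  -- a fixed element outside `D`
  obtain ⟨x, hxS, hx1, hcx⟩ : ∃ x ∈ (S : Subgroup G), x ≠ 1 ∧ c x = x := by
    classical
    haveI : Fintype (S : Subgroup G) := Fintype.ofFinite _
    haveI : Fact (Nat.Prime 3) := ⟨Nat.prime_three⟩
    let σ : Equiv.Perm {s : (S : Subgroup G) // s ≠ 1} :=
      { toFun := fun s => ⟨⟨c s.1, by rw [hc]; exact hyS _ s.1.2⟩, fun e => s.2 (Subtype.ext (by
          have h : c s.1 = 1 := congrArg Subtype.val e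
          rw [hc] at h
          exact conj_eq_one_iff.1 h))⟩
        invFun := fun s => ⟨⟨c (c s.1), by rw [hc, hc]; exact hyS _ (hyS _ s.1.2)⟩, fun e => s.2 (Subtype.ext (by
          have h : c (c (c s.1)) = c 1 := congrArg c (congrArg Subtype.val e : c (c s.1) = 1)
          rw [hc3, hc] at h
          simpa using h))⟩
        left_inv := fun s => Subtype.ext (Subtype.ext (hc3 _))
        right_inv := fun s => Subtype.ext (Subtype.ext (hc3 _)) }
    have hσ : σ ^ 3 ^ 1 = 1 := Equiv.ext fun s => Subtype.ext (Subtype.ext (hc3 _))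
    obtain ⟨a, ha⟩ := Equiv.Perm.exists_fixed_point_of_prime (p := 3) (n := 1) (by
      rw [Fintype.card_subtype_compl, Fintype.card_subtype_eq, ← Nat.card_eq_fintype_card, h5]
      norm_num) hσ
    exact ⟨_, a.1.2, fun e => a.2 (Subtype.ext e), congrArg (fun t => ((t.1 : (S : Subgroup G)) : G)) ha⟩
  have hxD : x ∉ D := fun h => hx1 (hfpf x h hcx)
  have hD4 : Nat.card D = 4 := by
    have h1 := (card_two_pow (S := S) hDS)
    obtain ⟨i, hi⟩ := h1
    classical
    haveI : Fintype D := Fintype.ofFinite _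
    have h3 : 2 < Nat.card D := by
      rw [Nat.card_eq_fintype_card]
      exact Fintype.two_lt_card_iff.2 ⟨1, ⟨z, hzD⟩, ⟨z', hz'D⟩, fun e => hz1 (congrArg Subtype.val e).symm,
        fun e => hz'1 (congrArg Subtype.val e).symm, fun e => hz'z (congrArg Subtype.val e).symm⟩
    rw [hi] at h3 hcardD ⊢
    rcases i with _ | _ | _ | i <;> simp [pow_succ] at h3 hcardD ⊢
    have := Nat.two_pow_pos i
    omega
  set K := D ⊔ zpowers x with hK
  have hKS : K ≤ (S : Subgroup G) := sup_le hDS (zpowers_le.2 hxS)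
  have hK8 : 8 ≤ Nat.card K := by
    have := double_le (S := S) hKS (lt_of_le_of_ne le_sup_left fun e =>
      hxD (e.ge (mem_sup_right (mem_zpowers x))) : D < K)
    omega
  -- `x` is not central
  obtain ⟨g, hgS, hgx⟩ : ∃ g ∈ (S : Subgroup G), ⁅g, x⁆ ≠ 1 := by
    by_contra! hall
    have hxZ : x ∈ cenS S := mem_cenS.2 ⟨hxS, fun s hs => commutatorElement_eq_one_iff_mul_comm.1 (hall s hs)⟩
    have hZ8 := hK8.trans (card_le_of_le (sup_le hDZ (zpowers_le.2 hxZ) : K ≤ cenS S))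
    obtain ⟨a, ha, b, hb', hab⟩ := hb.sna
    have l1 : cenS S < cenS S ⊔ zpowers a := lt_of_le_of_ne le_sup_left fun e =>
      hab ((mem_cenS.1 (e.ge (mem_sup_right (mem_zpowers a)))).2 b hb').symm
    have hAc := comm_of_sup (A := cenS S) (g := a) (fun u hu u' hu' => (mem_cenS.1 hu').2 u hu.1)
      fun u hu => (mem_cenS.1 hu).2 a ha
    have hAS : cenS S ⊔ zpowers a ≤ (S : Subgroup G) := sup_le inf_le_left (zpowers_le.2 ha)
    have l2 : cenS S ⊔ zpowers a < cenS S ⊔ zpowers a ⊔ zpowers b := lt_of_le_of_ne le_sup_left fun e =>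
      hab (hAc a (mem_sup_right (mem_zpowers a)) b (e.ge (mem_sup_right (mem_zpowers b))))
    have h1 := double_le (S := S) hAS l1
    have h2 := double_le (S := S) (sup_le hAS (zpowers_le.2 hb')) l2
    have hgen := eq_of_le_of_card_ge (sup_le hAS (zpowers_le.2 hb')) (by omega)
    have hbd := fun d hd => comm_bound ha hb' hDZ (hDsq _ (commutator_mem_commutator ha hb')) hgen (d := d) hd
    rcases hbd z hzD with e | e
    · exact hz1 e
    rcases hbd z' hz'D with e' | e'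
    · exact hz'1 e'
    · exact hz'z (e'.trans e.symm)
  set C := (S : Subgroup G) ⊓ centralizer ({x} : Set G) with hCd
  have hKC : K ≤ C := sup_le (fun d hd => ⟨hDS hd, mem_centralizer_singleton_iff.2 ((mem_cenS.1 (hDZ hd)).2 x hxS).symm⟩)
    (zpowers_le.2 ⟨hxS, mem_centralizer_singleton_iff.2 rfl⟩)
  have horb : ∀ d ∈ D, d * x ∈ orb (S : Subgroup G) x := by
    let E : Set G := {d | d ∈ D ∧ d * x ∈ orb (S : Subgroup G) x}
    have hE1 : (1 : G) ∈ E := ⟨one_mem _, 1, one_mem _, by simp⟩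
    have hEc : ∀ d ∈ E, c d ∈ E := by
      rintro d ⟨hd, s, hs, e⟩
      refine ⟨by rw [hc]; exact (mem_normalizer_iff.1 hyD d).1 hd, y * s * y⁻¹, hyS s hs, ?_⟩
      rw [show y * s * y⁻¹ * x * (y * s * y⁻¹)⁻¹ = y * s * y⁻¹ * c x * (y * s * y⁻¹)⁻¹ by rw [hcx],
        ← hcx, ← hcmul, hcx, hc, hc, ← e]
      group
    have hq : ⁅g, x⁆ ∈ E := ⟨commutator_mem_commutator hgS hxS, g, hgS, by
      rw [commutatorElement_def, inv_mul_cancel_right]⟩
    have hall : z ∈ E ∧ z' ∈ E ∧ z * z' ∈ E := by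
      rcases hfour _ hq.1 with e | e | e | e
      · exact absurd e hgx
      · rw [e] at hq
        exact ⟨hq, hcz ▸ hEc _ hq, hcz' ▸ hEc _ (hcz ▸ hEc _ hq)⟩
      · rw [e] at hq
        exact ⟨hczz ▸ hEc _ (hcz' ▸ hEc _ hq), hq, hcz' ▸ hEc _ hq⟩
      · rw [e] at hq
        exact ⟨hczz ▸ hEc _ hq, hcz ▸ hEc _ (hczz ▸ hEc _ hq), hq⟩
    intro d hd
    rcases hfour d hd with rfl | rfl | rfl | rfl
    exacts [hE1.2, hall.1.2, hall.2.1.2, hall.2.2.2]
  have hC8 : Nat.card C = 8 := by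
    have h1 := orb_card (S : Subgroup G) x
    have h2 := Set.ncard_le_ncard (s := (fun d => d * x) '' (D : Set G)) (t := orb (S : Subgroup G) x)
      (by rintro _ ⟨d, hd, rfl⟩; exact horb d hd)
    have hinj : (D : Set G).InjOn (fun d => d * x) := fun a _ b _ e => mul_right_cancel e
    have h6 : (D : Set G).ncard = 4 := by rw [← Nat.card_coe_set_eq]; exact hD4
    rw [hinj.ncard_image, h6] at h2
    rw [h5] at h1
    have h3 : 4 * Nat.card C ≤ 32 := h1 ▸ Nat.mul_le_mul_right _ h2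
    have h4 := card_le_of_le hKC
    omega
  have hDC : D.relIndex C = 2 := rel_two (le_sup_left.trans hKC) (by rw [hC8, hD4])
  have hxC : x ∈ C := hKC (mem_sup_right (mem_zpowers x))
  have hx2 : x * x = 1 := hfpf _ (rel_sq hDC hxC) (by rw [hcmul, hcx])
  have hsqD : ∀ s ∈ (S : Subgroup G), s * s ∈ D := by
    intro s hs
    have hq : ⁅s, x⁆ ∈ D := commutator_mem_commutator hs hxS
    have h1 : s * x * s⁻¹ = ⁅s, x⁆ * x := by rw [commutatorElement_def, inv_mul_cancel_right]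
    have hsC : s * s ∈ C := by
      refine ⟨mul_mem hs hs, mem_centralizer_singleton_iff.2 (mul_inv_eq_iff_eq_mul.1 ?_)⟩
      rw [show s * s * x * (s * s)⁻¹ = s * (s * x * s⁻¹) * s⁻¹ by group, h1,
        show s * (⁅s, x⁆ * x) * s⁻¹ = s * ⁅s, x⁆ * s⁻¹ * (s * x * s⁻¹) by group, h1,
        (mem_cenS.1 (hDZ hq)).2 s hs, mul_inv_cancel_right, ← mul_assoc, hDsq _ hq, one_mul]
    by_contra hnD
    have hd : s * s * x ∈ D := (rel_mul hDC hsC hxC).2 (iff_of_false hnD hxD)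
    have hsx : s * x = x * s := by
      have h2 := (mem_cenS.1 (hDZ hd)).2 s hs
      have h3 : s * s * (s * x) = s * s * (x * s) := by
        calc s * s * (s * x) = s * (s * s * x) := by group
          _ = s * s * x * s := h2
          _ = _ := by group
      exact mul_left_cancel h3
    have hsC' : s ∈ C := ⟨hs, mem_centralizer_singleton_iff.2 hsx⟩
    exact hnD (rel_sq hDC hsC')
  -- a half avoiding `x`
  obtain ⟨M0, ⟨hDM, hMS, hxM⟩, hmax⟩ : ∃ M : Subgroup G, (D ≤ M ∧ M ≤ (S : Subgroup G) ∧ x ∉ M) ∧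
      ∀ M' : Subgroup G, D ≤ M' → M' ≤ (S : Subgroup G) → x ∉ M' → Nat.card M' ≤ Nat.card M := by
    haveI : Nonempty {M : Subgroup G // D ≤ M ∧ M ≤ (S : Subgroup G) ∧ x ∉ M} := ⟨⟨D, le_rfl, hDS, hxD⟩⟩
    obtain ⟨M, hM⟩ := Finite.exists_max fun M : {M : Subgroup G // D ≤ M ∧ M ≤ (S : Subgroup G) ∧ x ∉ M} =>
      Nat.card M.1
    exact ⟨M.1, M.2, fun M' h1 h2 h3 => hM ⟨M', h1, h2, h3⟩⟩
  have hxg : ∀ s ∈ (S : Subgroup G), s ∉ M0 → x * s ∈ M0 := by
    intro s hs hsM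
    have hxin : x ∈ M0 ⊔ zpowers s := by
      by_contra hnot
      have := hmax _ (hDM.trans le_sup_left) (sup_le hMS (zpowers_le.2 hs)) hnot
      exact hsM ((eq_of_le_of_card_ge (le_sup_left : M0 ≤ M0 ⊔ zpowers s) this).ge (mem_sup_right (mem_zpowers s)))
    exact (mem_sup_sq (hDM (hsqD s hs)) (mem_normalizer_fintype fun h hh => conj_mem_of_der hMS hDM hs hh)
      hxin).resolve_left hxM
  have hi0 : M0.relIndex (S : Subgroup G) = 2 := by
    rw [relIndex, index_eq_two_iff]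
    refine ⟨⟨x, hxS⟩, fun s => ?_⟩
    rw [xor_def, mem_subgroupOf, mem_subgroupOf, coe_mul]
    by_cases h : (s : G) ∈ M0
    · exact Or.inr ⟨h, fun e => hxM ((Subgroup.mul_mem_cancel_left _ h).1 e)⟩
    · refine Or.inl ⟨?_, h⟩
      have := conj_mem_of_der hMS hDM s.2 (hxg s s.2 h)
      rwa [show (s : G) * (x * s) * (s : G)⁻¹ = s * x by group] at this
  -- the invariant half
  have hcS : ∀ s ∈ (S : Subgroup G), c s ∈ (S : Subgroup G) := fun s hs => (hc s).symm ▸ hyS s hs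
  obtain ⟨P, hP⟩ : ∃ P : G → Prop, ∀ s, P s ↔ ((s ∈ M0 ↔ c s ∈ M0) ↔ c (c s) ∈ M0) :=
    ⟨_, fun s => Iff.rfl⟩
  have hc1 : c 1 = 1 := by simp [hc]
  have hPmul : ∀ r ∈ (S : Subgroup G), ∀ s ∈ (S : Subgroup G), (P (r * s) ↔ (P r ↔ P s)) := by
    intro r hr s hs
    rw [hP, hP, hP, hcmul, hcmul, half_mul hi0 hr hs, half_mul hi0 (hcS r hr) (hcS s hs),
      half_mul hi0 (hcS _ (hcS r hr)) (hcS _ (hcS s hs))]
    tauto
  have hP1 : P 1 := by rw [hP, hc1, hc1]; simp [one_mem]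
  let M : Subgroup G :=
    { carrier := {s | s ∈ (S : Subgroup G) ∧ P s}
      one_mem' := ⟨one_mem _, hP1⟩
      mul_mem' := fun {r s} hr hs => ⟨mul_mem hr.1 hs.1, (hPmul r hr.1 s hs.1).2 (iff_of_true hr.2 hs.2)⟩
      inv_mem' := fun {s} hs => ⟨inv_mem hs.1, by
        have h := hPmul s hs.1 s⁻¹ (inv_mem hs.1)
        rw [mul_inv_cancel] at h
        exact (h.1 hP1).1 hs.2⟩ }
  have hPx : ¬ P x := by rw [hP, hcx, hcx]; simp [hxM]
  have hiM : M.relIndex (S : Subgroup G) = 2 := by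
    rw [relIndex, index_eq_two_iff]
    refine ⟨⟨x, hxS⟩, fun s => ?_⟩
    rw [xor_def, mem_subgroupOf, mem_subgroupOf, coe_mul]
    show ((s : G) * x ∈ (S : Subgroup G) ∧ P (s * x)) ∧ ¬ ((s : G) ∈ (S : Subgroup G) ∧ P s) ∨
      ((s : G) ∈ (S : Subgroup G) ∧ P s) ∧ ¬ ((s : G) * x ∈ (S : Subgroup G) ∧ P (s * x))
    have h := hPmul s s.2 x hxS
    by_cases hs : P s
    · exact Or.inr ⟨⟨s.2, hs⟩, fun e => hPx ((h.1 e.2).1 hs)⟩
    · exact Or.inl ⟨⟨mul_mem s.2 hxS, h.2 (iff_of_false hs hPx)⟩, fun e => hs e.2⟩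
  let W : Subgroup G :=
    { carrier := {n | n ∈ normalizer ((S : Subgroup G) : Set G) ∧ ∀ s ∈ (S : Subgroup G), (n * s * n⁻¹ ∈ M ↔ s ∈ M)}
      one_mem' := ⟨one_mem _, fun s _ => by simp⟩
      mul_mem' := fun {m n} hm hn => ⟨mul_mem hm.1 hn.1, fun s hs => by
        rw [show m * n * s * (m * n)⁻¹ = m * (n * s * n⁻¹) * m⁻¹ by group]
        exact (hm.2 _ ((mem_normalizer_iff.1 hn.1 s).1 hs)).trans (hn.2 s hs)⟩
      inv_mem' := fun {n} hn => ⟨inv_mem hn.1, fun s hs => by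
        have := hn.2 (n⁻¹ * s * n⁻¹⁻¹) ((mem_normalizer_iff.1 (inv_mem hn.1) s).1 hs)
        rw [show n * (n⁻¹ * s * n⁻¹⁻¹) * n⁻¹ = s by group] at this
        exact this.symm⟩ }
  have hle : Y ≤ W := sup_le (fun t ht => ⟨le_normalizer ht, fun s hs => half_conj hiM hs ht⟩) (zpowers_le.2
    ⟨hy, fun s hs => by
      show (y * s * y⁻¹ ∈ (S : Subgroup G) ∧ P (y * s * y⁻¹)) ↔ (s ∈ (S : Subgroup G) ∧ P s)
      rw [← hc]
      simp only [hcS s hs, hs, true_and, hP, hc3]
      tauto⟩)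
  rcases hb.toHyp.exists_moving hiM with ⟨U, hU, -⟩ | ⟨n, hn, -, s, hs, hne⟩
  · exact hU.false_normal hb h5
  · exact hne ((hle (hN.ge hn)).2 s hs)

omit h5 in
/-- A nonabelian Sylow 2-subgroup contains no elementary subgroup of order 8. -/
theorem Big.false_big : False := by
  obtain ⟨a, ha, h4, h6⟩ := hb.card
  rcases (show a = 4 ∨ a = 5 ∨ a = 6 by omega) with rfl | rfl | rfl
  · exact hb.false_four (by rw [ha]; norm_num)
  · exact hb.false_five (by rw [ha]; norm_num)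
  · exact hb.not_six ha

end Cfsg.Agent.Fus.LenSeven
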