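import Cfsg.Agent.Lib.Fus.LengthSeven.Identify

/-!
# Simple groups of length at most seven: `SL₂(3)` and its cyclic extensions (for S3249)
-/

set_option autoImplicit false
set_option linter.style.haveILetI false

namespace Cfsg.Agent.Fus.LenSeven

open Subgroup Matrix

universe u v w

local instance fact_prime_three : Fact (Nat.Prime 3) := ⟨Nat.prime_three⟩

local notation "S₃" => Matrix.SpecialLinearGroup (Fin 2) (ZMod 3)
local notation "G₃" => GL (Fin 2) (ZMod 3)
local notation "toG" => (Matrix.SpecialLinearGroup.toGL : S₃ →* G₃)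

/-- The upper transvection. -/
def uu : S₃ := ⟨!![1, 1; 0, 1], by decide⟩

/-- The lower transvection. -/
def vv : S₃ := ⟨!![1, 0; 1, 1], by decide⟩

theorem three_generate : ∀ s : S₃, ∃ i j k l : Fin 3, s = uu ^ (i : ℕ) * vv ^ (j : ℕ) * uu ^ (k : ℕ) * vv ^ (l : ℕ) := by
  decide +kernel

theorem three_card : Fintype.card S₃ = 24 := by decide +kernel

theorem three_no_eight : ∀ s : S₃, s ^ 8 = 1 → s ^ 4 = 1 := by decide +kernel

theorem three_central_sq : ∀ s : S₃, (∀ r : S₃, r * s = s * r) → s * s = 1 := by decide +kernel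

theorem three_uu_vv : uu ^ 3 = 1 ∧ uu ≠ 1 ∧ vv ^ 3 = 1 ∧ vv ≠ 1 ∧ (uu * vv) ^ 4 = 1 ∧ (uu * vv) ^ 2 ≠ 1 := by
  decide +kernel

/-- The possible images of the two generators. -/
abbrev Img : Type :=
  {ab : S₃ × S₃ // ab.1 ^ 3 = 1 ∧ ab.1 ≠ 1 ∧ ab.2 ^ 3 = 1 ∧ ab.2 ≠ 1 ∧ (ab.1 * ab.2) ^ 4 = 1 ∧ (ab.1 * ab.2) ^ 2 ≠ 1}

theorem card_img : Fintype.card Img = 24 := by decide +kernel

theorem img_conj : ∀ ab : Img, ∃ a b c d : ZMod 3, a * d - b * c ≠ 0 ∧
    !![a, b; c, d] * (uu : Matrix (Fin 2) (Fin 2) (ZMod 3)) = (ab.1.1 : Matrix (Fin 2) (Fin 2) (ZMod 3)) * !![a, b; c, d] ∧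
    !![a, b; c, d] * (vv : Matrix (Fin 2) (Fin 2) (ZMod 3)) = (ab.1.2 : Matrix (Fin 2) (Fin 2) (ZMod 3)) * !![a, b; c, d] := by
  decide +kernel

/-- The images of the two generators under an automorphism. -/
noncomputable def toImg (α : MulAut S₃) : Img := ⟨(α uu, α vv), by
  obtain ⟨h1, h2, h3, h4, h5, h6⟩ := three_uu_vv
  exact ⟨by rw [← map_pow, h1, map_one], fun e => h2 (α.injective (e.trans (map_one α).symm)),
    by rw [← map_pow, h3, map_one], fun e => h4 (α.injective (e.trans (map_one α).symm)),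
    by rw [← map_mul, ← map_pow, h5, map_one],
    fun e => h6 (α.injective (by rw [map_pow, map_mul, e, map_one]))⟩⟩

theorem hom_ext_three {H : Type u} [Group H] {f g : S₃ →* H} (h1 : f uu = g uu) (h2 : f vv = g vv) : f = g := by
  refine MonoidHom.ext fun s => ?_
  obtain ⟨i, j, k, l, rfl⟩ := three_generate s
  simp only [map_mul, map_pow, h1, h2]

theorem toImg_injective : Function.Injective toImg := fun α β h => MulEquiv.toMonoidHom_injective
  (hom_ext_three (congrArg (fun x : Img => x.1.1) h) (congrArg (fun x : Img => x.1.2) h))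

/-- `Aut SL₂(3)` has at most 24 elements. -/
theorem card_aut_three : Nat.card (MulAut S₃) ≤ 24 := by
  have := Nat.card_le_card_of_injective toImg toImg_injective
  rwa [Nat.card_eq_fintype_card (α := Img), card_img] at this

/-- Every automorphism of `SL₂(3)` is a conjugation. -/
theorem exists_conj_three (α : S₃ ≃* S₃) : ∃ m : G₃, ∀ s : S₃, toG (α s) = m * toG s * m⁻¹ := by
  obtain ⟨a, b, c, d, hdet, h1, h2⟩ := img_conj (toImg α)
  let m : G₃ := Matrix.GeneralLinearGroup.mkOfDetNeZero !![a, b; c, d] (by rw [det_fin_two_of]; exact hdet)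
  have hgen : ∀ g : S₃, (!![a, b; c, d] * (g : Matrix (Fin 2) (Fin 2) (ZMod 3)) =
      (α g : Matrix (Fin 2) (Fin 2) (ZMod 3)) * !![a, b; c, d]) → toG (α g) = m * toG g * m⁻¹ := fun g hg => by
    rw [eq_mul_inv_iff_mul_eq]
    exact Units.ext hg.symm
  refine ⟨m, fun s => ?_⟩
  exact DFunLike.congr_fun (hom_ext_three (f := (toG).comp α.toMonoidHom)
    (g := (MulAut.conj m).toMonoidHom.comp toG) (hgen uu h1) (hgen vv h2)) s

theorem order_four_facts : ∀ a b c d z : ZMod 3, !![a, b; c, d] * !![a, b; c, d] * (!![a, b; c, d] * !![a, b; c, d]) =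
      !![z, 0; 0, z] → a * d - b * c ≠ 0 →
    (∀ e : ZMod 3, !![a, b; c, d] * !![a, b; c, d] ≠ !![e, 0; 0, e]) → a * d - b * c = -1 ∧ z = -1 := by
  decide +kernel

/-- An element of order four modulo scalars. -/
theorem three_order_four {m : G₃} {z : (ZMod 3)ˣ} (h4 : m * m * (m * m) = GeneralLinearGroup.scalar (Fin 2) z)
    (h2 : ∀ e : (ZMod 3)ˣ, m * m ≠ GeneralLinearGroup.scalar (Fin 2) e) :
    GeneralLinearGroup.det m = -1 ∧ z = -1 := by
  have key := order_four_facts ((m : Matrix (Fin 2) (Fin 2) (ZMod 3)) 0 0) ((m : Matrix (Fin 2) (Fin 2) (ZMod 3)) 0 1)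
    ((m : Matrix (Fin 2) (Fin 2) (ZMod 3)) 1 0) ((m : Matrix (Fin 2) (Fin 2) (ZMod 3)) 1 1) z
  rw [← eta_fin_two (m : Matrix (Fin 2) (Fin 2) (ZMod 3)), ← det_fin_two] at key
  have hsc : ∀ e : ZMod 3, (!![e, 0; 0, e] : Matrix (Fin 2) (Fin 2) (ZMod 3)) = Matrix.scalar (Fin 2) e := fun e => by
    ext i j; fin_cases i <;> fin_cases j <;> simp
  simp only [hsc] at key
  obtain ⟨k1, k2⟩ := key (congrArg Units.val h4) (Matrix.GeneralLinearGroup.det_ne_zero m) (fun e he => by
    have he0 : e ≠ 0 := fun h0 => by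
      have := Matrix.GeneralLinearGroup.det_ne_zero (m * m)
      rw [Units.val_mul, he, h0, map_zero] at this
      exact this (by simp)
    exact h2 (Units.mk0 e he0) (Units.ext he))
  exact ⟨Units.ext (by rw [GeneralLinearGroup.val_det_apply, k1]; simp), Units.ext (by rw [k2]; simp)⟩

/-- Two split extensions of `K` by a cyclic group with the same action are isomorphic. -/
theorem iso_of_cyclic {C : Type u} {H : Type v} {K : Type w} [Group C] [Group H] [Group K] [Finite C] [Finite H]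
    {n : ℕ} (φ : K →* C) (hφ : Function.Injective φ) {y : C} (hy : y ^ n = 1)
    (hyL : ∀ i < n, y ^ i ∈ φ.range → i = 0) (j : K →* H) (hj : Function.Injective j) {M : H} (hM : M ^ n = 1)
    (hMj : ∀ i < n, M ^ i ∈ j.range → i = 0) (α : K ≃* K) (hα : ∀ k, y * φ k * y⁻¹ = φ (α k))
    (hα' : ∀ k, M * j k * M⁻¹ = j (α k)) (hC : Nat.card C = n * Nat.card K) (hH : Nat.card H = n * Nat.card K) :
    Nonempty (C ≃* H) := by
  haveI : Finite K := Finite.of_injective φ hφ
  have hn : 0 < n := Nat.pos_of_ne_zero fun h0 => by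
    rw [h0, zero_mul] at hC
    exact (Nat.card_pos (α := C)).ne' hC
  set D0 := (φ.prod j).range with hD0
  set D := D0 ⊔ zpowers ((y, M) : C × H) with hD
  have hnorm : zpowers ((y, M) : C × H) ≤ normalizer (D0 : Set (C × H)) := by
    rw [zpowers_le]
    refine mem_normalizer_iff.2 fun p => ⟨?_, ?_⟩
    · rintro ⟨k, rfl⟩
      exact ⟨α k, Prod.ext (hα k).symm (hα' k).symm⟩
    · rintro ⟨k, hk⟩
      obtain ⟨l, rfl⟩ : ∃ l, α l = k := ⟨α.symm k, α.apply_symm_apply k⟩
      refine ⟨l, ?_⟩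
      have h1 : (φ l, j l) = ((y, M) : C × H)⁻¹ * (φ (α l), j (α l)) * (y, M) :=
        Prod.ext (by show φ l = y⁻¹ * φ (α l) * y; rw [← hα]; group)
          (by show j l = M⁻¹ * j (α l) * M; rw [← hα']; group)
      show (φ l, j l) = p
      rw [h1]
      change (φ.prod j) (α l) = _ at hk
      rw [show (φ (α l), j (α l)) = (φ.prod j) (α l) from rfl, hk]
      group
  have hord : IsOfFinOrder ((y, M) : C × H) := isOfFinOrder_of_finite _
  have hmem : ∀ p ∈ D, ∃ (k : K) (i : ℕ), i < n ∧ p = (φ k * y ^ i, j k * M ^ i) := by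
    intro p hp
    rw [← SetLike.mem_coe, hD, coe_mul_of_right_le_normalizer_left _ _ hnorm, Set.mem_mul] at hp
    obtain ⟨_, ⟨k, rfl⟩, q, hq, rfl⟩ := hp
    obtain ⟨i, rfl⟩ := hord.mem_powers_iff_mem_zpowers.2 hq
    refine ⟨k, i % n, Nat.mod_lt _ hn, Prod.ext ?_ ?_⟩
    · show φ k * (((y, M) : C × H) ^ i).1 = _
      rw [Prod.pow_fst, pow_eq_pow_mod i hy]
    · show j k * (((y, M) : C × H) ^ i).2 = _
      rw [Prod.pow_snd, pow_eq_pow_mod i hM]
  have hin : ∀ (k : K) (i : ℕ), ((φ k * y ^ i, j k * M ^ i) : C × H) ∈ D := fun k i => by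
    have := mul_mem (mem_sup_left (T := zpowers ((y, M) : C × H)) (⟨k, rfl⟩ : (φ.prod j) k ∈ D0))
      (mem_sup_right (S := D0) (pow_mem (mem_zpowers ((y, M) : C × H)) i))
    rw [← hD] at this
    rw [Prod.pow_mk] at this
    exact this
  let p1 : D →* C := (MonoidHom.fst C H).comp D.subtype
  let p2 : D →* H := (MonoidHom.snd C H).comp D.subtype
  have hp1 : Function.Injective p1 := by
    refine (injective_iff_map_eq_one _).2 fun d hd => ?_
    obtain ⟨k, i, hi, hp⟩ := hmem d d.2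
    change (d : C × H).1 = 1 at hd
    rw [hp] at hd
    have hi0 := hyL i hi ⟨k⁻¹, by rw [map_inv]; exact inv_eq_of_mul_eq_one_right hd⟩
    subst hi0
    rw [pow_zero, mul_one] at hd
    have hd' : φ k = 1 := by simpa using hd
    have hk : k = 1 := hφ (hd'.trans (map_one φ).symm)
    subst hk
    exact Subtype.ext (hp.trans (by simp))
  have hp2 : Function.Injective p2 := by
    refine (injective_iff_map_eq_one _).2 fun d hd => ?_
    obtain ⟨k, i, hi, hp⟩ := hmem d d.2
    change (d : C × H).2 = 1 at hd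
    rw [hp] at hd
    have hi0 := hMj i hi ⟨k⁻¹, by rw [map_inv]; exact inv_eq_of_mul_eq_one_right hd⟩
    subst hi0
    rw [pow_zero, mul_one] at hd
    have hd' : j k = 1 := by simpa using hd
    have hk : k = 1 := hj (hd'.trans (map_one j).symm)
    subst hk
    exact Subtype.ext (hp.trans (by simp))
  let g : K × Fin n → D := fun a => ⟨_, hin a.1 a.2⟩
  have hgi : Function.Injective g := by
    rintro ⟨k, i⟩ ⟨l, i'⟩ e
    have e1 : φ k * y ^ (i : ℕ) = φ l * y ^ (i' : ℕ) := congrArg (fun d : D => (d : C × H).1) e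
    have key : ∀ (k l : K) (a b : Fin n), (a : ℕ) ≤ b → φ k * y ^ (a : ℕ) = φ l * y ^ (b : ℕ) → k = l ∧ a = b := by
      intro k l a b hab e1
      rw [show (b : ℕ) = (b - a) + a by omega, pow_add, ← mul_assoc, mul_left_inj] at e1
      have h0 := hyL ((b : ℕ) - a) (by omega) ⟨l⁻¹ * k, by rw [map_mul, map_inv, e1, inv_mul_cancel_left]⟩
      rw [h0, pow_zero, mul_one] at e1
      exact ⟨hφ e1, Fin.ext (by omega)⟩
    rcases le_total (i : ℕ) (i' : ℕ) with hle | hle
    · obtain ⟨rfl, rfl⟩ := key k l i i' hle e1; rfl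
    · obtain ⟨rfl, rfl⟩ := key l k i' i hle e1.symm; rfl
  have hDc : n * Nat.card K ≤ Nat.card D := by
    have := Nat.card_le_card_of_injective g hgi
    rwa [Nat.card_prod, Nat.card_fin, mul_comm] at this
  have b1 : Function.Bijective p1 := (Nat.bijective_iff_injective_and_card _).2
    ⟨hp1, le_antisymm (Nat.card_le_card_of_injective _ hp1) (hC ▸ hDc)⟩
  have b2 : Function.Bijective p2 := (Nat.bijective_iff_injective_and_card _).2
    ⟨hp2, le_antisymm (Nat.card_le_card_of_injective _ hp2) (hH ▸ hDc)⟩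
  exact ⟨(MulEquiv.ofBijective p1 b1).symm.trans (MulEquiv.ofBijective p2 b2)⟩

end Cfsg.Agent.Fus.LenSeven
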