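import Cfsg.Agent.Lib.Fus.LengthSeven.Shape

/-!
# Orders of the essential subgroups (for S3249)
-/

set_option autoImplicit false
set_option linter.style.haveILetI false

namespace Cfsg.Agent.Fus.LenSeven

open Subgroup LenEight

universe u

variable {G : Type u} [Group G] [Finite G] {S : Sylow 2 G} {U : Subgroup G} (hb : Big G S) (hU : Ess S U)
include hb hU

theorem Ess.len_primes {t k : ℕ} (hN : Nat.card (normalizer (U : Set G)) = 2 ^ t * k) (hk : k ≠ 0) :
    t + k.primeFactorsList.length ≤ 6 := by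
  have h := hb.toHyp.solvable_len (hU.solvable hb) (hU.N_ne_top hb)
  rwa [hN, (Nat.perm_primeFactorsList_mul (by positivity) hk).length_eq, List.length_append,
    Nat.Prime.primeFactorsList_pow Nat.prime_two, List.length_replicate] at h

theorem Ess.nS_ne (h6 : Nat.card (S : Subgroup G) = 2 ^ 6) : nS S U ≠ (S : Subgroup G) := fun e => by
  have h1 := hb.toHyp.max_of_six h6 (e ▸ inf_le_right : (S : Subgroup G) ≤ normalizer (U : Set G))
    (hU.N_ne_top hb)
  obtain ⟨y, hy, hyo, hyC⟩ := hU.act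
  exact not_mem_of_odd S.isPGroup' hyo (fun e1 => hyC (e1 ▸ one_mem _)) (h1 ▸ hy)

theorem Ess.orders :
    ∃ t k, Nat.card (nS S U) = 2 ^ t ∧ Nat.card (normalizer (U : Set G)) = 2 ^ t * k ∧ Odd k ∧ 3 ≤ k ∧
      t ≤ 5 ∧ t + k.primeFactorsList.length ≤ 6 := by
  haveI : Fact (Nat.Prime 2) := ⟨Nat.prime_two⟩
  obtain ⟨t, ht⟩ := card_two_pow (H := nS S U) inf_le_left
  set N := normalizer (U : Set G) with hNdef
  set k := (nS S U).relIndex N with hkdef
  have hN : Nat.card N = 2 ^ t * k := by rw [← ht, hkdef, Grp.card_mul_relIndex inf_le_right]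
  have hodd : Odd k := Nat.not_even_iff_odd.1 fun he => hU.syl (even_iff_two_dvd.1 he)
  have hk1 : k ≠ 1 := fun e => by
    obtain ⟨y, hy, hyo, hyC⟩ := hU.act
    refine not_mem_of_odd S.isPGroup' hyo (fun e1 => hyC (e1 ▸ one_mem _)) ?_
    exact ((eq_of_le_of_card_ge (inf_le_right : nS S U ≤ N) (by rw [hN, e, ht, mul_one])).ge hy).1
  have hk3 : 3 ≤ k := by obtain ⟨j, hj⟩ := hodd; omega
  refine ⟨t, k, ht, hN, hodd, hk3, ?_, hU.len_primes hb hN (by omega)⟩
  obtain ⟨a, ha, -, ha6⟩ := hb.card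
  have h1 := Nat.pow_dvd_pow_iff_le_right' (b := 0) |>.1 (by
    simpa using (ht ▸ ha ▸ card_dvd_of_le (inf_le_left : nS S U ≤ (S : Subgroup G)) : (2 : ℕ) ^ t ∣ 2 ^ a))
  by_contra hlt
  have h2 : t = 6 := by omega
  refine hU.nS_ne hb (by rw [ha]; congr 1; omega) (eq_of_le_of_card_ge inf_le_left ?_)
  rw [ha, ht]
  exact Nat.pow_le_pow_right two_pos (by omega)

theorem Ess.eight_or :
    (Nat.card U = 8 ∧ (Nat.card (nS S U) = 16 ∨ Nat.card (nS S U) = 32)) ∨
      (Nat.card U = 16 ∧ Nat.card (nS S U) = 32) := by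
  obtain ⟨t, k, ht, -, -, -, ht5, -⟩ := hU.orders hb
  obtain ⟨u, hu⟩ := card_two_pow hU.le
  have h1 := hU.eight_le hb
  have h2 := double_le (S := S) inf_le_left hU.lt_nS
  rw [hu] at h1 h2
  rw [ht] at h2
  have h3 : 3 ≤ u := by
    by_contra hh
    have := Nat.pow_le_pow_right (show 0 < 2 by norm_num) (show u ≤ 2 by omega)
    omega
  have h4 : u + 1 ≤ t := by
    by_contra hh
    have := Nat.pow_le_pow_right (show 0 < 2 by norm_num) (show t ≤ u by omega)
    have := Nat.two_pow_pos u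
    omega
  rw [hu, ht]
  have : u = 3 ∨ u = 4 := by omega
  rcases this with rfl | rfl
  · left; refine ⟨rfl, ?_⟩
    rcases (show t = 4 ∨ t = 5 by omega) with rfl | rfl <;> norm_num
  · right; exact ⟨rfl, by rw [show t = 5 by omega]; norm_num⟩

/-- With a Sylow subgroup of order 32 the odd part is a prime. -/
theorem Ess.prime_part (h32 : Nat.card (nS S U) = 32) :
    ∃ k, k.Prime ∧ k ≠ 2 ∧ Nat.card (normalizer (U : Set G)) = 32 * k ∧
      (Nat.card (normalizer (U : Set G))).primeFactorsList.length = 6 := by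
  obtain ⟨t, k, ht, hN, hodd, hk3, -, hlen⟩ := hU.orders hb
  have ht5 : t = 5 := Nat.pow_right_injective le_rfl (ht.symm.trans (h32.trans (by norm_num : 32 = 2 ^ 5)))
  subst ht5
  have hp : k.Prime := by
    rcases hlist : k.primeFactorsList with - | ⟨p, - | ⟨q, l⟩⟩
    · rcases ((Nat.primeFactorsList_eq_nil _).1 hlist) with e | e <;> omega
    · have := Nat.prod_primeFactorsList (n := k) (by omega)
      rw [hlist] at this
      simp at this
      exact this ▸ Nat.prime_of_mem_primeFactorsList (hlist ▸ List.mem_singleton_self p : p ∈ k.primeFactorsList)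
    · simp [hlist] at hlen
      omega
  refine ⟨k, hp, by omega, hN.trans (by norm_num), ?_⟩
  rw [hN, (Nat.perm_primeFactorsList_mul (by positivity) (by omega)).length_eq, List.length_append,
    Nat.Prime.primeFactorsList_pow Nat.prime_two, List.length_replicate, Nat.primeFactorsList_prime hp]
  rfl

/-- The normalizer of an essential subgroup with a Sylow subgroup of order 32 is maximal. -/
theorem Ess.maximal (h32 : Nat.card (nS S U) = 32) {K : Subgroup G} (hle : normalizer (U : Set G) ≤ K)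
    (hK : K ≠ ⊤) : normalizer (U : Set G) = K := by
  obtain ⟨k, -, -, -, h6⟩ := hU.prime_part hb h32
  exact hb.toHyp.eq_of_full hle (hU.solvable hb) h6 hK

theorem Ess.not_two_index :
    ¬ ∃ i : ℕ, (U ⊔ centralizer (U : Set G)).relIndex (normalizer (U : Set G)) = 2 ^ i := by
  haveI : Fact (Nat.Prime 2) := ⟨Nat.prime_two⟩
  rintro ⟨i, hi⟩
  set N := normalizer (U : Set G)
  have he : Cfsg.pPrimePCore 2 ↥N = (U ⊔ centralizer (U : Set G)).subgroupOf N := by
    ext x; exact hU.map_core x.2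
  haveI hn : (Cfsg.pPrimePCore 2 ↥N).Normal := by
    haveI : (Cfsg.pPrimeCore 2 ↥N).Normal := Grp.pPrimeCore_isNormal
    exact (Grp.pCore_isNormal (p := 2)).comap _
  have hp : IsPGroup 2 (↥N ⧸ Cfsg.pPrimePCore 2 ↥N) :=
    IsPGroup.of_card (n := i) (by rw [← index_eq_card, he, ← hi]; rfl)
  obtain ⟨t, ht, htn⟩ := hU.exists_not_mem
  refine htn ((hU.map_core ht.2).1 ((QuotientGroup.eq_one_iff _).1 ?_))
  have hb := Ess.core_bot (U := U) (⊤ : Subgroup (↥N ⧸ Cfsg.pPrimePCore 2 ↥N)) inferInstance (hp.to_subgroup _)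
  exact mem_bot.1 (hb ▸ mem_top _)

theorem Ess.cent_le (h32 : Nat.card (nS S U) = 32) : centralizer (U : Set G) ≤ U := by
  haveI : Fact (Nat.Prime 2) := ⟨Nat.prime_two⟩
  obtain ⟨k, hk, hk2, hN, -⟩ := hU.prime_part hb h32
  set N := normalizer (U : Set G)
  set C := centralizer (U : Set G) with hC
  have hCN : C ≤ N := centralizer_le_normalizer _
  have hd : Nat.card C ∣ 32 * k := hN ▸ card_dvd_of_le hCN
  by_cases hkd : k ∣ Nat.card C
  · exfalso
    apply hU.not_two_index hb
    have h1 : k ∣ Nat.card ↥(U ⊔ C) := hkd.trans (card_dvd_of_le le_sup_right)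
    have hle : U ⊔ C ≤ N := sup_le le_normalizer hCN
    have h2 := Grp.card_mul_relIndex hle
    obtain ⟨m, hm⟩ := h1
    have h3 : (U ⊔ C).relIndex N ∣ 2 ^ 5 := by
      refine ⟨m, Nat.eq_of_mul_eq_mul_left hk.pos ?_⟩
      calc k * 2 ^ 5 = Nat.card ↥(U ⊔ C) * (U ⊔ C).relIndex N := by rw [h2, hN]; ring
        _ = _ := by rw [hm]; ring
    obtain ⟨i, -, hi⟩ := (Nat.dvd_prime_pow Nat.prime_two).1 h3
    exact ⟨i, hi⟩
  · intro c hc
    have hcp : IsPGroup 2 C := by
      obtain ⟨i, -, hi⟩ := (Nat.dvd_prime_pow Nat.prime_two).1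
        ((Nat.Coprime.dvd_mul_right ((hk.coprime_iff_not_dvd.2 hkd).symm)).1
          (show Nat.card C ∣ 2 ^ 5 * k by norm_num; exact hd))
      exact IsPGroup.of_card hi
    -- a normal 2-subgroup of `N` lies in the Sylow subgroup
    have hTp : IsPGroup 2 ((nS S U).subgroupOf N) := (S.isPGroup'.to_le inf_le_left).comap_subtype
    haveI : (C.subgroupOf N).Normal := ⟨fun a ha g => mem_subgroupOf.2 (mem_centralizer_iff.2 fun u hu => by
      have h1 := mem_centralizer_iff.1 (mem_subgroupOf.1 ha) _ ((mem_normalizer_iff.1 (inv_mem g.2) u).1 hu)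
      have := congrArg (fun t => (g : G) * t * (g : G)⁻¹) h1
      simpa [mul_assoc] using this)⟩
    have hcN : IsPGroup 2 (C.subgroupOf N) := hcp.of_equiv (subgroupOfEquivOfLe hCN).symm
    have hle := hcN.le_sylow_of_normal (hTp.toSylow hU.syl)
    exact hU.cent ⟨(hle (show (⟨c, hCN hc⟩ : N) ∈ C.subgroupOf N from hc)).1, hc⟩

omit hU in
/-- A Sylow subgroup of order 64 is the centralizer of its central elements. -/
theorem Big.centralizer_eq (h6 : Nat.card (S : Subgroup G) = 2 ^ 6) {z : G} (hz : z ≠ 1)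
    (hzc : ∀ x ∈ (S : Subgroup G), x * z = z * x) : centralizer ({z} : Set G) = S :=
  hb.toHyp.max_of_six h6 (fun x hx => mem_centralizer_singleton_iff.2 (hzc x hx))
    (hb.toHyp.centralizer_ne_top hz)

end Cfsg.Agent.Fus.LenSeven
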